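import Mathlib
import Cfsg.Agent.S3347
import Cfsg.Agent.S2807
import Cfsg.Agent.Lib.BG6.PLength
import Cfsg.Agent.Lib.Core.CoprimeAbelian
import Cfsg.Agent.Lib.Transfer.NormalComplement

/-! Tools for `3`-local recognition: Sylow criterion, Burnside, Smith–Tyrer and Yoshida in
ambient form, and quotients of centralisers by the centralised element. -/

set_option autoImplicit false
set_option linter.style.haveILetI false
set_option linter.unusedSectionVars false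

namespace H20.L43

open Cfsg Subgroup

variable {G : Type*} [Group G]

instance fact3 : Fact (Nat.Prime 3) := ⟨Nat.prime_three⟩

theorem mem_norm [Finite G] {R : Subgroup G} {g : G} (h : ∀ x ∈ R, g * x * g⁻¹ ∈ R) :
    g ∈ normalizer (R : Set G) := mem_normalizer_fintype h

theorem conj_mem {R : Subgroup G} {g x : G} (h : g ∈ normalizer (R : Set G)) (hx : x ∈ R) :
    g * x * g⁻¹ ∈ R := (mem_normalizer_iff.1 h x).1 hx

theorem pg3 {R : Subgroup G} {n : ℕ} (h : ∀ x ∈ R, x ^ 3 ^ n = 1) : IsPGroup 3 R :=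
  fun x => ⟨n, Subtype.ext (h x x.2)⟩

theorem cube_inv {x : G} (h : x ^ 3 = 1) : x⁻¹ * x⁻¹ = x := by
  rw [← mul_left_inj (x ^ 2), ← pow_succ', h]; group

variable [Finite G]

/-- a Sylow criterion -/
theorem syl {N R : Subgroup G} (hR : IsPGroup 3 R)
    (h : ∀ g ∈ N, (∀ x ∈ R, g * x * g⁻¹ ∈ R) → g ^ 3 ∈ R → g ∈ R) (hRN : R ≤ N) :
    ∃ S : Sylow 3 N, (S : Subgroup N) = R.subgroupOf N := by
  obtain ⟨S, hS⟩ := (H4.isPGroup_subgroupOf hR N).exists_le_sylow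
  refine ⟨S, (hS.eq_or_lt.resolve_right fun hl => ?_).symm⟩
  obtain ⟨g, ⟨g1, g2⟩, g3⟩ := SetLike.exists_of_lt (H4.lt_inf_normalizer_of_lt S.isPGroup' hl)
  obtain ⟨k, hk⟩ := S.isPGroup' ⟨g, g1⟩
  have hk' : g ^ 3 ^ k = 1 := congrArg Subtype.val hk
  have key : ∀ n, g ^ 3 ^ n ∈ R.subgroupOf N → g ∈ R.subgroupOf N := fun n => by
    induction n with
    | zero => simp
    | succ n ih =>
      intro e
      refine ih (h _ (g ^ 3 ^ n).2 (fun x hx => ?_) ?_)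
      · exact conj_mem (pow_mem g2 (3 ^ n)) (x := ⟨x, hRN hx⟩) hx
      · rwa [pow_succ, pow_mul] at e
  exact g3 (key k (hk' ▸ one_mem _))

/-- the `3'`-core of a subgroup -/
def O3' (N : Subgroup G) : Subgroup G := (pPrimeCore 3 N).map N.subtype

theorem force_eq_O3' : True := by
  have := @O3'.eq_1.{0}
  trivial

theorem O3'_le (N : Subgroup G) : O3' N ≤ N := map_subtype_le _

theorem O3'_cop (N : Subgroup G) : (Nat.card (O3' N)).Coprime 3 :=
  H1.coprime_card_map_subtype_pPrimeCore N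

theorem O3'_norm {N : Subgroup G} {g x : G} (h : ∀ x ∈ N, g * x * g⁻¹ ∈ N) (hx : x ∈ O3' N) :
    g * x * g⁻¹ ∈ O3' N :=
  conj_mem (H1.normalizer_le_normalizer_map_subtype_pPrimeCore N (mem_norm h)) hx

theorem dec_of_len {N R : Subgroup G} {S : Sylow 3 N} (hS : (S : Subgroup N) = R.subgroupOf N)
    (hRN : R ≤ N) (h : PLengthLE 3 1 N) {g : G} (hg : g ∈ N) :
    ∃ u ∈ O3' N, ∀ x ∈ R, u⁻¹ * g * x * (u⁻¹ * g)⁻¹ ∈ R := by
  obtain ⟨u, hu, n, hn, e⟩ := mem_sup_of_normal_left.1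
    ((H49.pPrimeCore_sup_normalizer_sylow h S).ge (mem_top (⟨g, hg⟩ : N)))
  refine ⟨u, mem_map_of_mem _ hu, fun x hx => ?_⟩
  have e1 : (u : G)⁻¹ * g = n := by
    rw [inv_mul_eq_iff_eq_mul]; exact (congrArg Subtype.val e).symm
  rw [e1]
  rw [hS] at hn
  exact conj_mem hn (x := ⟨x, hRN hx⟩) hx

/-- Burnside's theorem, ambient form -/
theorem bur {N R : Subgroup G} (hR : IsPGroup 3 R) (hRN : R ≤ N)
    (h : ∀ g ∈ N, (∀ x ∈ R, g * x * g⁻¹ ∈ R) → g ∈ R)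
    (hc : ∀ x ∈ R, ∀ y ∈ R, x * y = y * x) {g : G} (hg : g ∈ N) :
    ∃ u ∈ O3' N, u⁻¹ * g ∈ R := by
  obtain ⟨S, hS⟩ := syl hR (fun g hg h1 _ => h g hg h1) hRN
  have := H4.hasNormalPComplement_of_normalizer_le_centralizer S fun n hn => by
    have hn' : n ∈ normalizer ((S : Subgroup N) : Set N) := hn
    rw [hS] at hn'
    have : (n : G) ∈ R := h _ n.2 fun x hx => conj_mem hn' (x := ⟨x, hRN hx⟩) hx
    refine mem_centralizer_iff.2 fun x hx => Subtype.ext (hc _ ?_ _ this)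
    have hx' : x ∈ (S : Subgroup N) := hx
    rwa [hS] at hx'
  obtain ⟨u, hu, e⟩ := dec_of_len hS hRN (H49.pLengthLE_one_of_hasNormalPComplement this) hg
  exact ⟨u, hu, h _ (mul_mem (inv_mem (O3'_le N hu)) hg) e⟩

/-- conjugacy of Sylow subgroups, ambient form -/
theorem conj_into {N R T : Subgroup G} (hR : IsPGroup 3 R)
    (h : ∀ g ∈ N, (∀ x ∈ R, g * x * g⁻¹ ∈ R) → g ^ 3 ∈ R → g ∈ R) (hRN : R ≤ N)
    (hT : IsPGroup 3 T) (hTN : T ≤ N) : ∃ k ∈ N, ∀ t ∈ T, k * t * k⁻¹ ∈ R := by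
  obtain ⟨S, hS⟩ := syl hR h hRN
  exact H4.exists_conj_le_of_not_dvd_relIndex hR (by
    rw [relIndex, ← hS]; exact S.not_dvd_index) hT hTN

theorem conj_into1 {N R : Subgroup G} (hR : IsPGroup 3 R)
    (h : ∀ g ∈ N, (∀ x ∈ R, g * x * g⁻¹ ∈ R) → g ^ 3 ∈ R → g ∈ R) (hRN : R ≤ N)
    {t : G} (h3 : t ^ 3 = 1) (ht : t ∈ N) : ∃ k ∈ N, k * t * k⁻¹ ∈ R := by
  obtain ⟨k, hk, e⟩ := conj_into hR h hRN (T := zpowers t) (pg3 (n := 1) (by
    rintro _ ⟨i, rfl⟩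
    simp only
    rw [← zpow_natCast, ← zpow_mul, mul_comm, zpow_mul, zpow_natCast, pow_one, h3, one_zpow]))
    (zpowers_le.2 ht)
  exact ⟨k, hk, e t (mem_zpowers t)⟩

/-- the Frattini argument, ambient form -/
theorem frat {N R : Subgroup G} [n : N.Normal] (hR : IsPGroup 3 R)
    (h : ∀ g ∈ N, (∀ x ∈ R, g * x * g⁻¹ ∈ R) → g ^ 3 ∈ R → g ∈ R) (hRN : R ≤ N) (g : G) :
    ∃ k ∈ N, ∀ x ∈ R, k * g * x * (k * g)⁻¹ ∈ R := by
  obtain ⟨k, hk, e⟩ := conj_into hR h hRN (H4.isPGroup_conj_smul hR g) (by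
    rintro _ ⟨x, hx, rfl⟩; exact n.conj_mem x (hRN hx) g)
  refine ⟨k, hk, fun x hx => ?_⟩
  have := e _ (smul_mem_pointwise_smul _ _ _ hx)
  simpa [mul_assoc] using this

/-- a trivial intersection Sylow subgroup which is self-normalising -/
theorem frob {N R : Subgroup G} (hR : IsPGroup 3 R) (hRN : R ≤ N) {z : G} (hz : z ∈ R) (z1 : z ≠ 1)
    (h : ∀ g ∈ N, ∀ x ∈ R, x ≠ 1 → g * x * g⁻¹ ∈ R → g ∈ R) {g : G} (hg : g ∈ N) :
    ∃ u ∈ O3' N, u⁻¹ * g ∈ R := by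
  obtain ⟨S, hS⟩ := syl hR (fun g hg h1 _ => h g hg z hz z1 (h1 z hz)) hRN
  have mem : ∀ {x : N}, x ∈ (S : Subgroup N) ↔ (x : G) ∈ R := fun {x} => by rw [hS]; rfl
  have := (H4.hasNormalPComplement_iff_controls_fusion S).2 fun x hx g hg => by
    by_cases e : x = 1
    · exact ⟨1, one_mem _, by simp [e]⟩
    · exact ⟨g, mem.2 (h _ g.2 _ (mem.1 hx) (fun e' => e (Subtype.ext e')) (mem.1 hg)), rfl⟩
  obtain ⟨u, hu, e⟩ := dec_of_len hS hRN (H49.pLengthLE_one_of_hasNormalPComplement this) hg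
  exact ⟨u, hu, h _ (mul_mem (inv_mem (O3'_le N hu)) hg) z hz z1 (e z hz)⟩

/-- the Smith–Tyrer theorem, ambient form -/
theorem st {N R : Subgroup G} (h3 : ∀ x ∈ R, x ^ 3 = 1) (hRN : R ≤ N)
    (hc : ∀ x ∈ R, ∀ y ∈ R, x * y = y * x) {a b : G} (ha : a ∈ R) (hb : b ∈ R) (a1 : a ≠ 1)
    (hab : b ∉ zpowers a) {r : G} (hr : r ∈ N) (r2 : r * r = 1)
    (hi : ∀ x ∈ R, r * x * r⁻¹ = x⁻¹)
    (h : ∀ g ∈ N, (∀ x ∈ R, g * x * g⁻¹ ∈ R) → g ∈ R ∨ r * g ∈ R) {g : G} (hg : g ∈ N) :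
    ∃ u ∈ O3' N, u⁻¹ * g ∈ R ∨ r * (u⁻¹ * g) ∈ R := by
  have rn : r ∉ R := fun e => a1 (by
    have := hi a ha
    rw [hc r e a ha, mul_inv_cancel_right] at this
    rw [← cube_inv (h3 a ha), ← this]; nth_rewrite 2 [this]; simp)
  have ri : r⁻¹ = r := inv_eq_of_mul_eq_one_right r2
  obtain ⟨S, hS⟩ := syl (pg3 (n := 1) h3) (fun g hg h1 h2 => (h g hg h1).elim id fun e => by
    exfalso
    have e1 : g * g = 1 := by
      have := hi _ e
      rw [ri, ← mul_assoc, r2, one_mul, mul_inv_rev, ri] at this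
      nth_rewrite 1 [mul_right_cancel this]
      exact inv_mul_cancel g
    rw [pow_succ, sq, e1, one_mul] at h2
    exact rn (by simpa using mul_mem e (inv_mem h2))) hRN
  have mem : ∀ {x : N}, x ∈ (S : Subgroup N) ↔ (x : G) ∈ R := fun {x} => by rw [hS]; rfl
  have hlen : PLengthLE 3 1 N := by
    refine (Cfsg.Agent.S3347.result 3 (by omega) S ⟨⟨fun x y => Subtype.ext (Subtype.ext
      (hc _ (mem.1 x.2) _ (mem.1 y.2)))⟩⟩ (fun hcy => ?_) ?_).resolve_left fun e => e ?_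
    · obtain ⟨c, hcy⟩ := hcy.exists_generator
      obtain ⟨i, ei⟩ := hcy ⟨⟨a, hRN ha⟩, mem.2 ha⟩
      obtain ⟨j, ej⟩ := hcy ⟨⟨b, hRN hb⟩, mem.2 hb⟩
      have ei' : ((c : N) : G) ^ i = a := congrArg (fun x : (S : Subgroup N) => ((x : N) : G)) ei
      have ej' : ((c : N) : G) ^ j = b := congrArg (fun x : (S : Subgroup N) => ((x : N) : G)) ej
      have c3 := h3 _ (mem.1 c.2)
      generalize ((c : N) : G) = d at *
      have d3 : d ^ (3 : ℤ) = 1 := by exact_mod_cast c3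
      have : i % 3 = 0 ∨ (i * i * j - j) % 3 = 0 := by
        rw [Int.sub_emod, Int.mul_emod, Int.mul_emod i]
        have : i % 3 = 0 ∨ i % 3 = 1 ∨ i % 3 = 2 := by omega
        rcases this with h | h | h <;> rw [h] <;> omega
      rcases this with h0 | h0
      · exact a1 (by rw [← ei', ← Int.mul_ediv_add_emod i 3, h0, add_zero, zpow_mul, d3, one_zpow])
      · refine hab ⟨i * j, ?_⟩
        obtain ⟨k, hk⟩ := Int.dvd_of_emod_eq_zero h0
        simp only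
        rw [← ei', ← ej', ← zpow_mul, show i * (i * j) = j + 3 * k by linarith, zpow_add, zpow_mul, d3,
          one_zpow, mul_one]
    · refine index_eq_two_iff.2 ⟨⟨⟨r, hr⟩, mem_norm fun x hx => mem.2 (by
        simpa [hi _ (mem.1 hx)] using mem.1 hx)⟩, fun n => ?_⟩
      have cR : ∀ y : N, (y : G) ∈ R → y ∈ centralizer ((S : Subgroup N) : Set N) := fun y hy =>
        mem_centralizer_iff.2 fun x hx => Subtype.ext (hc _ (mem.1 hx) _ hy)
      have rc : (⟨r, hr⟩ : N) ∉ centralizer ((S : Subgroup N) : Set N) := fun e => a1 (by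
        have := congrArg Subtype.val (mem_centralizer_iff.1 e ⟨a, hRN ha⟩ (mem.2 ha))
        have e2 := hi a ha
        simp only [coe_mul] at this
        rw [← this, mul_inv_cancel_right] at e2
        rw [← cube_inv (h3 a ha), ← e2]; nth_rewrite 2 [e2]; simp)
      simp only [mem_subgroupOf, coe_mul]
      rcases h _ n.1.2 (fun x hx => mem.1 (conj_mem n.2 ((mem (x := ⟨x, hRN hx⟩)).2 hx))) with e | e
      · exact Or.inr ⟨cR _ e, fun e' => rc (by simpa using mul_mem (inv_mem (cR _ e)) e')⟩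
      · have e' : n.1 * ⟨r, hr⟩ ∈ centralizer ((S : Subgroup N) : Set N) := cR _ (by
          have := hi _ e
          rw [ri, ← mul_assoc, r2, one_mul] at this
          simp only [coe_mul]
          rw [this]; exact inv_mem e)
        exact Or.inl ⟨e', fun e2 => rc (by simpa using mul_mem (inv_mem e2) e')⟩
    · refine eq_top_iff.2 ((H4.pResidual_sup_sylow S).ge.trans (sup_le le_rfl fun x hx => ?_))
      have n := H4.pResidual_normal 3 N
      have m := H4.mem_pResidual_of_coprime (n := 3) (g := (⟨r, hr⟩ : N)) (Nat.Coprime.of_dvd_left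
        (orderOf_dvd_of_pow_eq_one (n := 2) (Subtype.ext (by simpa [sq] using r2))) (by norm_num))
      have := mul_mem m (n.conj_mem _ (inv_mem m) x)
      have e : (⟨r, hr⟩ : N) * (x * (⟨r, hr⟩ : N)⁻¹ * x⁻¹) = x := Subtype.ext (by
        simp only [coe_mul, coe_inv]
        rw [← mul_assoc, ← mul_assoc, hi _ (mem.1 hx), cube_inv (h3 _ (mem.1 hx))])
      rwa [e] at this
  obtain ⟨u, hu, e⟩ := dec_of_len hS hRN hlen hg
  exact ⟨u, hu, h _ (mul_mem (inv_mem (O3'_le N hu)) hg) e⟩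

/-- Yoshida's transfer theorem for a Sylow subgroup of exponent three -/
theorem yosh {R M : Subgroup G} (h3 : ∀ x ∈ R, x ^ 3 = 1)
    (h : ∀ g, (∀ x ∈ R, g * x * g⁻¹ ∈ R) → g ^ 3 ∈ R → g ∈ R)
    (hM : ∀ g k, (∀ x ∈ R, g * x * g⁻¹ ∈ R) → (∀ x ∈ R, k * x * k⁻¹ ∈ R) →
      g * k * g⁻¹ * k⁻¹ ∈ M) {x : G} (hx : x ∈ R) (hx' : x ∈ commutator G) : x ∈ M := by
  obtain ⟨S0, hS0⟩ := (pg3 (n := 1) h3).exists_le_sylow
  obtain ⟨S, hS⟩ := syl (N := S0) (pg3 (n := 1) h3) (fun g _ => h g) hS0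
  have e : (S0 : Subgroup G) = R := by
    refine le_antisymm (fun g hg => ?_) hS0
    have : (S : Subgroup S0) = ⊤ := top_le_iff.1 (S.3 (S0.isPGroup'.to_subgroup ⊤) le_top).le
    rw [this] at hS
    exact (hS.le (mem_top (⟨g, hg⟩ : S0)) :)
  by_cases hne : (S0 : Subgroup G) ⊓ commutator G = (S0 : Subgroup G) ⊓
      ⁅normalizer ((S0 : Subgroup G) : Set G), normalizer ((S0 : Subgroup G) : Set G)⁆
  · rw [e] at hne
    exact commutator_le.2 (fun g hg k hk => hM g k (fun _ => conj_mem hg) fun _ => conj_mem hk)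
      (hne.le ⟨hx, hx'⟩).2
  obtain ⟨P, f, hf⟩ := Cfsg.Agent.S2807.result S0 hne
  exfalso
  have c9 : finRotate 9 ^ 3 ^ 2 = 1 := by decide
  obtain ⟨g, hg⟩ := H4.exists_conj_smul_le_sylow P (T := zpowers (finRotate 9)) (pg3 (n := 2) (by
    rintro _ ⟨i, rfl⟩
    simp only
    rw [← zpow_natCast, ← zpow_mul, mul_comm, zpow_mul, zpow_natCast, c9, one_zpow]))
  obtain ⟨y, hy⟩ := hf ⟨_, hg (smul_mem_pointwise_smul _ _ _ (mem_zpowers _))⟩
  have : f y ^ 3 = 1 := by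
    rw [← map_pow, show y ^ 3 = 1 from Subtype.ext (h3 _ (e ▸ y.2)), map_one]
  rw [hy] at this
  have := congrArg Subtype.val this
  simp only [MulAut.smul_def, MulAut.conj_apply, SubgroupClass.coe_pow, conj_pow, OneMemClass.coe_one,
    mul_inv_eq_one, mul_eq_left] at this
  exact absurd this (by decide)

/-- a self-normalising Sylow subgroup of exponent three with small derived subgroup -/
theorem a27 {P : Subgroup G} (h3 : ∀ x ∈ P, x ^ 3 = 1) {z : G} (hz : z ∈ P)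
    (hc : ∀ x ∈ P, ∀ y ∈ P, x * y * x⁻¹ * y⁻¹ ∈ zpowers z)
    (hzc : ∃ x ∈ P, ∃ y ∈ P, x * y * x⁻¹ * y⁻¹ = z)
    (hN : ∀ g, g * z * g⁻¹ ∈ zpowers z → g ∈ P)
    (hs : ∀ U : Subgroup G, (Nat.card U).Coprime 3 → (∀ y ∈ P, ∀ u ∈ U, y * u * y⁻¹ ∈ U) → U = ⊥)
    (g : G) : g ∈ P := by
  obtain ⟨x, hx, y, hy, e⟩ := hzc
  have h1 : ∀ g, (∀ x ∈ P, g * x * g⁻¹ ∈ P) → g ∈ P := fun g hg => hN g (by
    have := hc _ (hg x hx) _ (hg y hy)
    convert this using 1; rw [← e]; group)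
  have n : (commutator G).Normal := inferInstance
  have zc : z ∈ commutator G := e ▸ commutator_mem_commutator (mem_top x) (mem_top y)
  have hU := hs _ (O3'_cop (commutator G)) fun y _ u hu => O3'_norm (fun x hx => n.conj_mem x hx y) hu
  obtain ⟨u, hu, e2⟩ := bur (N := commutator G) (R := zpowers z) (pg3 (n := 1) fun x hx =>
      h3 x (zpowers_le.2 hz hx)) (zpowers_le.2 zc)
    (fun k hk hk' => yosh h3 (fun g hg _ => h1 g hg) (fun g k hg hk => hc _ (h1 g hg) _ (h1 k hk))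
      (hN k (hk' z (mem_zpowers z))) hk)
    (by rintro _ ⟨i, rfl⟩ _ ⟨j, rfl⟩; exact (Commute.zpow_zpow_self z i j).eq)
    (n.conj_mem z zc g)
  rw [hU, mem_bot] at hu
  exact hN g (by simpa [hu] using e2)

/-! ### The centraliser of an element modulo the element -/

/-- the centraliser -/
abbrev Ce (a : G) : Subgroup G := centralizer ({a} : Set G)

omit [Finite G] in
theorem mem_Ce {a g : G} : g ∈ Ce a ↔ g * a = a * g := mem_centralizer_singleton_iff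

instance zp_normal (a : G) : ((zpowers a).subgroupOf (Ce a)).Normal := ⟨fun n hn g => by
  obtain ⟨i, hi⟩ := mem_subgroupOf.1 hn
  refine mem_subgroupOf.2 ⟨i, ?_⟩
  have : Commute (g : G) (a ^ i) := (show Commute (g : G) a from mem_Ce.1 g.2).zpow_right i
  simp only [coe_mul, coe_inv] at hi ⊢
  rw [← hi, this.eq, mul_inv_cancel_right]⟩

/-- the centraliser modulo the element -/
abbrev Ga (a : G) := Ce a ⧸ (zpowers a).subgroupOf (Ce a)

open Classical in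
/-- the projection -/
noncomputable def pr (a g : G) : Ga a := if h : g ∈ Ce a then QuotientGroup.mk ⟨g, h⟩ else 1

theorem force_eq_pr : True := by
  have := @pr.eq_1.{0}
  trivial

variable {a : G}

theorem pr_eq {g : G} (h : g ∈ Ce a) : pr a g = QuotientGroup.mk ⟨g, h⟩ := dif_pos h

theorem pr_mul {g k : G} (hg : g ∈ Ce a) (hk : k ∈ Ce a) : pr a (g * k) = pr a g * pr a k := by
  rw [pr_eq hg, pr_eq hk, pr_eq (mul_mem hg hk)]; rfl

theorem pr_one : pr a 1 = 1 := by rw [pr_eq (one_mem _)]; rfl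

theorem pr_inv {g : G} (hg : g ∈ Ce a) : pr a g⁻¹ = (pr a g)⁻¹ := by
  rw [pr_eq hg, pr_eq (inv_mem hg)]; rfl

theorem pr_pow {g : G} (hg : g ∈ Ce a) (n : ℕ) : pr a (g ^ n) = pr a g ^ n := by
  rw [pr_eq hg, pr_eq (pow_mem hg n)]; rfl

theorem pr_conj {g k : G} (hg : g ∈ Ce a) (hk : k ∈ Ce a) :
    pr a g * pr a k * (pr a g)⁻¹ = pr a (g * k * g⁻¹) := by
  rw [pr_mul (mul_mem hg hk) (inv_mem hg), pr_mul hg hk, pr_inv hg]

theorem pr_surj (γ : Ga a) : ∃ g ∈ Ce a, pr a g = γ := by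
  obtain ⟨⟨g, hg⟩, rfl⟩ := QuotientGroup.mk_surjective γ
  exact ⟨g, hg, pr_eq hg⟩

theorem pr_eq_iff {g k : G} (hg : g ∈ Ce a) (hk : k ∈ Ce a) :
    pr a g = pr a k ↔ g⁻¹ * k ∈ zpowers a := by
  rw [pr_eq hg, pr_eq hk, QuotientGroup.eq]; rfl

theorem pr_eq_one {g : G} (hg : g ∈ Ce a) : pr a g = 1 ↔ g ∈ zpowers a := by
  rw [pr_eq hg, QuotientGroup.eq_one_iff]; rfl

/-- the image of a subgroup -/
def im (a : G) (K : Subgroup G) : Subgroup (Ga a) :=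
  (K.subgroupOf (Ce a)).map (QuotientGroup.mk' _)

/-- the preimage of a subgroup -/
def pre (a : G) (X : Subgroup (Ga a)) : Subgroup G :=
  (X.comap (QuotientGroup.mk' _)).map (Ce a).subtype

theorem force_eq_im : True := by
  have := @im.eq_1.{0}
  have := @pre.eq_1.{0}
  trivial

theorem mem_im {K : Subgroup G} {γ : Ga a} : γ ∈ im a K ↔ ∃ g ∈ K, g ∈ Ce a ∧ pr a g = γ :=
  ⟨fun ⟨g, hg, e⟩ => ⟨g, hg, g.2, (pr_eq g.2).trans e⟩,
    fun ⟨g, hg, h, e⟩ => ⟨⟨g, h⟩, hg, (pr_eq h).symm.trans e⟩⟩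

theorem pr_mem_im {K : Subgroup G} (hK : a ∈ K) {g : G} (hg : g ∈ Ce a) :
    pr a g ∈ im a K ↔ g ∈ K := by
  refine ⟨fun h => ?_, fun h => mem_im.2 ⟨g, h, hg, rfl⟩⟩
  obtain ⟨k, h1, h2, e⟩ := mem_im.1 h
  simpa using mul_mem h1 ((zpowers_le.2 hK) ((pr_eq_iff h2 hg).1 e))

theorem mem_pre {X : Subgroup (Ga a)} {g : G} : g ∈ pre a X ↔ g ∈ Ce a ∧ pr a g ∈ X :=
  ⟨by rintro ⟨k, hk, rfl⟩; exact ⟨k.2, by rw [coe_subtype, pr_eq k.2]; exact hk⟩,
    fun ⟨h, e⟩ => ⟨⟨g, h⟩, by rw [pr_eq h] at e; exact e, rfl⟩⟩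

theorem card_pre (X : Subgroup (Ga a)) : Nat.card (pre a X) = orderOf a * Nat.card X := by
  rw [pre, card_subtype, H1.card_comap_mk', Nat.card_congr (subgroupOfEquivOfLe
    (zpowers_le.2 (mem_Ce.2 rfl))).toEquiv, Nat.card_zpowers, mul_comm]

/-- signalizers in the quotient -/
theorem sig_quot {Y : Set G} (hY : ∀ y ∈ Y, y ∈ Ce a)
    (hs : ∀ U : Subgroup G, (Nat.card U).Coprime 3 → (∀ y ∈ Y, ∀ u ∈ U, y * u * y⁻¹ ∈ U) → U = ⊥)
    (a3 : a ^ 3 = 1) {X : Subgroup (Ga a)} (hX : (Nat.card X).Coprime 3)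
    (hn : ∀ y ∈ Y, ∀ u ∈ X, pr a y * u * (pr a y)⁻¹ ∈ X) : X = ⊥ := by
  have h0 := hs _ (O3'_cop (pre a X)) fun y hy u hu => O3'_norm (fun x hx => mem_pre.2
    ⟨mul_mem (mul_mem (hY y hy) (mem_pre.1 hx).1) (inv_mem (hY y hy)), by
      rw [← pr_conj (hY y hy) (mem_pre.1 hx).1]; exact hn y hy _ (mem_pre.1 hx).2⟩) hu
  let f : pre a X →* X := MonoidHom.mk' (fun g => ⟨pr a g, (mem_pre.1 g.2).2⟩) fun g k =>
    Subtype.ext (pr_mul (mem_pre.1 g.2).1 (mem_pre.1 k.2).1)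
  have h1 : HasNormalPComplement 3 (pre a X) := H4.hasNormalPComplement_of_ker_le_center f
    (fun g hg => mem_center_iff.2 fun k => Subtype.ext (by
      obtain ⟨i, hi⟩ := (pr_eq_one (mem_pre.1 g.2).1).1 (congrArg Subtype.val hg)
      simp only [coe_mul] at hi ⊢
      rw [← hi]
      exact ((show Commute (k : G) a from mem_Ce.1 (mem_pre.1 k.2).1).zpow_right i).eq))
    (H4.hasNormalPComplement_of_not_dvd ((Nat.Prime.coprime_iff_not_dvd Nat.prime_three).1 hX.symm))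
  have h2 : pResidual 3 (pre a X) ≤ pPrimeCore 3 (pre a X) := by
    haveI := H4.pResidual_normal 3 (pre a X)
    exact H1.le_pPrimeCore_of_not_dvd (H4.hasNormalPComplement_iff_not_dvd.1 h1)
  refine eq_bot_iff.2 fun γ hγ => ?_
  obtain ⟨g, hg, rfl⟩ := pr_surj γ
  have e1 : pr a g ^ Nat.card X = 1 := congrArg Subtype.val (pow_card_eq_one' (x := (⟨_, hγ⟩ : X)))
  have e2 : (g ^ 3) ^ Nat.card X = 1 := by
    rw [← pr_pow hg, pr_eq_one (pow_mem hg _)] at e1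
    obtain ⟨i, hi⟩ := e1
    simp only at hi
    rw [← pow_mul, mul_comm, pow_mul, ← hi, ← zpow_natCast, ← zpow_mul, mul_comm, zpow_mul,
      zpow_natCast, a3, one_zpow]
  have m : g ^ 3 ∈ pre a X := pow_mem (mem_pre.2 ⟨hg, hγ⟩) 3
  have : g ^ 3 ∈ O3' (pre a X) := mem_map_of_mem _ (h2 (H4.mem_pResidual_of_coprime
    (g := ⟨_, m⟩) (hX.of_dvd_left (orderOf_dvd_of_pow_eq_one (Subtype.ext e2)))))
  rw [h0, mem_bot] at this
  have e3 : pr a g ^ 3 = 1 := by rw [← pr_pow hg, this, pr_one]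
  have := pow_gcd_eq_one.2 ⟨e1, e3⟩
  rwa [hX, pow_one] at this

end H20.L43
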