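import Mathlib
import Cfsg.Agent.Lib.P3L.A1
import Cfsg.Agent.Lib.P3L.Tools

/-! The centraliser `3^{1+4}.SL₂(3)`: the hypothesis, and the action of the involution. -/

set_option autoImplicit false
set_option linter.unusedSectionVars false

namespace H20.L43

open Subgroup M4

/-- two by two matrices -/
@[ext] structure M2 where
  (a b c d : ZMod 3)
deriving DecidableEq, Fintype

instance : Mul M2 := ⟨fun p q => ⟨p.a * q.a + p.b * q.c, p.a * q.b + p.b * q.d,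
  p.c * q.a + p.d * q.c, p.c * q.b + p.d * q.d⟩⟩

instance : One M2 := ⟨⟨1, 0, 0, 1⟩⟩

theorem M2.mul_def (p q : M2) : p * q = ⟨p.a * q.a + p.b * q.c, p.a * q.b + p.b * q.d,
  p.c * q.a + p.d * q.c, p.c * q.b + p.d * q.d⟩ := rfl

theorem M2.one_def : (1 : M2) = ⟨1, 0, 0, 1⟩ := rfl

instance : Monoid M2 where
  mul_assoc p q r := by simp only [M2.mul_def, M2.ext_iff]; refine ⟨?_, ?_, ?_, ?_⟩ <;> ring
  one_mul p := by simp [M2.mul_def, M2.one_def]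
  mul_one p := by simp [M2.mul_def, M2.one_def]

/-- the determinant -/
def M2.det (p : M2) : ZMod 3 := p.a * p.d - p.b * p.c

/-- the inverse of an element of determinant one -/
def M2.iv (p : M2) : M2 := ⟨p.d, -p.b, -p.c, p.a⟩

/-- minus one -/
def mo : M2 := ⟨-1, 0, 0, -1⟩

theorem force_eq_M2 : True := by
  have := @M2.det.eq_1
  have := @M2.iv.eq_1
  have := @mo.eq_1
  trivial

variable {G : Type*} [Group G]

/-- `C(z)/Q ≅ SL₂(3)` -/
structure Hy0 (z : G) (Q : Subgroup G) (β : G → G → ZMod 3) (π : G → M2) : Prop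
    extends Ex z Q β where
  cQ : ∀ g, (∀ q ∈ Q, g * q = q * g) → g ∈ Q
  nC : ∀ g ∈ Ce z, ∀ q ∈ Q, g * q * g⁻¹ ∈ Q
  pm : ∀ g ∈ Ce z, ∀ k ∈ Ce z, π (g * k) = π g * π k
  pd : ∀ g ∈ Ce z, (π g).det = 1
  pk : ∀ g ∈ Ce z, π g = 1 ↔ g ∈ Q
  ps : ∀ m : M2, m.det = 1 → ∃ g ∈ Ce z, π g = m

/-- the full hypothesis -/
structure Hy (z : G) (Q : Subgroup G) (β : G → G → ZMod 3) (π : G → M2) : Prop
    extends Hy0 z Q β π where
  inv : ∀ g ∈ Ce z, π g = mo → ∀ q ∈ Q, g * q * g⁻¹ * q ∈ zpowers z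
  syl : ¬ 3 ^ 7 ∣ Nat.card G

variable {z : G} {Q : Subgroup G} {β : G → G → ZMod 3} {π : G → M2}

theorem cz {g : G} (hg : g ∈ Ce z) : g * z * g⁻¹ = z := by rw [mem_Ce.1 hg]; group

theorem cz' {g : G} (hg : g ∈ Ce z) : g * z * g⁻¹ ∈ zpowers z := by rw [cz hg]; exact mem_zpowers z

namespace Hy0

theorem QC (h : Hy0 z Q β π) {q : G} (hq : q ∈ Q) : q ∈ Ce z := mem_Ce.2 (h.zc q hq)

theorem pQ (h : Hy0 z Q β π) {q : G} (hq : q ∈ Q) : π q = 1 := (h.pk q (h.QC hq)).2 hq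

theorem pinv (h : Hy0 z Q β π) {g : G} (hg : g ∈ Ce z) : π g⁻¹ = (π g).iv := by
  have e := h.pm _ (inv_mem hg) _ hg
  rw [inv_mul_cancel, h.pQ (one_mem _)] at e
  have := h.pd g hg
  revert this e
  generalize π g⁻¹ = x
  generalize π g = y
  revert x y
  decide +kernel

theorem ppow (h : Hy0 z Q β π) {g : G} (hg : g ∈ Ce z) (n : ℕ) : π (g ^ n) = π g ^ n := by
  induction n with
  | zero => rw [pow_zero, pow_zero, h.pQ (one_mem _)]
  | succ n ih => rw [pow_succ, h.pm _ (pow_mem hg n) _ hg, ih, pow_succ]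

theorem pcj (h : Hy0 z Q β π) {g k : G} (hg : g ∈ Ce z) (hk : k ∈ Ce z) :
    π (g * k * g⁻¹) = π g * π k * (π g).iv := by
  rw [h.pm _ (mul_mem hg hk) _ (inv_mem hg), h.pm _ hg _ hk, h.pinv hg]

theorem peq (h : Hy0 z Q β π) {g k : G} (hg : g ∈ Ce z) (hk : k ∈ Ce z) (e : π g = π k) :
    g * k⁻¹ ∈ Q := by
  rw [← h.pk _ (mul_mem hg (inv_mem hk)), h.pm _ hg _ (inv_mem hk), h.pinv hk, ← e]
  have := h.pd g hg
  revert this
  generalize π g = y
  revert y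
  decide +kernel

theorem nCe (h : Hy0 z Q β π) {g k : G} (hg : g * z * g⁻¹ ∈ zpowers z) (hk : k ∈ Ce z) :
    g⁻¹ * k * g ∈ Ce z := by
  obtain ⟨e, he⟩ := (mem_zp h.z3).1 hg
  have := pw_comm (mem_Ce.1 hk).symm e
  rw [he] at this
  rw [mem_Ce]
  calc _ = g⁻¹ * (k * (g * z * g⁻¹)) * g := by group
    _ = _ := by rw [← this]; group

theorem ninv [Finite G] {g : G} (hg : g * z * g⁻¹ ∈ zpowers z) : g⁻¹ * z * g⁻¹⁻¹ ∈ zpowers z :=
  conj_mem (inv_mem (mem_norm (R := zpowers z) (by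
    rintro _ ⟨n, rfl⟩
    simpa using zpow_mem hg n))) (mem_zpowers z)

theorem nCe' [Finite G] (h : Hy0 z Q β π) {g k : G} (hg : g * z * g⁻¹ ∈ zpowers z) (hk : k ∈ Ce z) :
    g * k * g⁻¹ ∈ Ce z := by simpa using h.nCe (ninv hg) hk

theorem nQ [Finite G] (h : Hy0 z Q β π) {g : G} (hg : g * z * g⁻¹ ∈ zpowers z) (q : G)
    (hq : q ∈ Q) : g * q * g⁻¹ ∈ Q := by
  have hc := h.nCe' hg (h.QC hq)
  rw [← h.pk _ hc]
  have key : ∀ a : M2, a.det = 1 → a ^ 3 = 1 →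
      (∀ c : M2, c.det = 1 → (c * a * c.iv * a.iv) ^ 3 = 1) → a = 1 := by
    decide +kernel
  refine key _ (h.pd _ hc) (by rw [← h.ppow hc, conj_pow, h.q3 q hq]; simpa using h.pQ (one_mem _))
    fun c c1 => ?_
  obtain ⟨k, hk, rfl⟩ := h.ps c c1
  have hk' := mul_mem (mul_mem hk hc) (inv_mem hk)
  rw [← h.pcj hk hc, ← h.pinv hc, ← h.pm _ hk' _ (inv_mem hc),
    ← h.ppow (mul_mem hk' (inv_mem hc))]
  have := h.q3 _ (mul_mem (h.nC _ (h.nCe hg hk) q hq) (inv_mem hq))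
  rw [show k * (g * q * g⁻¹) * k⁻¹ * (g * q * g⁻¹)⁻¹ =
    g * (g⁻¹ * k * g * q * (g⁻¹ * k * g)⁻¹ * q⁻¹) * g⁻¹ by group, conj_pow, this]
  simpa using h.pQ (one_mem _)

theorem exists_t (h : Hy0 z Q β π) : ∃ t ∈ Ce z, π t = mo ∧ t * t = 1 := by
  obtain ⟨g, hg, e⟩ := h.ps mo (by decide)
  refine ⟨g ^ 3, pow_mem hg 3, by rw [h.ppow hg, e]; decide, ?_⟩
  rw [← h.q3 _ ((h.pk _ (mul_mem hg hg)).1 (by rw [h.pm _ hg _ hg, e]; decide)), ← sq g, ← pow_mul, ← pow_add]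

end Hy0

theorem Sb.mt_mul [Finite G] {a b c d : G} (h : Hy0 z Q β π) (s : Sb z Q β a b c d) {g k : G}
    (hg : g * z * g⁻¹ ∈ zpowers z) (hk : k * z * k⁻¹ ∈ zpowers z) :
    mt β a b c d (g * k) = mt β a b c d g * mt β a b c d k := by
  have hgk : g * k * z * (g * k)⁻¹ ∈ zpowers z := by
    obtain ⟨e, he⟩ := (mem_zp h.z3).1 hk
    rw [show g * k * z * (g * k)⁻¹ = g * (k * z * k⁻¹) * g⁻¹ by group, ← he, pw_conj]
    exact pw_mem hg _
  refine s.mt_eq hgk (h.nQ hgk) fun q hq => ?_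
  rw [mv_mul, ← s.co_cj hk (h.nQ hk) hq, ← s.co_cj hg (h.nQ hg) (h.nQ hk q hq)]
  congr 1; group

theorem Sb.mt_pi [Finite G] {a b c d : G} (h : Hy0 z Q β π) (s : Sb z Q β a b c d) {g k : G}
    (hg : g ∈ Ce z) (hk : k ∈ Ce z) (e : π g = π k) : mt β a b c d g = mt β a b c d k := by
  have := s.mt_mul h (cz' (h.QC (h.peq hg hk e))) (cz' hk)
  rwa [s.mt_Q (h.peq hg hk e), one_mul, inv_mul_cancel_right] at this

/-- a noncentral factor involves the negative part -/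
theorem one_factor (K : M4 → Prop) {S N : M4} (hT : K (dg 1 (-1) 1 (-1))) (hS : K S) (hN : K N)
    (hm : ∀ m n, K m → K n → K (m * n))
    (hc : ∀ m, K m → m * dg 1 (-1) 1 (-1) = dg 1 (-1) 1 (-1) * m) (S3 : S * S * S = 1)
    (hk : ∀ m, K m → ∃ i : ℕ, ∀ x y, mv m (x, 0, y, 0) = mv (S ^ i) (x, 0, y, 0))
    (N2 : N * N = dg 1 (-1) 1 (-1)) {A B : AddSubgroup V4} (hA : ∀ m, K m → ∀ v ∈ A, mv m v ∈ A)
    (hB : ∀ m, K m → ∀ v ∈ B, mv m v ∈ B) (AB : A ≤ B)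
    (hmax : ∀ D : AddSubgroup V4, A < D → D < B → ∃ m, K m ∧ ∃ v ∈ D, mv m v ∉ D)
    (hnc : ∃ m, K m ∧ ∃ v ∈ B, mv m v - v ∉ A) :
    (∀ x y, (0, x, 0, y) ∈ B) ∧ ∃ x y, (0, x, 0, y) ∉ A := by
  suffices e : ∃ x y, (0, x, 0, y) ∈ B ∧ (0, x, 0, y) ∉ A by
    obtain ⟨x, y, h1, h2⟩ := e
    refine ⟨fun x' y' => ?_, x, y, h2⟩
    have h3 := hB N hN _ h1
    have c := hc N hN
    simp only [M4.ext_iff, dg] at c N2
    simp at c N2
    have key : ∀ p q r s x y x' y' : ZMod 3, p * p + q * r = -1 → p * q + q * s = 0 →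
        r * p + s * r = 0 → r * q + s * s = -1 → ¬(x = 0 ∧ y = 0) → ∃ i j : ZMod 3,
        x' = i * x + j * (p * x + q * y) ∧ y' = i * y + j * (r * x + s * y) := by decide +kernel
    obtain ⟨i, j, e1, e2⟩ := key N.a22 N.a24 N.a42 N.a44 x y x' y' (by grind) (by grind) (by grind)
      (by grind) fun e => h2 (by rw [e.1, e.2]; exact A.zero_mem)
    have := add_mem (B.nsmul_mem h1 i.val) (B.nsmul_mem h3 j.val)
    convert this using 1
    simp only [mv, Prod.ext_iff]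
    simp
    grind
  by_contra! hu
  let D : AddSubgroup V4 :=
    { carrier := {v | v ∈ B ∧ ∀ m, K m → mv m v - v ∈ A}
      add_mem' := fun {u v} hu hv => ⟨add_mem hu.1 hv.1, fun m k => by
        rw [mv_add, add_sub_add_comm]; exact add_mem (hu.2 m k) (hv.2 m k)⟩
      zero_mem' := ⟨zero_mem _, fun m _ => by simp [mv, Prod.mk_zero_zero]⟩
      neg_mem' := fun {u} hu => ⟨neg_mem hu.1, fun m k => by
        rw [mv_neg, ← neg_sub']; exact neg_mem (hu.2 m k)⟩ }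
  have AD : A ≤ D := fun v hv => ⟨AB hv, fun m k => sub_mem (hA m k v hv) hv⟩
  obtain ⟨m0, k0, v0, hv0, hv1⟩ := hnc
  have DA : D ≤ A := by
    by_contra e
    obtain ⟨m, k, v, hv, e⟩ := hmax D (lt_of_le_not_ge AD e)
      (lt_of_le_not_ge (fun v hv => hv.1) fun e => hv1 ((e hv0).2 m0 k0))
    refine e ⟨hB m k v hv.1, fun n kn => ?_⟩
    rw [← mv_mul]
    simpa using sub_mem (hv.2 _ (hm n m kn k)) (hv.2 m k)
  have st : ∀ x y, (x, 0, y, 0) ∈ B → mv S (x, 0, y, 0) - (x, 0, y, 0) ∈ A → (x, 0, y, 0) ∈ A :=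
    fun x y h1 h2 => DA ⟨h1, fun m k => by
      obtain ⟨i, e⟩ := hk m k
      rw [e]
      clear e
      induction i with
      | zero => simp [mv_one]
      | succ i ih =>
        have := hA S hS _ ih
        rw [sub_eq_add_neg, mv_add, mv_neg, ← mv_mul, ← pow_succ'] at this
        convert add_mem this h2 using 1
        abel⟩
  have c := hc S hS
  simp only [M4.ext_iff, dg] at c S3
  simp at c S3
  have nu : ∀ x y, mv S (x, 0, y, 0) - (x, 0, y, 0) =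
      ((S.a11 - 1) * x + S.a13 * y, 0, S.a31 * x + (S.a33 - 1) * y, 0) := fun x y => by
    simp only [mv, Prod.ext_iff]
    simp
    grind
  have nB : ∀ x y, (x, 0, y, 0) ∈ B →
      ((S.a11 - 1) * x + S.a13 * y, 0, S.a31 * x + (S.a33 - 1) * y, 0) ∈ B := fun x y h1 =>
    nu x y ▸ sub_mem (hB S hS _ h1) h1
  obtain ⟨x, y, u, v⟩ := v0
  have t0 := hB _ hT _ hv0
  have p1 : (x, 0, u, 0) ∈ B := by
    convert neg_mem (add_mem hv0 t0) using 1
    simp only [mv, dg, Prod.ext_iff]; simp; grind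
  have p2 : (0, y, 0, v) ∈ B := by
    convert sub_mem hv0 p1 using 1
    simp
  have p3 : (x, 0, u, 0) ∈ A := by
    refine st _ _ p1 ?_
    rw [nu]
    refine st _ _ (nB _ _ p1) ?_
    rw [nu]
    refine st _ _ (nB _ _ (nB _ _ p1)) ?_
    rw [nu]
    convert A.zero_mem using 1
    simp only [Prod.ext_iff]; simp; grind
  have p4 : (x, y, u, v) ∈ A := by
    convert add_mem p3 (hu _ _ p2) using 1
    simp
  exact hv1 (sub_mem (hA _ k0 _ p4) p4)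

end H20.L43
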