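import Mathlib
import Cfsg.Agent.Lib.P3L.A2

/-! The elementary abelian subgroup `W` of order `27` and the matrices realised on it. -/

set_option autoImplicit false
set_option linter.unusedSectionVars false

namespace H20.L43

open Subgroup M4

variable {G : Type*} [Group G]

/-- row vectors -/
abbrev V3 := ZMod 3 × ZMod 3 × ZMod 3

/-- the elements of `W` -/
def ww (w y z : G) (u : V3) : G := pw w u.1 * pw y u.2.1 * pw z u.2.2

/-- row vector times the lower block -/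
def ra (u : V3) (m : M4) : V3 :=
  (u.1 * m.a22 + u.2.1 * m.a32 + u.2.2 * m.a42, u.1 * m.a23 + u.2.1 * m.a33 + u.2.2 * m.a43,
    u.1 * m.a24 + u.2.1 * m.a34 + u.2.2 * m.a44)

/-- `g` acts on `W` as the lower block of `m` -/
def Rl (w y z g : G) (m : M4) : Prop := ∀ u, g⁻¹ * ww w y z u * g = ww w y z (ra u m)

theorem force_eq_A5 : True := by
  have := @ww.eq_1.{0}
  have := @ra.eq_1
  have := @Rl.eq_1.{0}
  trivial

theorem ra_mul (u : V3) {m n : M4} (hm : Pb m) : ra u (m * n) = ra (ra u m) n := by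
  simp only [ra, Prod.ext_iff]; simp [hm.2]; refine ⟨?_, ?_, ?_⟩ <;> ring

theorem ra_one (u : V3) : ra u 1 = u := by simp [ra]

/-- `W` is elementary abelian with basis `w, y, z` -/
structure Wd (w y z : G) : Prop where
  w3 : w ^ 3 = 1
  y3 : y ^ 3 = 1
  z3 : z ^ 3 = 1
  wy : w * y = y * w
  wz : w * z = z * w
  yz : y * z = z * y
  inj : ∀ u, ww w y z u = 1 → u = 0

variable {w y z : G}

theorem ww_zero : ww w y z 0 = 1 := by simp [ww]

theorem ww_w : ww w y z (1, 0, 0) = w := by simp [ww]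

theorem ww_y : ww w y z (0, 1, 0) = y := by simp [ww]

theorem ww_z (k : ZMod 3) : ww w y z (0, 0, k) = pw z k := by simp [ww]

namespace Wd

theorem add (h : Wd w y z) (u v : V3) : ww w y z (u + v) = ww w y z u * ww w y z v := by
  have c : ∀ {a b : G}, a * b = b * a → ∀ k l, pw a k * pw b l = pw b l * pw a k := fun e k l =>
    pw_comm (pw_comm e.symm l).symm k
  simp only [ww, Prod.fst_add, Prod.snd_add, pw_add h.w3, pw_add h.y3, pw_add h.z3, mul_assoc]
  congr 1
  rw [← mul_assoc (pw z _) (pw w _), ← c h.wz, mul_assoc, ← mul_assoc (pw z _) (pw y _), ← c h.yz,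
    ← mul_assoc (pw y _) (pw w _), ← c h.wy]
  simp only [mul_assoc]

theorem neg (h : Wd w y z) (u : V3) : ww w y z (-u) = (ww w y z u)⁻¹ :=
  eq_inv_of_mul_eq_one_left (by rw [← h.add, neg_add_cancel, ww_zero])

theorem comm (h : Wd w y z) (u v : V3) :
    ww w y z u * ww w y z v = ww w y z v * ww w y z u := by rw [← h.add, add_comm, h.add]

theorem inj' (h : Wd w y z) {u v : V3} (e : ww w y z u = ww w y z v) : u = v :=
  sub_eq_zero.1 (h.inj _ (by rw [sub_eq_add_neg, h.add, h.neg, e, mul_inv_cancel]))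

theorem smul (h : Wd w y z) (u : V3) (k : ZMod 3) : pw (ww w y z u) k = ww w y z (k • u) := by
  rcases zm3 k with rfl | rfl | rfl
  · simp [ww_zero]
  · simp
  · rw [neg_one_smul, show -u = u + u by revert u; decide, h.add]
    exact pow_two _

theorem cube (h : Wd w y z) (u : V3) : ww w y z u ^ 3 = 1 := by
  rw [pow_three, ← h.add, ← h.add, show u + (u + u) = 0 by revert u; decide, ww_zero]

theorem rl (h : Wd w y z) {g : G} {m : M4} (h1 : g⁻¹ * w * g = ww w y z (m.a22, m.a23, m.a24))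
    (h2 : g⁻¹ * y * g = ww w y z (m.a32, m.a33, m.a34))
    (h3 : g⁻¹ * z * g = ww w y z (m.a42, m.a43, m.a44)) : Rl w y z g m := fun u => by
  have e : ∀ x k, g⁻¹ * pw x k * g = pw (g⁻¹ * x * g) k := fun x k => by
    simpa using pw_conj g⁻¹ x k
  rw [show g⁻¹ * ww w y z u * g = (g⁻¹ * pw w u.1 * g) * (g⁻¹ * pw y u.2.1 * g) *
    (g⁻¹ * pw z u.2.2 * g) by rw [ww]; group, e, e, e, h1, h2, h3, h.smul, h.smul, h.smul,
    ← h.add, ← h.add]
  rfl

theorem rl_ww (h : Wd w y z) (u : V3) : Rl w y z (ww w y z u) 1 := fun v => by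
  rw [ra_one, mul_assoc, h.comm, inv_mul_cancel_left]

end Wd

theorem Rl.mul {g k : G} {m n : M4} (hm : Pb m) (h1 : Rl w y z g m) (h2 : Rl w y z k n) :
    Rl w y z (g * k) (m * n) := fun u => by
  rw [ra_mul u hm, ← h2, ← h1]; group

theorem Rl.inv {g : G} {m n : M4} (hn : Pb n) (e : n * m = 1) (h : Rl w y z g m) :
    Rl w y z g⁻¹ n := fun u => by
  have := h (ra u n)
  rw [← ra_mul u hn, e, ra_one] at this
  rw [← this]; group

theorem Rl.congr {g : G} {m n : M4} (h : Rl w y z g m) (e : ∀ u, ra u m = ra u n) :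
    Rl w y z g n := fun u => e u ▸ h u

theorem rl_one : Rl w y z 1 1 := fun u => by simp [ra_one]

/-- the configuration -/
structure Cf (z : G) (Q : Subgroup G) (β : G → G → ZMod 3) (π : G → M2) (w y s p q : G) : Prop
    extends Hy z Q β π where
  wd : Wd w y z
  wQ : w ∈ Q
  yQ : y ∈ Q
  pQ : p ∈ Q
  qQ : q ∈ Q
  cW : ∀ g, Rl w y z g 1 → ∃ u, ww w y z u = g
  rQ : ∀ g ∈ Q, ∃ e k, Rl w y z g (uu 0 0 0 0 e k)
  rC : ∀ g ∈ Ce z, ∃ m, Pb m ∧ m.a11 = 1 ∧ Rl w y z g m
  r2 : ∃ g, Rl w y z g n2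
  r3 : ∃ g, Rl w y z g n3
  rs : Rl w y z s (uu 0 0 0 1 0 0)
  rp : Rl w y z p (uu 0 0 0 0 1 0)
  rq : Rl w y z q (uu 0 0 0 0 0 1)
  s3 : s ^ 3 = 1
  sp : s * p = p * s
  pq : p * q = q * p
  sq : s * q = p * q * s
  c0 : ∀ x ∈ Q, IsConj z x → ∀ g ∈ Ce z, β x (g * x * g⁻¹) = 0

end H20.L43
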