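import Mathlib
import Cfsg.Agent.Lib.P3L.A5

/-! Two commuting conjugates `z`, `y` and the subgroup `W = Q_z ∩ Q_y`. -/

set_option autoImplicit false
set_option linter.unusedSectionVars false

namespace H20.L43

open Subgroup M4

variable {G : Type*} [Group G] [Finite G] {z y w t : G} {Q Q' : Subgroup G}
  {β β' : G → G → ZMod 3} {π π' : G → M2}

theorem Hy.conj (h : Hy z Q β π) (hc : IsConj z y) : ∃ Q' β' π', Hy y Q' β' π' := by
  obtain ⟨g, rfl⟩ := isConj_iff.1 hc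
  let φ := MulAut.conj g⁻¹
  have e : φ (g * z * g⁻¹) = z := by simp [φ, mul_assoc]
  generalize g * z * g⁻¹ = y at e
  have c : ∀ k, k ∈ Ce y ↔ φ k ∈ Ce z := fun k => by
    rw [mem_Ce, mem_Ce, ← e, ← map_mul, ← map_mul, φ.apply_eq_iff_eq]
  have zp : ∀ k, φ k ∈ zpowers z → k ∈ zpowers y := by
    rintro k ⟨n, hn⟩
    exact ⟨n, φ.injective (by rw [← hn, ← e]; simp)⟩
  have sj : ∀ q ∈ Q, ∃ q' ∈ Q.comap φ.toMonoidHom, φ q' = q := fun q hq =>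
    ⟨φ.symm q, by simpa using hq, φ.apply_symm_apply q⟩
  refine ⟨Q.comap φ.toMonoidHom, fun a b => β (φ a) (φ b), fun a => π (φ a),
    { z1 := fun f => h.z1 (by rw [← e, f, map_one])
      zQ := show φ y ∈ Q from e ▸ h.zQ
      q3 := fun q hq => φ.injective (by rw [map_pow, map_one]; exact h.q3 _ hq)
      card := by
        rw [← h.card]
        exact Nat.card_congr (φ.toEquiv.subtypeEquiv fun _ => Iff.rfl)
      zc := fun q hq => mem_Ce.1 ((c q).2 (h.QC hq))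
      com := fun a ha b hb => φ.injective (by
        rw [map_mul, h.com (φ a) ha (φ b) hb, ← e]; simp [pw])
      nd := fun a ha f => zp a (h.nd _ ha fun b hb => by
        obtain ⟨b, hb, rfl⟩ := sj b hb
        exact f b hb)
      cQ := fun k f => h.cQ (φ k) fun q hq => by
        obtain ⟨q, hq, rfl⟩ := sj q hq
        rw [← map_mul, f q hq, map_mul]
      nC := fun k hk q hq => by simpa using h.nC _ ((c k).1 hk) _ hq
      pm := fun a ha b hb => by simpa using h.pm _ ((c a).1 ha) _ ((c b).1 hb)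
      pd := fun a ha => h.pd _ ((c a).1 ha)
      pk := fun a ha => h.pk _ ((c a).1 ha)
      ps := fun m hm => by
        obtain ⟨k, hk, rfl⟩ := h.ps m hm
        exact ⟨φ.symm k, (c _).2 (by simpa using hk), by simp⟩
      inv := fun a ha f q hq => zp _ (by simpa using h.inv _ ((c a).1 ha) f _ hq)
      syl := h.syl }⟩

theorem Ex.exists_sb (h : Ex z Q β) {b : G} (hb : b ∈ Q) (h1 : b ∉ zpowers z) :
    ∃ a c d, Sb z Q β a b c d := by
  obtain ⟨d, hd, e⟩ := h.dual1 hb h1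
  have pj : ∀ q ∈ Q, ∃ i j, β b (q * pw b i * pw d j) = 0 ∧ β d (q * pw b i * pw d j) = 0 :=
    fun q hq => ⟨β d q, -β b q, by
      simp only [h.mul_r (mul_mem hq (pw_mem hb _)) (pw_mem hd _), h.mul_r hq (pw_mem hb _), hb, hd,
        h.pw_r hb, h.pw_r hd, h.self, e, h.anti hb hd]
      constructor <;> ring⟩
  obtain ⟨a, ha, a1, a2, a3⟩ : ∃ a ∈ Q, a ∉ zpowers z ∧ β b a = 0 ∧ β d a = 0 := by
    by_contra! f
    have : Function.Surjective fun u : V3 => (⟨pw z u.1 * (pw d u.2.1)⁻¹ * (pw b u.2.2)⁻¹,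
        mul_mem (mul_mem (pw_mem h.zQ _) (inv_mem (pw_mem hd _))) (inv_mem (pw_mem hb _))⟩ : Q) :=
      fun q => by
        obtain ⟨i, j, f1, f2⟩ := pj q q.2
        obtain ⟨k, hk⟩ := (mem_zp h.z3).1 (by_contra fun g =>
          f _ (mul_mem (mul_mem q.2 (pw_mem hb i)) (pw_mem hd j)) g f1 f2)
        exact ⟨(k, j, i), Subtype.ext (by simp [hk])⟩
    have := Nat.card_le_card_of_surjective _ this
    rw [h.card] at this
    simp at this
  obtain ⟨c, hc, e'⟩ := h.dual1 ha a1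
  obtain ⟨i, j, f1, f2⟩ := pj c hc
  have m := mul_mem (mul_mem hc (pw_mem hb i)) (pw_mem hd j)
  exact ⟨a, _, d, { h with
    ha := ha, hb := hb, hc := m, hd := hd
    ab := by rw [h.anti hb ha, a2, neg_zero]
    ac := by
      rw [h.mul_r (mul_mem hc (pw_mem hb _)) (pw_mem hd _) ha, h.mul_r hc (pw_mem hb _) ha,
        h.pw_r hb ha, h.pw_r hd ha, h.anti hb ha, h.anti hd ha, a2, a3, e']; ring
    ad := by rw [h.anti hd ha, a3, neg_zero]
    bc := f1, bd := e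
    cd := by rw [h.anti hd m, f2, neg_zero] }⟩

theorem Hy.tinv (h : Hy z Q β π) (ht : t ∈ Ce z) (pt : π t = mo) {q : G} (hq : q ∈ Q) :
    ∃ k, t * (q * pw z k) * t⁻¹ = (q * pw z k)⁻¹ := by
  obtain ⟨k, e⟩ := (mem_zp h.z3).1 (h.inv t ht pt q hq)
  refine ⟨k, eq_inv_of_mul_eq_one_left ?_⟩
  rw [← conj_mul, pw_conj, cz ht, mul_assoc, ← mul_assoc (pw z k), h.pc hq, ← mul_assoc,
    ← mul_assoc, ← e, ← pw_add h.z3, ← pw_add h.z3, show k + k + k = 0 by grind, pw_zero]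

theorem Ex.tuniq (h : Ex z Q β) (ht : t ∈ Ce z) {p q : G} (hq : q ∈ Q) {k : ZMod 3}
    (e : p = q * pw z k) (h1 : t * p * t⁻¹ = p⁻¹) (h2 : t * q * t⁻¹ = q⁻¹) : p = q := by
  rw [e, ← conj_mul, h2, pw_conj, cz ht, mul_inv_rev, ← pw_neg h.z3, h.pc (inv_mem hq),
    mul_right_inj] at h1
  have := pw_inj h.z3 h.z1 h1
  rw [e, show k = 0 by grind, pw_zero, mul_one]

/-- the pair -/
structure Pr (z y w t : G) (Q Q' : Subgroup G) (β β' : G → G → ZMod 3) (π π' : G → M2) : Prop where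
  h : Hy z Q β π
  h' : Hy y Q' β' π'
  tC : t ∈ Ce z
  pt : π t = mo
  t2 : t * t = 1
  ty : t * y * t⁻¹ = y⁻¹
  tw : t * w * t⁻¹ = w⁻¹
  wQ : w ∈ Q'
  zQ : z ∈ Q'
  sb : ∃ c d, Sb z Q β w y c d

theorem Hy.exists_pr (h : Hy z Q β π) {x : G} (hx : x ∈ Q) (h1 : x ∉ zpowers z) (hc : IsConj z x) :
    ∃ y w t Q' β' π' k, y = x * pw z k ∧ Pr z y w t Q Q' β β' π π' := by
  obtain ⟨t, ht, pt, t2⟩ := h.exists_t
  obtain ⟨k, ty⟩ := h.tinv ht pt hx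
  obtain ⟨u, hu, e⟩ := h.dual1 hx h1
  obtain ⟨Q', β', π', h'⟩ := h.conj (y := x * pw z k) (hc.trans (isConj_iff.2 ⟨pw u (-k), by
    rw [h.toEx.conj (pw_mem hu _) hx, h.pw_l hu hx, h.anti hx hu, e, h.pc hx]; simp⟩))
  suffices ∃ w, Pr z (x * pw z k) w t Q Q' β β' π π' from
    ⟨_, this.imp fun w hw => ⟨t, Q', β', π', k, rfl, hw⟩⟩
  have hy := mul_mem hx (pw_mem h.zQ k)
  have y1 : x * pw z k ∉ zpowers z := fun f =>
    h1 ((mul_mem_cancel_right (pw_mem (mem_zpowers z) k)).1 f)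
  generalize x * pw z k = y at *
  have cy : ∀ q ∈ Q, β y q = 0 → q ∈ Ce y := fun q hq f => mem_Ce.2 ((h.comm_iff hy hq).2 f).symm
  obtain ⟨a, c, d, s, hw⟩ : ∃ a c d, Sb z Q β a y c d ∧ a ∈ Q' := by
    obtain ⟨a, c, d, s⟩ := h.exists_sb hy y1
    have ya : β y a = 0 := by rw [h.anti s.ha hy, s.ab, neg_zero]
    have ma := cy a s.ha ya
    have mc := cy c s.hc s.bc
    have p3 : ∀ q ∈ Q, q ∈ Ce y → π' q ^ 3 = 1 := fun q hq f => by
      rw [← h'.ppow f, h.q3 q hq, h'.pQ (one_mem _)]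
    have key : ∀ A : M2, A.det = 1 → A ^ 3 = 1 → ∀ B : M2, B.det = 1 → B ^ 3 = 1 → (B * A) ^ 3 = 1 →
        (B * A ^ 2) ^ 3 = 1 → A = 1 ∨ ∃ i : ZMod 3, B * A ^ i.val = 1 := by decide +kernel
    have mp : ∀ i : ℕ, π' (c * a ^ i) = π' c * π' a ^ i := fun i => by
      rw [h'.pm _ mc _ (pow_mem ma i), h'.ppow ma]
    rcases key _ (h'.pd a ma) (p3 a s.ha ma) _ (h'.pd c mc) (p3 c s.hc mc)
      (by rw [← h'.pm _ mc _ ma]; exact p3 _ (mul_mem s.hc s.ha) (mul_mem mc ma))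
      (by rw [← mp]; exact p3 _ (mul_mem s.hc (pow_mem s.ha _)) (mul_mem mc (pow_mem ma _)))
      with f | ⟨i, f⟩
    · exact ⟨a, c, d, s, (h'.pk a ma).1 f⟩
    · have m := mul_mem s.hc (pw_mem s.ha i)
      refine ⟨c * pw a i, a⁻¹, d, { h.toEx with
        ha := m, hb := hy, hc := inv_mem s.ha, hd := s.hd
        ab := by rw [h.anti hy m, h.mul_r s.hc (pw_mem s.ha i) hy, h.pw_r s.ha hy, s.bc, ya]; ring
        ac := by
          rw [h.inv_r s.ha m, h.mul_l s.hc (pw_mem s.ha i) s.ha, h.pw_l s.ha s.ha, h.self s.ha,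
            h.anti s.ha s.hc, s.ac]; ring
        ad := by rw [h.mul_l s.hc (pw_mem s.ha i) s.hd, h.pw_l s.ha s.hd, s.cd, s.ad]; ring
        bc := by rw [h.inv_r s.ha hy, ya, neg_zero]
        bd := s.bd
        cd := by rw [h.inv_l s.ha s.hd, s.ad, neg_zero] },
        (h'.pk _ (mul_mem mc (pow_mem ma _))).1 ((mp _).trans f)⟩
  have zQ : z ∈ Q' := by
    have := h'.nC _ (cy c s.hc s.bc) a hw
    rw [h.toEx.conj s.hc s.ha, h.anti s.ha s.hc, s.ac, pw_neg_one h.z3,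
      mul_mem_cancel_right hw] at this
    exact inv_mem_iff.1 this
  obtain ⟨l, tw⟩ := h.tinv ht pt s.ha
  have m := mul_mem s.ha (pw_mem h.zQ l)
  have e : ∀ q ∈ Q, β (a * pw z l) q = β a q := fun q hq => by
    rw [h.mul_l s.ha (pw_mem h.zQ l) hq, h.z_l (pw_mem (mem_zpowers z) l) hq, add_zero]
  exact ⟨a * pw z l, h, h', ht, pt, t2, ty, tw, mul_mem hw (pw_mem zQ l), zQ, c, d, { h.toEx with
    ha := m, hb := hy, hc := s.hc, hd := s.hd, ab := (e _ hy).trans s.ab, ac := (e _ s.hc).trans s.ac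
    ad := (e _ s.hd).trans s.ad, bc := s.bc, bd := s.bd, cd := s.cd }⟩

/-- the action of `Q_y` -/
def mq (i j : ZMod 3) : M4 := ⟨1, 0, 0, 0, 0, 1, i, 0, 0, 0, 1, 0, 0, 0, j, 1⟩

theorem force_eq_mq : True := by
  have := @mq.eq_1
  trivial

theorem Sb.ww_mem {c d : G} (s : Sb z Q β w y c d) (u : V3) : ww w y z u ∈ Q :=
  mul_mem (mul_mem (pw_mem s.ha _) (pw_mem s.hb _)) (pw_mem s.zQ _)

theorem Sb.co_ww {c d : G} (s : Sb z Q β w y c d) (u : V3) :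
    co β w y c d (ww w y z u) = (u.1, u.2.1, 0, 0) := by
  rw [ww, s.co_mul (mul_mem (pw_mem s.ha _) (pw_mem s.hb _)) (pw_mem s.zQ _),
    s.co_mul (pw_mem s.ha _) (pw_mem s.hb _), s.co_pw s.ha, s.co_pw s.hb, s.co_a, s.co_b,
    s.co_z (pw_mem (mem_zpowers z) _)]
  simp

theorem Sb.wd {c d : G} (s : Sb z Q β w y c d) : Wd w y z :=
  ⟨s.q3 _ s.ha, s.q3 _ s.hb, s.z3, (s.comm_iff s.ha s.hb).2 s.ab, s.zc _ s.ha, s.zc _ s.hb,
    fun ⟨i, j, k⟩ e => by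
      have := s.co_ww (i, j, k)
      rw [e, s.co_z (one_mem _), eq_comm] at this
      obtain ⟨rfl, rfl, -⟩ : i = 0 ∧ j = 0 ∧ True := by simpa using this
      rw [ww_z] at e
      rw [pw_eq_one s.z3 s.z1 e]; rfl⟩

theorem Sb.of_co {c d q : G} (s : Sb z Q β w y c d) (hq : q ∈ Q) {i j : ZMod 3}
    (e : co β w y c d q = (i, j, 0, 0)) : ∃ k, ww w y z (i, j, k) = q := by
  obtain ⟨k, f⟩ := s.eq_of_co hq (s.ww_mem (i, j, 0)) (e.trans (s.co_ww (i, j, 0)).symm)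
  exact ⟨k, by rw [f, ← ww_z (w := w) (y := y), ← s.wd.add]; simp⟩

theorem Ex.conj' (h : Ex z Q β) {a b : G} (ha : a ∈ Q) (hb : b ∈ Q) :
    a⁻¹ * b * a = b * pw z (β b a) := by
  rw [← h.pc hb, mul_assoc, h.com b hb a ha, ← mul_assoc, ← h.pc (inv_mem ha)]; group

theorem Sb.rQ {c d q : G} (s : Sb z Q β w y c d) (hq : q ∈ Q) :
    Rl w y z q (uu 0 0 0 0 (β w q) (β y q)) :=
  s.wd.rl (by simp [s.conj' hq s.ha, ww, uu]) (by simp [s.conj' hq s.hb, ww, uu])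
    (by simp [ww, uu, mul_assoc, ← s.zc q hq])

namespace Pr

variable (P : Pr z y w t Q Q' β β' π π')
include P

theorem wd : Wd w y z := P.sb.elim fun _ h => h.elim fun _ s => s.wd

theorem ww_mem (u : V3) : ww w y z u ∈ Q := P.sb.elim fun _ h => h.elim fun _ s => s.ww_mem u

theorem ww_mem' (u : V3) : ww w y z u ∈ Q' :=
  mul_mem (mul_mem (pw_mem P.wQ _) (pw_mem P.h'.zQ _)) (pw_mem P.zQ _)

theorem rQ' {q : G} (hq : q ∈ Q') : Rl w y z q (mq (β' w q) (β' z q)) :=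
  P.wd.rl (by simp [P.h'.conj' hq P.wQ, ww, mq])
    (by simp [ww, mq, mul_assoc, ← P.h'.zc q hq])
    (by simp [P.h'.conj' hq P.zQ, ww, mq, pw_comm P.wd.yz])

theorem ti : t⁻¹ = t := inv_eq_of_mul_eq_one_right P.t2

theorem rt : Rl w y z t tt := by
  have e : ∀ x, t⁻¹ * x * t = t * x * t⁻¹ := fun x => by rw [P.ti]
  exact P.wd.rl (by simp [e, P.tw, ww, tt, dg, pw_neg_one P.wd.w3])
    (by simp [e, P.ty, ww, tt, dg, pw_neg_one P.wd.y3]) (by simp [e, cz P.tC, ww, tt, dg])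

theorem dual : ∃ s ∈ Q', ∃ v ∈ Q', β' w s = 1 ∧ β' z s = 0 ∧ β' w v = 0 ∧ β' z v = 1 := by
  have e : ∀ u : V3, ww w y z u ∈ zpowers y → u.1 = 0 ∧ u.2.2 = 0 := fun u h => by
    obtain ⟨k, e⟩ := (mem_zp P.wd.y3).1 h
    rw [← P.wd.inj' (u := (0, k, 0)) (v := u) (by rw [← e]; simp [ww])]
    exact ⟨rfl, rfl⟩
  refine P.h'.dual2 P.wQ P.zQ (fun h => absurd (e (1, 0, 0) (by rwa [ww_w])).1 one_ne_zero)
    fun k h => absurd (e (k, 0, 1) ?_).2 one_ne_zero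
  rwa [← pw_comm P.wd.wz, ← pw_one z, ← mul_one (pw w k), ← pw_zero y] at h

end Pr

theorem Rl.z_of {g : G} {m : M4} (h : Rl w y z g m) (e : ra (0, 0, 1) m = (0, 0, 1)) :
    g ∈ Ce z := by
  have := h (0, 0, 1)
  rw [e, ww_z, pw_one] at this
  rw [mem_Ce, ← mul_right_inj g⁻¹, ← mul_assoc, ← mul_assoc, this, inv_mul_cancel, one_mul]

theorem Rl.y_of {g : G} {m : M4} (h : Rl w y z g m) (e : ra (0, 1, 0) m = (0, 1, 0)) :
    g * y * g⁻¹ = y := by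
  have := h (0, 1, 0)
  rw [e, ww_y] at this
  nth_rewrite 1 [← this]
  group

theorem Pr.notQ (P : Pr z y w t Q Q' β β' π π') {g : G} {i : ZMod 3} (h : Rl w y z g (mq i 0))
    (hg : g ∈ Q) : i = 0 := by
  obtain ⟨c, d, s⟩ := P.sb
  simpa [ra, mq, uu] using congrArg (·.2.1)
    (P.wd.inj' ((h (1, 0, 0)).symm.trans (s.rQ hg (1, 0, 0))))

theorem Pr.cW (P : Pr z y w t Q Q' β β' π π') (g : G) (hg : Rl w y z g 1) :
    ∃ u, ww w y z u = g := by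
  obtain ⟨c, d, s⟩ := P.sb
  have h := P.h
  obtain ⟨σ, hσ, -, -, e1, e2, -⟩ := P.dual
  have rσ := P.rQ' hσ
  rw [e1, e2] at rσ
  have gQ : g ∈ Q := by
    let O : Submonoid G :=
      { carrier := {k | k ∈ Ce z ∧ k * y * k⁻¹ = y}
        mul_mem' := fun {a b} ha hb => ⟨mul_mem ha.1 hb.1, by
          rw [mul_inv_rev, ← mul_assoc, mul_assoc a, mul_assoc a, hb.2, ha.2]⟩
        one_mem' := ⟨one_mem _, by simp⟩ }
    have ok : ∀ k ∈ O, π k ≠ mo := fun k hk e => by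
      have := s.co_z (h.inv k hk.1 e y s.hb)
      rw [hk.2, s.co_mul s.hb s.hb, s.co_b] at this
      exact absurd this (by decide)
    have ok' : ∀ k ∈ O, π k ≠ mo ∧ π k ^ 2 ≠ mo ∧ π k ^ 3 ≠ mo := fun k hk =>
      ⟨ok k hk, h.ppow hk.1 2 ▸ ok _ (pow_mem hk 2), h.ppow hk.1 3 ▸ ok _ (pow_mem hk 3)⟩
    have m1 : g ∈ O := ⟨hg.z_of (ra_one _), hg.y_of (ra_one _)⟩
    have m2 : σ ∈ O := ⟨rσ.z_of (by decide), rσ.y_of (by decide)⟩
    have key : ∀ A : M2, A.det = 1 → (A ≠ mo ∧ A ^ 2 ≠ mo ∧ A ^ 3 ≠ mo) → ∀ B : M2, B.det = 1 →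
        (B ≠ mo ∧ B ^ 2 ≠ mo ∧ B ^ 3 ≠ mo) → (B * A ≠ mo ∧ (B * A) ^ 2 ≠ mo ∧ (B * A) ^ 3 ≠ mo) →
        (B * A ^ 2 ≠ mo ∧ (B * A ^ 2) ^ 2 ≠ mo ∧ (B * A ^ 2) ^ 3 ≠ mo) →
        A = 1 ∨ ∃ i : Fin 3, B * A ^ i.val = 1 := by decide +kernel
    have mp : ∀ i : ℕ, π (σ * g ^ i) = π σ * π g ^ i := fun i => by
      rw [h.pm _ m2.1 _ (pow_mem m1.1 i), h.ppow m1.1]
    rcases key _ (h.pd g m1.1) (ok' g m1) _ (h.pd σ m2.1) (ok' σ m2)
      (h.pm _ m2.1 _ m1.1 ▸ ok' _ (mul_mem m2 m1)) (mp 2 ▸ ok' _ (mul_mem m2 (pow_mem m1 2)))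
      with f | ⟨i, f⟩
    · exact (h.pk g m1.1).1 f
    · have : ∀ n : ℕ, Rl w y z (σ * g ^ n) (mq 1 0) := fun n => by
        induction n with
        | zero => simpa using rσ
        | succ n ih => simpa [pow_succ, mul_assoc] using ih.mul (by decide) hg
      exact absurd (P.notQ (this i) ((h.pk _ (mul_mem m2.1 (pow_mem m1.1 _))).1 ((mp _).trans f)))
        one_ne_zero
  have f1 := congrArg (·.2.2) (P.wd.inj' ((hg (1, 0, 0)).symm.trans (s.rQ gQ (1, 0, 0))))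
  have f2 := congrArg (·.2.2) (P.wd.inj' ((hg (0, 1, 0)).symm.trans (s.rQ gQ (0, 1, 0))))
  simp [ra, uu] at f1 f2
  exact (s.of_co gQ (by rw [co, ← f1, ← f2])).elim fun k e => ⟨_, e⟩

end H20.L43
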