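import Mathlib
import Cfsg.Agent.Lib.P3L.A2

/-! Two noncentral factors force the involution to invert `Q/Z`. -/

set_option autoImplicit false
set_option linter.unusedSectionVars false

namespace H20.L43

open Subgroup M4

variable {G : Type*} [Group G] [Finite G] {z : G} {Q : Subgroup G} {β : G → G → ZMod 3}
  {π : G → M2}

/-- a noncentral chief factor -/
structure Fac (z : G) (Q A B : Subgroup G) : Prop where
  zA : z ∈ A
  AB : A ≤ B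
  BQ : B ≤ Q
  iA : ∀ k ∈ Ce z, ∀ a ∈ A, k * a * k⁻¹ ∈ A
  iB : ∀ k ∈ Ce z, ∀ a ∈ B, k * a * k⁻¹ ∈ B
  max : ∀ D : Subgroup G, A < D → D < B → ∃ k ∈ Ce z, ∃ b ∈ D, k * b * k⁻¹ ∉ D
  nc : ∃ k ∈ Ce z, ∃ a ∈ B, k * a * k⁻¹ * a⁻¹ ∉ A

theorem Sb.exists_bar {a b c d : G} (s : Sb z Q β a b c d) {A : Subgroup G} (hz : z ∈ A) :
    ∃ A' : AddSubgroup V4, ∀ q ∈ Q, q ∈ A ↔ co β a b c d q ∈ A' := by
  have e : ∀ p ∈ Q, ∀ q ∈ Q, co β a b c d p = co β a b c d q → q ∈ A → p ∈ A := fun p hp q hq e h => by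
    obtain ⟨k, rfl⟩ := s.eq_of_co hp hq e
    exact mul_mem h (pw_mem hz k)
  refine ⟨{ carrier := {v | ve a b c d v ∈ A}
            add_mem' := fun {u v} hu hv => e _ (s.ve_mem _) _ (mul_mem (s.ve_mem _) (s.ve_mem _))
              (by rw [s.co_mul (s.ve_mem _) (s.ve_mem _), s.co_ve, s.co_ve, s.co_ve]) (mul_mem hu hv)
            zero_mem' := by simp [ve]
            neg_mem' := fun {u} hu => e _ (s.ve_mem _) _ (inv_mem (s.ve_mem _))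
              (by rw [s.co_inv (s.ve_mem _), s.co_ve, s.co_ve]) (inv_mem hu) }, fun q hq => ?_⟩
  exact ⟨e _ (s.ve_mem _) _ hq (s.co_ve _), e _ hq _ (s.ve_mem _) (s.co_ve _).symm⟩

theorem Sb.exists_hat {a b c d : G} (s : Sb z Q β a b c d) (D : AddSubgroup V4) :
    ∃ E : Subgroup G, ∀ q, q ∈ E ↔ q ∈ Q ∧ co β a b c d q ∈ D :=
  ⟨{  carrier := {q | q ∈ Q ∧ co β a b c d q ∈ D}
      mul_mem' := fun hu hv => ⟨mul_mem hu.1 hv.1, s.co_mul hu.1 hv.1 ▸ add_mem hu.2 hv.2⟩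
      one_mem' := ⟨one_mem _, s.co_z (one_mem _) ▸ zero_mem _⟩
      inv_mem' := fun hu => ⟨inv_mem hu.1, s.co_inv hu.1 ▸ neg_mem hu.2⟩ }, fun _ => Iff.rfl⟩

theorem Hy0.fac (h : Hy0 z Q β π) {a b c d t : G} (s : Sb z Q β a b c d) (ht : t ∈ Ce z)
    (pt : π t = mo) (mT : mt β a b c d t = dg 1 (-1) 1 (-1)) {A B : Subgroup G} (F : Fac z Q A B) :
    (∀ q ∈ Q, β q c = 0 → β a q = 0 → q ∈ B) ∧ ∃ q ∈ Q, β q c = 0 ∧ β a q = 0 ∧ q ∉ A := by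
  obtain ⟨A', hA⟩ := s.exists_bar F.zA
  obtain ⟨B', hB⟩ := s.exists_bar (F.AB F.zA)
  have mm : ∀ {g k}, g ∈ Ce z → k ∈ Ce z →
      mt β a b c d (g * k) = mt β a b c d g * mt β a b c d k := fun hg hk =>
    s.mt_mul h (cz' hg) (cz' hk)
  have mp : ∀ {g}, g ∈ Ce z → ∀ n : ℕ, mt β a b c d (g ^ n) = mt β a b c d g ^ n := fun hg n => by
    induction n with
    | zero => rw [pow_zero, pow_zero, s.mt_Q (one_mem _)]
    | succ n ih => rw [pow_succ, mm (pow_mem hg n) hg, ih, pow_succ]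
  have cc : ∀ {g}, g ∈ Ce z → ∀ {q}, q ∈ Q →
      co β a b c d (g * q * g⁻¹) = mv (mt β a b c d g) (co β a b c d q) := fun hg _ hq =>
    s.co_cj (cz' hg) (h.nC _ hg) hq
  have hc : ∀ g ∈ Ce z, mt β a b c d g * dg 1 (-1) 1 (-1) = dg 1 (-1) 1 (-1) * mt β a b c d g :=
    fun g hg => by
      rw [← mT, ← mm hg ht, ← mm ht hg]
      refine s.mt_pi h (mul_mem hg ht) (mul_mem ht hg) ?_
      rw [h.pm _ hg _ ht, h.pm _ ht _ hg, pt]
      simp [M2.mul_def, mo]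
  obtain ⟨σ, hσ, pσ⟩ := h.ps ⟨1, 1, 0, 1⟩ (by decide)
  obtain ⟨n, hn, pn⟩ := h.ps ⟨0, -1, 1, 0⟩ (by decide)
  have N2 : mt β a b c d n * mt β a b c d n = dg 1 (-1) 1 (-1) := by
    rw [← mT, ← mm hn hn]
    exact s.mt_pi h (mul_mem hn hn) ht (by rw [h.pm _ hn _ hn, pn, pt]; decide)
  obtain ⟨ε, ε2, hε⟩ : ∃ ε : ZMod 3, ε * ε = 1 ∧
      ∀ x y, mv (mt β a b c d n) (x, 0, y, 0) = (ε * x, 0, ε * y, 0) := by
    have e1 := s.mt_fm (ε := 1) (by rw [cz hn, pw_one]) (h.nC _ hn) (1, 0, 0, 0) (0, 0, 1, 0)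
    have e2 := hc n hn
    generalize mt β a b c d n = N at *
    simp only [M4.ext_iff, dg] at e2 N2
    simp [fm, mv] at e1 e2 N2
    have key : ∀ p q r s : ZMod 3, p * p + q * r = 1 → p * q + q * s = 0 → r * p + s * r = 0 →
        r * q + s * s = 1 → p * s - q * r = 1 → p * p = 1 ∧ q = 0 ∧ r = 0 ∧ s = p := by
      decide +kernel
    obtain ⟨k1, k2, k3, k4⟩ := key N.a11 N.a13 N.a31 N.a33 (by grind) (by grind) (by grind)
      (by grind) (by grind)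
    refine ⟨N.a11, k1, fun x y => ?_⟩
    simp only [mv, Prod.ext_iff]; simp; grind
  have sc : ∀ {g}, g ∈ Ce z → (∀ x y, mv (mt β a b c d g) (x, 0, y, 0) = (ε * x, 0, ε * y, 0)) →
      ∀ x y, mv (mt β a b c d (σ * g * σ⁻¹)) (x, 0, y, 0) = (ε * x, 0, ε * y, 0) := fun hg e x y => by
    have e1 := hc _ (inv_mem hσ)
    have e2 := mm hσ (inv_mem hσ)
    rw [mul_inv_cancel, s.mt_Q (one_mem _)] at e2
    rw [mm (mul_mem hσ hg) (inv_mem hσ), mm hσ hg, mv_mul, mv_mul]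
    generalize mt β a b c d σ⁻¹ = S' at *
    have e3 : mv S' (x, 0, y, 0) = (S'.a11 * x + S'.a13 * y, 0, S'.a31 * x + S'.a33 * y, 0) := by
      simp only [M4.ext_iff, dg] at e1
      simp at e1
      simp only [mv, Prod.ext_iff]; simp; grind
    have e4 := congrArg (mv · (ε * x, 0, ε * y, 0)) e2
    simp only [mv_one, mv_mul] at e4
    rw [e3, e, e4]
    congr 1
    simp only [M4.ext_iff, dg] at e1
    simp at e1
    simp only [mv, Prod.ext_iff]; simp; grind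
  have hj := mul_mem (mul_mem hσ hn) (inv_mem hσ)
  have j1 := sc hn hε
  have ε1 : ε = 1 := by
    have := sc hj j1 1 0
    rw [s.mt_pi h (mul_mem (mul_mem hσ hj) (inv_mem hσ)) (mul_mem hn hj) (by
      rw [h.pcj hσ hj, h.pm _ hn _ hj, h.pcj hσ hn, pσ, pn]; decide), mm hn hj, mv_mul, j1,
      hε] at this
    have := congrArg Prod.fst this
    simp only [mul_one] at this
    rw [← this, ε2]
  subst ε1
  simp only [one_mul] at hε j1
  have fx : ∀ {m : M4}, (∀ x y, mv m (x, 0, y, 0) = (x, 0, y, 0)) → ∀ (i : ℕ) x y,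
      mv (m ^ i) (x, 0, y, 0) = (x, 0, y, 0) := fun e i x y => by
    induction i with
    | zero => rw [pow_zero, mv_one]
    | succ i ih => rw [pow_succ, mv_mul, e, ih]
  have inv : ∀ {E : Subgroup G} {E' : AddSubgroup V4}, (∀ q ∈ Q, q ∈ E ↔ co β a b c d q ∈ E') →
      (∀ k ∈ Ce z, ∀ a ∈ E, k * a * k⁻¹ ∈ E) → ∀ m, (∃ k ∈ Ce z, mt β a b c d k = m) →
      ∀ v ∈ E', mv m v ∈ E' := by
    rintro E E' hE iE _ ⟨k, hk, rfl⟩ v hv
    rw [← s.co_ve v, ← cc hk (s.ve_mem v), ← hE _ (h.nC _ hk _ (s.ve_mem v))]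
    exact iE k hk _ ((hE _ (s.ve_mem v)).2 (by rwa [s.co_ve]))
  obtain ⟨r1, x, y, r2⟩ := one_factor (fun m => ∃ k ∈ Ce z, mt β a b c d k = m)
    (S := mt β a b c d σ) (N := mt β a b c d n) (A := A') (B := B') ⟨t, ht, mT⟩ ⟨σ, hσ, rfl⟩
    ⟨n, hn, rfl⟩ (by
      rintro _ _ ⟨g, hg, rfl⟩ ⟨k, hk, rfl⟩
      exact ⟨_, mul_mem hg hk, mm hg hk⟩) (by
      rintro _ ⟨g, hg, rfl⟩
      exact hc g hg) (by
      rw [← mm hσ hσ, ← mm (mul_mem hσ hσ) hσ]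
      refine s.mt_Q ((h.pk _ (mul_mem (mul_mem hσ hσ) hσ)).1 ?_)
      rw [h.pm _ (mul_mem hσ hσ) _ hσ, h.pm _ hσ _ hσ, pσ]; decide) (by
      rintro _ ⟨g, hg, rfl⟩
      have key : ∀ m : M2, m.det = 1 → ∃ (i : Fin 3) (k : Fin 4) (l : Fin 2), m = ⟨1, 1, 0, 1⟩ ^ i.1 *
        (⟨0, -1, 1, 0⟩ ^ k.1 * (⟨1, 1, 0, 1⟩ * ⟨0, -1, 1, 0⟩ * M2.iv ⟨1, 1, 0, 1⟩) ^ l.1) := by
        decide +kernel
      obtain ⟨i, k, l, e⟩ := key _ (h.pd g hg)
      have m1 := mul_mem (pow_mem hn k.1) (pow_mem hj l.1)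
      refine ⟨i, fun x y => ?_⟩
      rw [s.mt_pi h hg (mul_mem (pow_mem hσ i.1) m1) (by
        rw [h.pm _ (pow_mem hσ _) _ m1, h.pm _ (pow_mem hn _) _ (pow_mem hj _), h.ppow hσ,
          h.ppow hn, h.ppow hj, h.pcj hσ hn, pσ, pn, e]), mm (pow_mem hσ _) m1,
        mm (pow_mem hn _) (pow_mem hj _), mp hσ, mp hn, mp hj, mv_mul, mv_mul, fx j1, fx hε])
    N2 (inv hA F.iA) (inv hB F.iB) (fun v hv => by
      rw [← s.co_ve v] at hv ⊢
      exact (hB _ (s.ve_mem v)).1 (F.AB ((hA _ (s.ve_mem v)).2 hv))) (fun D h1 h2 => by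
      obtain ⟨E, hE⟩ := s.exists_hat D
      obtain ⟨u, u1, u2⟩ := SetLike.exists_of_lt h1
      obtain ⟨v, v1, v2⟩ := SetLike.exists_of_lt h2
      rw [← s.co_ve u] at u1 u2
      rw [← s.co_ve v] at v1 v2
      obtain ⟨k, hk, q, q1, q2⟩ := F.max E
        (lt_of_le_not_ge (fun q hq => (hE q).2 ⟨F.BQ (F.AB hq), h1.le ((hA q (F.BQ (F.AB hq))).1 hq)⟩)
          fun e => u2 ((hA _ (s.ve_mem u)).1 (e ((hE _).2 ⟨s.ve_mem u, u1⟩))))
        (lt_of_le_not_ge (fun q hq => (hB q ((hE q).1 hq).1).2 (h2.le ((hE q).1 hq).2))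
          fun e => v2 ((hE _).1 (e ((hB _ (s.ve_mem v)).2 v1))).2)
      obtain ⟨q3, q4⟩ := (hE q).1 q1
      exact ⟨_, ⟨k, hk, rfl⟩, _, q4, fun e => q2 ((hE _).2 ⟨h.nC _ hk _ q3, cc hk q3 ▸ e⟩)⟩) (by
      obtain ⟨k, hk, q, q1, q2⟩ := F.nc
      have hq := F.BQ q1
      refine ⟨_, ⟨k, hk, rfl⟩, _, (hB q hq).1 q1, fun e => q2 ?_⟩
      rwa [hA _ (mul_mem (h.nC _ hk _ hq) (inv_mem hq)), s.co_mul (h.nC _ hk _ hq) (inv_mem hq),
        s.co_inv hq, cc hk hq, ← sub_eq_add_neg])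
  refine ⟨fun q hq e1 e2 => (hB q hq).2 (by rw [co, e1, e2]; exact r1 _ _), _, s.ve_mem (0, x, 0, y),
    congrArg Prod.fst (s.co_ve _), congrArg (·.2.2.1) (s.co_ve _), fun e => r2 ?_⟩
  rw [← s.co_ve (0, x, 0, y)]
  exact (hA _ (s.ve_mem _)).1 e

theorem Hy0.inv_of (h : Hy0 z Q β π) {A B A' B' : Subgroup G} (F : Fac z Q A B)
    (F' : Fac z Q A' B') (hB : B ≤ A') (g : G) (hg : g ∈ Ce z) (pg : π g = mo) (q : G)
    (hq : q ∈ Q) : g * q * g⁻¹ * q ∈ zpowers z := by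
  obtain ⟨t, ht, pt, t2⟩ := h.exists_t
  have nt := h.nC t ht
  suffices e : t * q * t⁻¹ * q ∈ zpowers z by
    have hp := h.peq hg ht (pg.trans pt.symm)
    rw [show g * q * g⁻¹ = g * t⁻¹ * (t * q * t⁻¹) * (g * t⁻¹)⁻¹ by group, h.conj hp (nt q hq),
      mul_assoc]
    exact mul_mem (pw_mem (mem_zpowers z) _) e
  by_contra ha
  have tt : ∀ x, t * (t * x * t⁻¹) * t⁻¹ = x := fun x => by
    calc _ = (t * t) * x * (t * t)⁻¹ := by group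
      _ = x := by rw [t2]; group
  have iv : ∀ x ∈ Q, ∀ y ∈ Q, β (t * x * t⁻¹) y = β x (t * y * t⁻¹) := fun x hx y hy => by
    have := h.cj (ε := 1) (by rw [cz ht, pw_one]) nt hx (nt y hy)
    rwa [tt, one_mul] at this
  have pl : ∀ p ∈ Q, ∀ x ∈ Q, β (t * (t * p * t⁻¹ * p) * t⁻¹) x = β (t * p * t⁻¹ * p) x :=
    fun p hp x hx => by
      rw [← conj_mul, tt, h.mul_l hp (nt p hp) hx, h.mul_l (nt p hp) hp hx, add_comm]
  have mi : ∀ p ∈ Q, ∀ x ∈ Q, β (t * (t * p * t⁻¹ * p⁻¹) * t⁻¹) x = -β (t * p * t⁻¹ * p⁻¹) x :=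
    fun p hp x hx => by
      rw [← conj_mul, tt, ← conj_inv, h.mul_l hp (inv_mem (nt p hp)) hx,
        h.mul_l (nt p hp) (inv_mem hp) hx, h.inv_l hp hx, h.inv_l (nt p hp) hx]; ring
  obtain ⟨p, hp, hb⟩ : ∃ p ∈ Q, t * p * t⁻¹ * p⁻¹ ∉ zpowers z := by
    by_contra! e
    refine absurd ((h.pQ (h.cQ t fun p hp => ?_)).symm.trans pt) (by decide)
    obtain ⟨k, e⟩ := (mem_zp h.z3).1 (e p hp)
    have e1 : t * p * t⁻¹ = pw z k * p := by rw [e]; group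
    have e2 := tt p
    rw [e1, ← conj_mul, e1, pw_conj, cz ht, ← mul_assoc, ← pw_add h.z3, mul_eq_right] at e2
    have := pw_eq_one h.z3 h.z1 e2
    rw [show k = 0 by grind, pw_zero, one_mul] at e1
    exact mul_inv_eq_iff_eq_mul.1 e1
  have mq := mul_mem (nt q hq) hq
  have mp := mul_mem (nt p hp) (inv_mem hp)
  obtain ⟨c, hc, e1⟩ := h.dual1 mq ha
  obtain ⟨d, hd, e2⟩ := h.dual1 mp hb
  have mc := mul_mem (nt c⁻¹ (inv_mem hc)) (inv_mem hc)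
  have md := mul_mem (nt d hd) (inv_mem hd)
  have or : ∀ u ∈ Q, ∀ v ∈ Q, (∀ x ∈ Q, β (t * u * t⁻¹) x = β u x) →
      (∀ x ∈ Q, β (t * v * t⁻¹) x = -β v x) → β u v = 0 := fun u hu v hv f1 f2 => by
    have := iv u hu v hv
    rw [f1 v hv, h.anti (nt v hv) hu, f2 u hu, h.anti hu hv] at this
    grind
  have s : Sb z Q β (t * q * t⁻¹ * q) (t * p * t⁻¹ * p⁻¹) (t * c⁻¹ * t⁻¹ * c⁻¹)
      (t * d * t⁻¹ * d⁻¹) :=
    { h.toEx with
      ha := mq, hb := mp, hc := mc, hd := md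
      ab := or _ mq _ mp (pl q hq) (mi p hp)
      ac := by
        rw [h.mul_r (nt _ (inv_mem hc)) (inv_mem hc) mq, ← iv _ mq _ (inv_mem hc),
          pl q hq _ (inv_mem hc), h.inv_r hc mq, e1]; rfl
      ad := or _ mq _ md (pl q hq) (mi d hd)
      bc := by rw [h.anti mc mp, or _ mc _ mp (pl _ (inv_mem hc)) (mi p hp), neg_zero]
      bd := by
        rw [h.mul_r (nt _ hd) (inv_mem hd) mp, ← iv _ mp _ hd, mi p hp _ hd, h.inv_r hd mp, e2]; rfl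
      cd := or _ mc _ md (pl _ (inv_mem hc)) (mi d hd) }
  have P1 := pl q hq
  have P2 := mi p hp
  have P3 := pl _ (inv_mem hc)
  have P4 := mi d hd
  generalize t * q * t⁻¹ * q = a at *
  generalize t * p * t⁻¹ * p⁻¹ = b at *
  generalize t * c⁻¹ * t⁻¹ * c⁻¹ = c at *
  generalize t * d * t⁻¹ * d⁻¹ = d at *
  have c1 : ∀ u ∈ Q, (∀ x ∈ Q, β (t * u * t⁻¹) x = β u x) →
      co β a b c d (t * u * t⁻¹) = co β a b c d u := fun u hu f => by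
    simp only [co, f c mc, f d md, h.anti (nt u hu) mq, h.anti (nt u hu) mp, f a mq, f b mp,
      h.anti hu mq, h.anti hu mp]
  have c2 : ∀ u ∈ Q, (∀ x ∈ Q, β (t * u * t⁻¹) x = -β u x) →
      co β a b c d (t * u * t⁻¹) = -co β a b c d u := fun u hu f => by
    simp only [co, f c mc, f d md, h.anti (nt u hu) mq, h.anti (nt u hu) mp, f a mq, f b mp,
      h.anti hu mq, h.anti hu mp, Prod.neg_mk]
  have mT : mt β a b c d t = dg 1 (-1) 1 (-1) := by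
    rw [mt, c1 a mq P1, c2 b mp P2, c1 c mc P3, c2 d md P4, s.co_a, s.co_b, s.co_c, s.co_d]
    decide
  obtain ⟨x, x1, x2, x3, x4⟩ := (h.fac s ht pt mT F').2
  exact x4 (hB ((h.fac s ht pt mT F).1 x x1 x2 x3))

end H20.L43
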