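import Mathlib
import Cfsg.Agent.Lib.P3L.A3

/-! From the hypotheses of the statement to the working hypothesis. -/

set_option autoImplicit false

namespace H20.L43

open Cfsg Subgroup

theorem exists_hy {G : Type*} [Group G] [Finite G]
    (S : Sylow 3 G) (Z : Subgroup G) (hZ : Z = (S : Subgroup G) ⊓ Subgroup.centralizer ((S : Subgroup G) : Set G))
    (C : Subgroup G) (hCZ : C = Subgroup.centralizer (Z : Set G))
    (Q : Subgroup G) (hQ : Q = (Cfsg.pCore 3 C).map C.subtype)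
    (hQex : Cfsg.IsExtraspecial 3 Q) (hQcard : Nat.card Q = 3 ^ 5) (hQexp : ∀ a ∈ Q, a ^ 3 = 1)
    (hCQ : Subgroup.centralizer (Q : Set G) ≤ Q)
    (hZQ : ∃ x : G, Z.map (MulAut.conj x).toMonoidHom ≤ Q ∧ Z.map (MulAut.conj x).toMonoidHom ≠ Z)
    (K : Subgroup G) (hK : K = ((Cfsg.pResidual 2 (C ⧸ Cfsg.pCore 3 C)).comap (QuotientGroup.mk' (Cfsg.pCore 3 C))).map C.subtype)
    (r : ℕ) (A : Fin (r + 1) → Subgroup G) (hA0 : A 0 = Z) (hAr : A (Fin.last r) = Q)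
    (hmono : ∀ i : Fin r, A i.castSucc < A i.succ)
    (hinv : ∀ i : Fin (r + 1), ∀ k ∈ K, ∀ a ∈ A i, k * a * k⁻¹ ∈ A i)
    (hmax : ∀ i : Fin r, ∀ B : Subgroup G, A i.castSucc < B → B < A i.succ → ∃ k ∈ K, ∃ b ∈ B, k * b * k⁻¹ ∉ B)
    (e : C ⧸ Cfsg.pCore 3 C ≃* Matrix.SpecialLinearGroup (Fin 2) (ZMod 3))
    {i j : Fin r} (hij : i ≠ j)
    (hi : ∃ k ∈ K, ∃ a ∈ A i.succ, k * a * k⁻¹ * a⁻¹ ∉ A i.castSucc)
    (hj : ∃ k ∈ K, ∃ a ∈ A j.succ, k * a * k⁻¹ * a⁻¹ ∉ A j.castSucc) :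
    ∃ z β π, Hy z Q β π ∧ ∃ y ∈ Q, y ∉ zpowers z ∧ IsConj z y := by
  classical
  have QC : Q ≤ C := hQ ▸ map_subtype_le _
  have mQ : ∀ g (hg : g ∈ C), g ∈ Q ↔ (⟨g, hg⟩ : C) ∈ pCore 3 C := fun g hg => by
    rw [hQ]
    exact ⟨fun ⟨x, h1, h2⟩ => (show x = ⟨g, hg⟩ from Subtype.ext h2) ▸ h1, fun h => ⟨_, h, rfl⟩⟩
  have ZQ : ∀ x ∈ Z, ∀ q ∈ Q, q * x = x * q := fun x hx q hq =>
    ((hCZ ▸ QC hq : q ∈ centralizer (Z : Set G)) x hx).symm
  have c3 : 3 ^ 5 ∣ Nat.card S := S.pow_dvd_card_of_pow_dvd_card (hQcard ▸ card_subgroup_dvd_card Q)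
  have : Nontrivial S := Finite.one_lt_card_iff_nontrivial.1
    (lt_of_lt_of_le (by norm_num) (Nat.le_of_dvd Nat.card_pos c3))
  obtain ⟨⟨⟨z, zS⟩, zc⟩, z1⟩ := @exists_ne _ (S.isPGroup'.center_nontrivial) 1
  have zZ : z ∈ Z := hZ ▸ ⟨zS, fun s hs => congrArg Subtype.val (mem_center_iff.1 zc ⟨s, hs⟩)⟩
  have z1 : z ≠ 1 := fun h => z1 (Subtype.ext (Subtype.ext h))
  have zQ : z ∈ Q := hCQ (ZQ z zZ)
  have z3 := hQexp z zQ
  have cen : ∀ x (hx : x ∈ Q), (⟨x, hx⟩ : Q) ∈ center Q → x ∈ zpowers z := fun x hx hc => by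
    have : zpowers (⟨z, zQ⟩ : Q) = center Q := by
      refine eq_of_le_of_card_ge (zpowers_le.2 (mem_center_iff.2 fun q => Subtype.ext (ZQ z zZ q q.2))) ?_
      rw [hQex.2, Nat.card_zpowers, orderOf_eq_prime (p := 3) (Subtype.ext z3)
        fun h => z1 (congrArg Subtype.val h)]
    obtain ⟨n, hn⟩ := this ▸ hc
    exact ⟨n, congrArg Subtype.val hn⟩
  have Zz : Z = zpowers z := le_antisymm (fun x hx => cen x (hCQ (ZQ x hx))
    (mem_center_iff.2 fun q => Subtype.ext (ZQ x hx q q.2))) (zpowers_le.2 zZ)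
  have Cz : C = Ce z := by rw [hCZ, Zz, zpowers_eq_closure, centralizer_closure]
  have com : ∀ a ∈ Q, ∀ b ∈ Q, ∃ k, a * b = pw z k * (b * a) := fun a ha b hb => by
    obtain ⟨k, hk⟩ := (mem_zp z3).1 (cen _ (mul_mem (mul_mem (mul_mem ha hb) (inv_mem ha)) (inv_mem hb))
      (hQex.1.2.2 ▸ commutator_mem_commutator (mem_top (⟨a, ha⟩ : Q)) (mem_top ⟨b, hb⟩)))
    exact ⟨k, by rw [hk]; group⟩
  choose! β hβ using com
  let tm : Matrix.SpecialLinearGroup (Fin 2) (ZMod 3) → M2 := fun A => ⟨A 0 0, A 0 1, A 1 0, A 1 1⟩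
  let π : G → M2 := fun g => if hg : g ∈ C then tm (e (QuotientGroup.mk ⟨g, hg⟩)) else 1
  have pe : ∀ g (hg : g ∈ C), π g = tm (e (QuotientGroup.mk ⟨g, hg⟩)) := fun g hg => dif_pos hg
  have h0 : Hy0 z Q β π :=
    { z1 := z1, zQ := zQ, q3 := hQexp, card := hQcard, zc := ZQ z zZ, com := hβ
      nd := fun a ha h => cen a ha (mem_center_iff.2 fun q => Subtype.ext (by
        simpa [h q q.2] using (hβ a ha q q.2).symm))
      cQ := fun g hg => hCQ fun q hq => (hg q hq).symm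
      nC := Cz ▸ fun g hg q hq => (mQ _ (mul_mem (mul_mem hg (QC hq)) (inv_mem hg))).2
        ((inferInstance : (pCore 3 C).Normal).conj_mem _ ((mQ q (QC hq)).1 hq) ⟨g, hg⟩)
      pm := Cz ▸ fun g hg k hk => by
        rw [pe _ hg, pe _ hk, pe _ (mul_mem hg hk), show (⟨g * k, mul_mem hg hk⟩ : C) =
          ⟨g, hg⟩ * ⟨k, hk⟩ from rfl, QuotientGroup.mk_mul, map_mul]
        simp [tm, M2.mul_def, Matrix.mul_apply, Fin.sum_univ_two]
      pd := Cz ▸ fun g hg => by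
        rw [pe _ hg]
        exact (Matrix.det_fin_two _).symm.trans (e (QuotientGroup.mk ⟨g, hg⟩)).2
      pk := Cz ▸ fun g hg => by
        rw [pe _ hg, mQ g hg, ← QuotientGroup.eq_one_iff, ← e.map_eq_one_iff]
        generalize e _ = X
        refine ⟨fun h => ?_, fun h => h ▸ rfl⟩
        simp only [tm, M2.ext_iff, M2.one_def] at h
        ext i j
        fin_cases i <;> fin_cases j <;> simp [h]
      ps := Cz ▸ fun m hm => by
        obtain ⟨⟨g, hg⟩, h⟩ := QuotientGroup.mk_surjective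
          (e.symm ⟨!![m.a, m.b; m.c, m.d], (Matrix.det_fin_two_of ..).trans hm⟩)
        exact ⟨g, hg, by rw [pe _ hg, h]; exact congrArg tm (e.apply_symm_apply _)⟩ }
  have k3 : ∀ g ∈ Ce z, π g ^ 3 = 1 → g ∈ K := fun g hg h => by
    have hC : g ∈ C := Cz ▸ hg
    rw [hK]
    refine ⟨⟨g, hC⟩, subset_closure (Nat.Coprime.coprime_dvd_left (orderOf_dvd_of_pow_eq_one
      (n := 3) ?_) (by norm_num)), rfl⟩
    rw [← map_pow, QuotientGroup.mk'_apply, QuotientGroup.eq_one_iff]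
    exact (mQ _ (pow_mem hC 3)).1 ((h0.pk _ (pow_mem hg 3)).1 (by rw [h0.ppow hg, h]))
  have KC : K = Ce z := le_antisymm (Cz ▸ hK ▸ map_subtype_le _) fun g hg => by
    obtain ⟨σ, hσ, pσ⟩ := h0.ps ⟨1, 1, 0, 1⟩ (by decide)
    obtain ⟨τ, hτ, pτ⟩ := h0.ps ⟨1, 0, 1, 1⟩ (by decide)
    have key : ∀ m : M2, m.det = 1 → ∃ a b c d : Fin 3, m = ⟨1, 1, 0, 1⟩ ^ a.1 * ⟨1, 0, 1, 1⟩ ^ b.1 *
        (⟨1, 1, 0, 1⟩ ^ c.1 * ⟨1, 0, 1, 1⟩ ^ d.1) := by decide +kernel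
    obtain ⟨a, b, c, d, h⟩ := key _ (h0.pd g hg)
    have s := k3 σ hσ (by rw [pσ]; decide)
    have t := k3 τ hτ (by rw [pτ]; decide)
    have m1 := mul_mem (pow_mem hσ a.1) (pow_mem hτ b.1)
    have m2 := mul_mem (pow_mem hσ c.1) (pow_mem hτ d.1)
    have := h0.peq hg (mul_mem m1 m2) (by
      rw [h0.pm _ m1 _ m2, h0.pm _ (pow_mem hσ _) _ (pow_mem hτ _),
        h0.pm _ (pow_mem hσ _) _ (pow_mem hτ _), h0.ppow hσ, h0.ppow hσ, h0.ppow hτ, h0.ppow hτ,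
        pσ, pτ, h])
    exact (mul_mem_cancel_right (inv_mem (mul_mem (mul_mem (pow_mem s _) (pow_mem t _))
      (mul_mem (pow_mem s _) (pow_mem t _))))).1 (k3 _ (h0.QC this) (by rw [h0.pQ this, one_pow]))
  subst KC
  have mono : Monotone A := (Fin.strictMono_iff_lt_succ.2 hmono).monotone
  have fac : ∀ l : Fin r, (∃ k ∈ Ce z, ∃ a ∈ A l.succ, k * a * k⁻¹ * a⁻¹ ∉ A l.castSucc) →
      Fac z Q (A l.castSucc) (A l.succ) := fun l h =>
    ⟨mono (Fin.zero_le _) (hA0 ▸ zZ), (hmono l).le, hAr ▸ mono (Fin.le_last _), hinv _, hinv _,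
      hmax l, h⟩
  refine ⟨z, β, π, ⟨h0, ?_, fun h => ?_⟩, ?_⟩
  · rcases lt_or_gt_of_ne hij with h | h
    · exact h0.inv_of (fac i hi) (fac j hj) (mono (Fin.succ_le_castSucc_iff.2 h))
    · exact h0.inv_of (fac j hj) (fac i hi) (mono (Fin.succ_le_castSucc_iff.2 h))
  · have h1 := (S.pow_dvd_card_of_pow_dvd_card h).trans (card_dvd_of_le (show (S : Subgroup G) ≤ C from
      fun s hs => hCZ ▸ fun x hx => ((hZ ▸ hx : x ∈ (S : Subgroup G) ⊓ _).2 s hs).symm))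
    rw [card_eq_card_quotient_mul_card_subgroup (pCore 3 C), Nat.card_congr e.toEquiv,
      ← card_map_of_injective C.subtype_injective, ← hQ, hQcard, Nat.card_eq_fintype_card,
      show Fintype.card (Matrix.SpecialLinearGroup (Fin 2) (ZMod 3)) = 24 by decide +kernel] at h1
    norm_num at h1
  · obtain ⟨x, h1, h2⟩ := hZQ
    refine ⟨x * z * x⁻¹, h1 ⟨z, zZ, rfl⟩, fun h => h2 ?_, isConj_iff.2 ⟨x, rfl⟩⟩
    refine eq_of_le_of_card_ge ?_ (card_map_of_injective (MulAut.conj x).injective).ge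
    rw [Zz, MonoidHom.map_zpowers]
    exact zpowers_le.2 h

end H20.L43
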