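import Mathlib
import Cfsg.Agent.Lib.P3L.A5
import Cfsg.Agent.Lib.P3L.PB
import Cfsg.Agent.S0051

/-! Package A6: the model of the point stabiliser from a complement to `W`. -/

set_option autoImplicit false
set_option linter.unusedSectionVars false

namespace H20.L43

open Subgroup M4

namespace A6

variable {G : Type*} [Group G] {z w y s p q : G} {Q : Subgroup G} {β : G → G → ZMod 3}
  {π : G → M2}

/-- the elements of the complement of `W` in the Sylow subgroup -/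
def aa (s p q : G) (t : V3) : G := pw s t.1 * pw p t.2.1 * pw q t.2.2

theorem force_eq_A6 : True := by
  have := @aa.eq_1.{0}
  trivial

theorem rl_pw {g : G} {m : M4} (hm : Pb m) (h : Rl w y z g m) (n : ℕ) :
    Pb (m ^ n) ∧ Rl w y z (g ^ n) (m ^ n) := by
  induction n with
  | zero => exact ⟨pb_one, by simpa using rl_one⟩
  | succ n ih => rw [pow_succ, pow_succ]; exact ⟨ih.1.mul hm, ih.2.mul ih.1 h⟩

theorem rl_aa (h : Cf z Q β π w y s p q) (t : V3) :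
    Rl w y z (aa s p q t) (uu 0 0 0 t.1 (t.2.1 + t.1 * t.2.2) t.2.2) := by
  have a := rl_pw (pb_uu ..) h.rs t.1.val
  have b := rl_pw (pb_uu ..) h.rp t.2.1.val
  have c := rl_pw (pb_uu ..) h.rq t.2.2.val
  have e : ∀ t : V3, uu 0 0 0 1 0 0 ^ t.1.val * uu 0 0 0 0 1 0 ^ t.2.1.val *
    uu 0 0 0 0 0 1 ^ t.2.2.val = uu 0 0 0 t.1 (t.2.1 + t.1 * t.2.2) t.2.2 := by decide +kernel
  exact e t ▸ (a.2.mul a.1 b.2).mul (a.1.mul b.1) c.2

theorem aa_mul (h : Cf z Q β π w y s p q) (t t' : V3) : aa s p q t * aa s p q t' =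
    aa s p q (t.1 + t'.1, t.2.1 + t'.2.1 - t.2.2 * t'.1, t.2.2 + t'.2.2) := by
  have p3 := h.q3 p h.pQ
  have q3 := h.q3 q h.qQ
  have c : ∀ {a b : G}, a * b = b * a → ∀ k l, pw a k * pw b l = pw b l * pw a k := fun e k l =>
    pw_comm (pw_comm e.symm l).symm k
  have e1 : ∀ n : ℕ, q ^ n * s * (q ^ n)⁻¹ = p⁻¹ ^ n * s := fun n => by
    induction n with
    | zero => simp
    | succ n ih =>
      have : q * s * q⁻¹ = p⁻¹ * s := by
        rw [mul_inv_eq_iff_eq_mul, mul_assoc, h.sq]; group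
      have cq : Commute (q ^ n) p⁻¹ := (Commute.symm h.pq).pow_left n |>.inv_right
      calc q ^ (n + 1) * s * (q ^ (n + 1))⁻¹ = q ^ n * (q * s * q⁻¹) * (q ^ n)⁻¹ := by group
        _ = p⁻¹ * (q ^ n * s * (q ^ n)⁻¹) := by rw [this, ← mul_assoc, cq.eq]; group
        _ = _ := by rw [ih, pow_succ']; group
  have e2 : ∀ k d, pw q k * pw s d = pw s d * pw p (-(k * d)) * pw q k := fun k d => by
    have := pw_conj (pw q k) s d
    rw [show pw q k * s * (pw q k)⁻¹ = pw p⁻¹ k * s from e1 _, pw_inv p3,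
      pw_mul (pw_comm h.sp.symm _), pw_pw p3, mul_inv_eq_iff_eq_mul, ← c h.sp, neg_mul] at this
    exact this
  simp only [aa, sub_eq_add_neg, pw_add h.s3, pw_add p3, pw_add q3, mul_assoc]
  congr 1
  rw [← mul_assoc (pw q _) (pw s _), e2, ← mul_assoc (pw p _), ← mul_assoc (pw p _),
    ← mul_assoc (pw p _), ← c h.sp]
  simp only [mul_assoc]
  congr 2
  rw [← mul_assoc (pw q _) (pw p _), ← c h.pq, ← mul_assoc, ← mul_assoc, c (rfl : p * p = p * p)]
  simp only [mul_assoc]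

theorem rl_eq (h : Wd w y z) {g : G} {m n : M4} (a : Rl w y z g m) (b : Rl w y z g n) (u : V3) :
    ra u m = ra u n := h.inj' ((a u).symm.trans (b u))

theorem real (h : Cf z Q β π w y s p q) (m : M4) (hm : Pb m) (h1 : m.a11 = 1) :
    ∃ g, Rl w y z g m := by
  let R : M4 → Prop := fun m => Pb m ∧ m.a11 = 1 ∧ ∃ g, Rl w y z g m
  have Rm : ∀ a b, R a → R b → R (a * b) := by
    rintro a b ⟨pa, ea, g, ra⟩ ⟨pb, eb, k, rb⟩
    exact ⟨pa.mul pb, by simp [ea, eb, pb.2], _, ra.mul pa rb⟩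
  have Rc : ∀ a b, R a → R (a.adj * b * a) → R b := by
    rintro a b ⟨pa, ea, g, ra⟩ r
    have : R a.adj := ⟨pa.adj, by
      have := congrArg M4.a11 (adj_mul pa.1)
      simpa [ea, pa.2] using this, _, ra.inv pa.adj (adj_mul pa.1)⟩
    have := Rm _ _ (Rm _ _ ⟨pa, ea, g, ra⟩ r) this
    rwa [← mul_assoc, ← mul_assoc, mul_adj pa.1, one_mul, mul_assoc, mul_adj pa.1, mul_one] at this
  have Ru : ∀ m : M4, m = uu m.a12 m.a13 m.a14 m.a23 m.a24 m.a34 → R m := fun m e => by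
    rw [e]
    exact ⟨pb_uu .., rfl, _, (rl_aa h (m.a23, m.a24 - m.a23 * m.a34, m.a34)).congr fun u => by
      simp [ra, uu]⟩
  have R2 : R n2 := ⟨by decide, rfl, h.r2⟩
  have R3 : R n3 := ⟨by decide, rfl, h.r3⟩
  have := PB.gen (fun m => R m ∨ R (-m)) (fun a b ha hb => by
      rcases ha with ha | ha <;> rcases hb with hb | hb <;> have := Rm _ _ ha hb
      exacts [.inl this, .inr (mul_neg a b ▸ this), .inr (neg_mul a b ▸ this),
        .inl (neg_mul_neg a b ▸ this)])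
    (Or.inr (Ru _ (by decide))) (fun i j t hi hj => Or.inl (by
      have : ∀ i j t, i ≠ j → j ≠ 0 → ∃ v ∈ [1, n2, n3, n3 * n2], ∀ m, m = v.adj * PB.T i j t * v →
        m = uu m.a12 m.a13 m.a14 m.a23 m.a24 m.a34 := by
        simp only [forall_eq]
        decide +kernel
      obtain ⟨v, hv, e⟩ := this i j t hi hj
      refine Rc v _ ?_ (Ru _ (e _ rfl))
      simp only [List.mem_cons, List.not_mem_nil, or_false] at hv
      rcases hv with rfl | rfl | rfl | rfl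
      exacts [Ru _ (by decide), R2, R3, Rm _ _ R3 R2])) m hm
  rcases this with r | r
  · exact r.2.2
  · exact absurd (h1 ▸ r.2.1 : -(1 : ZMod 3) = 1) (by decide)

theorem compl [Finite G] (h : Cf z Q β π w y s p q) : ∃ L : Subgroup G,
    (∀ m, Pb m → m.a11 = 1 → ∃ l ∈ L, Rl w y z l m) ∧ ∀ u, ww w y z u ∈ L → u = 0 := by
  let N : Subgroup G :=
    { carrier := {g | ∃ m, Pb m ∧ Rl w y z g m}
      mul_mem' := by
        rintro _ _ ⟨a, ha, ra⟩ ⟨b, hb, rb⟩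
        exact ⟨_, ha.mul hb, ra.mul ha rb⟩
      one_mem' := ⟨1, pb_one, rl_one⟩
      inv_mem' := by
        rintro _ ⟨a, ha, ra⟩
        exact ⟨_, ha.adj, ra.inv ha.adj (adj_mul ha.1)⟩ }
  let K : Subgroup N :=
    { carrier := {g | ∃ u, ww w y z u = g.1}
      mul_mem' := by
        rintro _ _ ⟨a, ha⟩ ⟨b, hb⟩
        exact ⟨a + b, by rw [h.wd.add, ha, hb]; rfl⟩
      one_mem' := ⟨0, ww_zero⟩
      inv_mem' := by
        rintro _ ⟨a, ha⟩
        exact ⟨-a, by rw [h.wd.neg, ha]; rfl⟩ }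
  let U : Subgroup N :=
    { carrier := {g | ∃ d e k, Rl w y z g.1 (uu 0 0 0 d e k)}
      mul_mem' := by
        rintro _ _ ⟨d, e, k, ra⟩ ⟨d', e', k', rb⟩
        have := ra.mul (pb_uu ..) rb
        rw [uu_mul] at this
        exact ⟨_, _, _, this.congr fun u => rfl⟩
      one_mem' := ⟨0, 0, 0, rl_one⟩
      inv_mem' := by
        rintro _ ⟨d, e, k, ra⟩
        exact ⟨-d, d * k - e, -k, ra.inv (pb_uu ..) (by ext <;> simp [uu]; ring)⟩ }
  let A : Subgroup N :=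
    { carrier := {g | ∃ t, aa s p q t = g.1}
      mul_mem' := by
        rintro _ _ ⟨a, ha⟩ ⟨b, hb⟩
        exact ⟨_, by rw [← aa_mul h a b, ha, hb]; rfl⟩
      one_mem' := ⟨0, by simp [aa]⟩
      inv_mem' := by
        rintro _ ⟨a, ha⟩
        refine ⟨(-a.1, -a.2.1 - a.2.2 * a.1, -a.2.2), ?_⟩
        rw [Subgroup.coe_inv, ← ha, eq_inv_iff_mul_eq_one, aa_mul h]
        simp [aa, show ∀ x y : ZMod 3, -x - y + x + y = 0 from fun x y => by ring] }
  have : K.Normal := ⟨by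
    rintro _ ⟨u, hu⟩ g
    obtain ⟨m, -, r⟩ := (g⁻¹).2
    exact ⟨_, by simpa [← hu] using (r u).symm⟩⟩
  have : IsMulCommutative K := ⟨⟨by
    rintro ⟨a, u, hu⟩ ⟨b, v, hv⟩
    ext
    simpa [hu, hv] using h.wd.comm u v⟩⟩
  have KU : K ≤ U := by
    rintro _ ⟨u, hu⟩
    exact ⟨0, 0, 0, hu ▸ h.wd.rl_ww u⟩
  have AU : A ≤ U := by
    rintro _ ⟨t, ht⟩
    exact ⟨_, _, _, ht ▸ rl_aa h t⟩
  have inj : ∀ u u' t t', ww w y z u * aa s p q t = ww w y z u' * aa s p q t' →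
      u = u' ∧ t = t' := fun u u' t t' e => by
    have r := (h.wd.rl_ww u).mul pb_one (rl_aa h t)
    have r' := (h.wd.rl_ww u').mul pb_one (rl_aa h t')
    rw [← e] at r'
    have e1 := rl_eq h.wd r r' (1, 0, 0)
    have e2 := rl_eq h.wd r r' (0, 1, 0)
    simp [ra, uu] at e1 e2
    obtain rfl : t = t' := by ext <;> grind
    exact ⟨h.wd.inj' (mul_right_cancel e), rfl⟩
  have sur : ∀ g ∈ U, ∃ u t, ww w y z u * aa s p q t = g.1 := by
    rintro g ⟨d, e, k, r⟩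
    have r' := rl_aa h (d, e - d * k, k)
    simp only [sub_add_cancel] at r'
    obtain ⟨u, hu⟩ := h.cW _ (mul_adj (pb_uu 0 0 0 d e k).1 ▸ r.mul (pb_uu ..)
      (r'.inv (pb_uu ..).adj (adj_mul (pb_uu ..).1)))
    exact ⟨u, _, by rw [hu, inv_mul_cancel_right]⟩
  have wN : ∀ u, ww w y z u ∈ N := fun u => ⟨1, pb_one, h.wd.rl_ww u⟩
  have aN : ∀ t, aa s p q t ∈ N := fun t => ⟨_, pb_uu .., rl_aa h t⟩
  have cU : Nat.card U = 3 ^ 6 := by
    rw [← Nat.card_eq_of_bijective (fun x : V3 × V3 => (⟨⟨_, wN x.1⟩ * ⟨_, aN x.2⟩,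
      mul_mem (KU ⟨_, rfl⟩) (AU ⟨_, rfl⟩)⟩ : U)) ⟨fun a b e =>
        Prod.ext_iff.2 (inj _ _ _ _ (congrArg (fun x : U => x.1.1) e)), fun g => by
          obtain ⟨u, t, e⟩ := sur g.1 g.2
          exact ⟨(u, t), Subtype.ext (Subtype.ext e)⟩⟩]
    simp
  have cop : (Nat.card K).Coprime U.index := by
    have : IsPGroup 3 K := fun ⟨g, u, hu⟩ => ⟨1, by
      ext
      simpa [hu] using h.wd.cube u⟩
    obtain ⟨n, hn⟩ := (IsPGroup.iff_card (p := 3)).1 this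
    rw [hn]
    refine Nat.Coprime.pow_left _ ((Nat.Prime.coprime_iff_not_dvd (by norm_num)).2 fun e => h.syl ?_)
    refine dvd_trans ?_ (card_subgroup_dvd_card N)
    rw [← U.card_mul_index, cU, pow_succ]
    exact mul_dvd_mul_left _ e
  obtain ⟨H, hH⟩ := Cfsg.Agent.S0051.result K U KU cop A AU
    (eq_bot_iff.2 (by
      rintro g ⟨⟨t, ht⟩, u, hu⟩
      have := inj 0 u t 0 (by rw [ht, hu, ww_zero]; simp [aa])
      rw [mem_bot]
      ext
      rw [← hu, ← this.1, ww_zero]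
      rfl))
    (le_antisymm (sup_le KU AU) fun g hg => by
      obtain ⟨u, t, e⟩ := sur g hg
      rw [show g = ⟨_, wN u⟩ * ⟨_, aN t⟩ from Subtype.ext e.symm]
      exact mul_mem_sup ⟨_, rfl⟩ ⟨_, rfl⟩)
  refine ⟨H.map N.subtype, fun m hm h1 => ?_, ?_⟩
  · obtain ⟨g, r⟩ := real h m hm h1
    obtain ⟨⟨⟨k, u, hu⟩, l⟩, e⟩ := hH.2 ⟨g, m, hm, r⟩
    refine ⟨l.1.1, ⟨_, l.2, rfl⟩, ?_⟩
    have e' : l.1.1 = ww w y z (-u) * g := by
      rw [h.wd.neg, hu, eq_inv_mul_iff_mul_eq]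
      exact congrArg Subtype.val e
    rw [e', ← one_mul m]
    exact (h.wd.rl_ww _).mul pb_one r
  · rintro u ⟨l, hl, e⟩
    have := hH.disjoint.le_bot ⟨⟨u, e.symm⟩, hl⟩
    rw [mem_bot] at this
    exact h.wd.inj u (by rw [← e, this]; rfl)

theorem hom [Finite G] (h : Cf z Q β π w y s p q) : ∃ f : M4 → G, Hm False f ∧
    (∀ a b c, f (uu a b c 0 0 0) = ww w y z (a, b, c)) ∧
    ∀ m, Pb m → m.a11 = 1 → Rl w y z (f m) m := by
  obtain ⟨L, hL, hW⟩ := compl h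
  choose! l lL lR using hL
  have uq : ∀ m, Pb m → m.a11 = 1 → ∀ g ∈ L, Rl w y z g m → l m = g := fun m hm h1 g hg r => by
    obtain ⟨u, hu⟩ := h.cW _ (mul_adj hm.1 ▸ (lR m hm h1).mul hm (r.inv hm.adj (adj_mul hm.1)))
    obtain rfl := hW u (hu ▸ mul_mem (lL m hm h1) (inv_mem hg))
    rw [ww_zero] at hu
    exact mul_inv_eq_one.1 hu.symm
  obtain ⟨F, hF⟩ : ∃ F : M4 → G, ∀ m, F m = l m * ww w y z (m.a12, m.a13, m.a14) :=
    ⟨_, fun _ => rfl⟩
  have Fm : ∀ a b, Pb a → a.a11 = 1 → Pb b → b.a11 = 1 → F (a * b) = F a * F b :=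
    fun a b ha a1 hb b1 => by
      rw [hF, hF, hF, uq _ (ha.mul hb) (by simp [a1, b1, hb.2]) _
        (mul_mem (lL a ha a1) (lL b hb b1)) ((lR a ha a1).mul ha (lR b hb b1)),
        show ((a * b).a12, (a * b).a13, (a * b).a14) =
          ra (a.a12, a.a13, a.a14) b + (b.a12, b.a13, b.a14) by
          simp only [ra, Prod.mk_add_mk, mul_a12, mul_a13, mul_a14, a1]; congr 1 <;> [skip; congr 1] <;> ring,
        h.wd.add, ← lR b hb b1]
      group
  have Fu : ∀ a b c, F (uu a b c 0 0 0) = ww w y z (a, b, c) := fun a b c => by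
    rw [hF, uq _ (pb_uu a b c 0 0 0) rfl 1 (one_mem _) (rl_one.congr fun u => rfl), one_mul]
    rfl
  have pm : ∀ m, Pb m → m.a11 = 1 ∨ m.a11 = -1 := fun m hm => by
    obtain ⟨d, d2, d3, d4⟩ := hm
    refine (zm3 m.a11).resolve_left fun e => ?_
    simp [det, e, d2, d3, d4] at d
  have ng : ∀ m, Pb m → Pb (-m) := fun m hm => dm_false.1 hm.dm.neg
  have n1 : ¬(-1 : ZMod 3) = 1 := by decide
  have K : ∀ m, Pb m → m.a11 = 1 → F m = 1 → m = 1 := fun m hm h1 e => by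
    rw [hF, mul_eq_one_iff_eq_inv, ← h.wd.neg] at e
    have e0 := hW _ (e ▸ lL m hm h1)
    have r := lR m hm h1
    rw [e, e0, ww_zero] at r
    have e1 := rl_eq h.wd r rl_one (1, 0, 0)
    have e2 := rl_eq h.wd r rl_one (0, 1, 0)
    have e3 := rl_eq h.wd r rl_one (0, 0, 1)
    simp [ra] at e0 e1 e2 e3
    ext <;> simp [*, hm.2]
  have F1 : F 1 = 1 := (Fu 0 0 0).trans ww_zero
  refine ⟨fun m => F (if m.a11 = 1 then m else -m), ⟨fun a b ha hb => ?_, fun m hm => ?_⟩,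
    fun a b c => by simpa [uu] using Fu a b c, fun m hm h1 => ?_⟩
  · rw [dm_false] at ha hb
    have e : (a * b).a11 = a.a11 * b.a11 := by simp [hb.2]
    rcases pm a ha with a1 | a1 <;> rcases pm b hb with b1 | b1 <;>
      simp only [e, a1, b1, n1, mul_one, one_mul, neg_mul_neg, if_true, if_false]
    · exact Fm _ _ ha a1 hb b1
    · rw [← mul_neg]; exact Fm _ _ ha a1 (ng b hb) (by simp [b1])
    · rw [← neg_mul]; exact Fm _ _ (ng a ha) (by simp [a1]) hb b1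
    · rw [← neg_mul_neg]; exact Fm _ _ (ng a ha) (by simp [a1]) (ng b hb) (by simp [b1])
  · rw [dm_false] at hm
    refine ⟨fun e => ?_, ?_⟩
    · rcases pm m hm with a1 | a1 <;> simp only [a1, n1, if_true, if_false] at e
      · exact Or.inl (K m hm a1 e)
      · exact Or.inr (neg_eq_iff_eq_neg.1 (K _ (ng m hm) (by simp [a1]) e))
    · rintro (rfl | rfl) <;> simp [n1, F1]
  · simp only [h1, if_true]
    rw [hF, ← mul_one m]
    simpa using (lR m hm h1).mul hm (h.wd.rl_ww _)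

end A6

open A6 in
theorem Cf.model {G : Type*} [Group G] [Finite G] {z w y s p q : G} {Q : Subgroup G}
    {β : G → G → ZMod 3} {π : G → M2} (h : Cf z Q β π w y s p q) :
    ∃ f : M4 → G, Md False True f ∧ (∀ a b c, f (uu a b c 0 0 0) = ww w y z (a, b, c)) ∧
      ∀ g, g ∈ Q ↔ ∃ a b c e k, f (uu a b c 0 e k) = g := by
  obtain ⟨f, hf, fu, fr⟩ := hom h
  have fz : f zz = z := by rw [zz, fu, ww_z, pw_one]
  have sur : ∀ g m, Pb m → m.a11 = 1 → Rl w y z g m → ∃ a b c, f (m * uu a b c 0 0 0) = g :=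
    fun g m hm h1 r => by
      obtain ⟨u, hu⟩ := h.cW _ (adj_mul hm.1 ▸
        ((fr m hm h1).inv hm.adj (adj_mul hm.1)).mul hm.adj r)
      exact ⟨u.1, u.2.1, u.2.2, by
        rw [hf.mul _ _ hm.dm (pb_uu ..).dm, fu, hu, mul_inv_cancel_left]⟩
  have wQ : ∀ u, ww w y z u ∈ Q := fun u =>
    mul_mem (mul_mem (pw_mem h.wQ _) (pw_mem h.yQ _)) (pw_mem h.zQ _)
  have hQ : ∀ g, g ∈ Q ↔ ∃ a b c e k, f (uu a b c 0 e k) = g := fun g => by
    refine ⟨fun hg => ?_, ?_⟩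
    · obtain ⟨e, k, r⟩ := h.rQ g hg
      obtain ⟨a, b, c, q⟩ := sur g _ (pb_uu ..) rfl r
      exact ⟨a, b, c, e, k, by simpa [uu_mul] using q⟩
    · rintro ⟨a, b, c, e, k, rfl⟩
      obtain ⟨a', b', c', r⟩ := sur _ _ (pb_uu ..) rfl (rl_aa h (0, e, k))
      have m : aa s p q (0, e, k) ∈ Q := by
        simpa [aa] using mul_mem (pw_mem h.pQ e) (pw_mem h.qQ k)
      have := mul_mem m (wQ (a - a', b - b', c - c'))
      rw [← r, ← fu, uu_mul, hf.uu_mul] at this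
      simpa using this
  have cz : ∀ g ∈ Ce z, ∃ m, Pb m ∧ f m = g := fun g hg => by
    obtain ⟨m, hm, h1, r⟩ := h.rC g hg
    obtain ⟨a, b, c, q⟩ := sur g m hm h1 r
    exact ⟨_, hm.mul (pb_uu ..), q⟩
  refine ⟨f, ⟨hf, fun g hg => ?_, fun g a b c e k q => ?_⟩, fu, hQ⟩
  · obtain ⟨x, hx⟩ := hf.mem_zz.1 hg
    rcases zm3 x with rfl | rfl | rfl
    · rw [uu_zero, hf.one, fz, eq_comm, conj_eq_one_iff] at hx
      exact absurd hx h.z1
    · exact cz g (mem_Ce.2 (by rw [← fz]; exact mul_inv_eq_iff_eq_mul.1 hx.symm))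
    · have r : f rr * f (uu 0 0 (-1) 0 0 0) * (f rr)⁻¹ = f zz :=
        hf.cj PB.pb_rr.dm (pb_uu ..).dm (pb_uu ..).dm (by decide)
      obtain ⟨m, hm, e⟩ := cz (f rr * g) (mem_Ce.2 (by
        rw [← fz, ← mul_inv_eq_iff_eq_mul]
        nth_rewrite 2 [← r]
        rw [hx]
        group))
      exact ⟨_, PB.pb_rr.adj.mul hm, by
        rw [hf.mul _ _ PB.pb_rr.adj.dm hm.dm, hf.adj PB.pb_rr.dm, e, inv_mul_cancel_left]⟩
  · have xQ := (hQ _).2 ⟨a, b, c, e, k, rfl⟩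
    have key : ∀ i j l n : ZMod 3, i * n - j * l = 1 →
        a * (i * e + j * k) + b * (l * e + n * k) = (a * n - b * l) * e + (b * i - a * j) * k := by
      intro i j l n hd
      have hm : Pb ⟨1, 0, 0, 0, 0, i, j, 0, 0, l, n, 0, 0, 0, 0, 1⟩ := by simp [Pb, det, hd]
      have c1 := hf.cj hm.dm (pb_uu a b c 0 e k).dm
        (pb_uu (a * n - b * l) (b * i - a * j) c 0 (i * e + j * k) (l * e + n * k)).dm
        (by ext <;> simp [uu] <;> grind)
      have c2 := h.c0 _ xQ (isConj_iff.2 ⟨g, fz ▸ q⟩) _ (mem_Ce.2 (fz ▸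
        hf.comm hm.dm (pb_uu 0 0 1 0 0 0).dm (by ext <;> simp [uu])))
      rw [c1, ← h.comm_iff xQ ((hQ _).2 ⟨_, _, _, _, _, rfl⟩), hf.uu_mul, hf.uu_mul] at c2
      have := hf.uu_inj c2
      grind
    have k1 := key 1 1 0 1 (by decide)
    have k2 := key 1 0 1 1 (by decide)
    have k3 := key 0 1 (-1) 1 (by decide)
    clear * - k1 k2 k3
    revert a b e k
    decide

end H20.L43
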