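import Mathlib
import Cfsg.Agent.Lib.P3L.A7

/-! The centraliser of `z` normalises `W`; the configuration. -/

set_option autoImplicit false
set_option linter.unusedSectionVars false

namespace H20.L43

open Subgroup M4

variable {G : Type*} [Group G] [Finite G] {z y w t : G} {Q Q' : Subgroup G}
  {β β' : G → G → ZMod 3} {π π' : G → M2}

theorem mat_S {S : M4} (c1 : mv S (1, 0, 0, 0) = (1, 1, 0, 0)) (c2 : mv S (0, 1, 0, 0) = (0, 1, 0, 0))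
    (hf : ∀ u v, fm (mv S u) (mv S v) = 1 * fm u v) (hr : tt * S * tt * S = 1) (h3 : S * S * S = 1) :
    S = ⟨1, 0, 0, 0, 1, 1, 0, S.a24, 0, 0, 1, -1, 0, 0, 0, 1⟩ := by
  have f1 := hf (1, 0, 0, 0) (0, 0, 1, 0)
  have f2 := hf (1, 0, 0, 0) (0, 0, 0, 1)
  have f3 := hf (0, 1, 0, 0) (0, 0, 1, 0)
  have f4 := hf (0, 1, 0, 0) (0, 0, 0, 1)
  simp only [M4.ext_iff, tt, dg] at *
  simp [mv, fm] at *
  obtain ⟨a1, a2, a3, a4⟩ := c1
  obtain ⟨b1, b2, b3, b4⟩ := c2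
  simp only [a1, a2, a3, a4, b1, b2, b3, b4] at *
  grind

theorem mat_N {N N' : M4} {e : ZMod 3} (h2 : N * N = -1) (hi : N' * N = 1) (hr : tt * N' * tt = N)
    (hb : N = ⟨1, 0, 0, 0, 1, 1, 0, e, 0, 0, 1, -1, 0, 0, 0, 1⟩ *
      (N * ⟨1, 0, 0, 0, 1, 1, 0, e, 0, 0, 1, -1, 0, 0, 0, 1⟩ * N') *
      ⟨1, 0, 0, 0, 1, 1, 0, e, 0, 0, 1, -1, 0, 0, 0, 1⟩) :
    mv N (1, 0, 0, 0) = (0, 1, 0, 0) ∧ mv N (0, 1, 0, 0) = (-1, 0, 0, 0) := by
  have e1 : N' = -N := by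
    rw [← mul_one N', ← neg_neg (1 : M4), ← h2, mul_neg, ← mul_assoc, hi, one_mul]
  subst e1
  simp only [M4.ext_iff, tt, dg] at hr
  simp at hr
  have z1 : N.a11 = 0 := by grind
  have z2 : N.a14 = 0 := by grind
  have z3 : N.a22 = 0 := by grind
  have z4 : N.a23 = 0 := by grind
  have z5 : N.a32 = 0 := by grind
  have z6 : N.a33 = 0 := by grind
  have z7 : N.a41 = 0 := by grind
  have z8 : N.a44 = 0 := by grind
  simp only [M4.ext_iff] at hb h2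
  simp [z1, z2, z3, z4, z5, z6, z7, z8] at hb h2
  simp [mv, z1, z3, z5, z7]
  grind

set_option synthInstance.maxSize 1024 in
theorem m2_gen : ∀ a : M2, a.det = 1 → a ^ 3 = 1 → a ≠ 1 → ∀ b : M2, b.det = 1 → b * b = mo →
    ∀ m : M2, m.det = 1 → ∃ (i : Fin 3) (j : Fin 4) (k : Fin 3),
      m = a ^ i.1 * b ^ j.1 * a ^ k.1 := by decide +kernel

namespace Pr

variable (P : Pr z y w t Q Q' β β' π π')
include P

theorem exists_r : ∃ r, Rl w y z r rr := by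
  obtain ⟨τ, hτ, pτ, τ2⟩ := P.h'.exists_t
  obtain ⟨s, hs, v, hv, e1, e2, e3, e4⟩ := P.dual
  obtain ⟨i, hi⟩ := (mem_zp P.wd.y3).1 (P.h'.inv τ hτ pτ w P.wQ)
  obtain ⟨j, hj⟩ := (mem_zp P.wd.y3).1 (P.h'.inv τ hτ pτ z P.zQ)
  have e : ∀ x, τ⁻¹ * x * τ = τ * x * τ⁻¹ := fun x => by
    rw [inv_eq_of_mul_eq_one_right τ2]
  have r1 : Rl w y z τ ⟨1, 0, 0, 0, 0, -1, i, 0, 0, 0, 1, 0, 0, 0, j, -1⟩ :=
    P.wd.rl (by
      rw [e, eq_mul_inv_of_mul_eq hi.symm]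
      simp [ww, pw_neg_one P.wd.w3, eq_inv_mul_iff_mul_eq, ← mul_assoc, ← pw_comm P.wd.wy.symm])
      (by simp [e, cz hτ, ww]) (by
      rw [e, eq_mul_inv_of_mul_eq hj.symm]
      simp [ww, pw_neg_one P.wd.z3])
  have m := mul_mem (pw_mem hs i) (pw_mem hv j)
  have r2 := P.rQ' m
  rw [P.h'.mul_r (pw_mem hs i) (pw_mem hv j) P.wQ, P.h'.mul_r (pw_mem hs i) (pw_mem hv j) P.zQ,
    P.h'.pw_r hs P.wQ, P.h'.pw_r hs P.zQ, P.h'.pw_r hv P.wQ, P.h'.pw_r hv P.zQ, e1, e2, e3, e4] at r2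
  refine ⟨_, (P.rt.mul (by decide) (r1.mul ?_ r2)).congr fun u => ?_⟩
  · simp [Pb, det]
  · congr 1
    ext <;> simp [tt, rr, dg, mq]

theorem exists_s : ∃ s ∈ Q', Rl w y z s (uu 0 0 0 1 0 0) ∧ t * s * t⁻¹ = s := by
  obtain ⟨s, hs, -, -, e1, e2, -⟩ := P.dual
  have r := P.rQ' hs
  rw [e1, e2] at r
  have r' : Rl w y z s⁻¹ (mq (-1) 0) := r.inv (by decide) (by decide)
  obtain ⟨u, hu⟩ := P.cW (s⁻¹ * (t * (s * t))) (by
    have := r'.mul (by decide) (P.rt.mul (by decide) (r.mul (by decide) P.rt))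
    rwa [show mq (-1) 0 * (tt * (mq 1 0 * tt)) = 1 by decide] at this)
  refine ⟨s * ww w y z (-u), mul_mem hs (P.ww_mem' _), (show mq 1 0 * 1 = uu 0 0 0 1 0 0 by decide) ▸
    r.mul (by decide) (P.wd.rl_ww _), ?_⟩
  have e : t * s * t⁻¹ = s * ww w y z u := by rw [hu, P.ti]; group
  have e' : t * ww w y z (-u) * t⁻¹ = ww w y z u := by
    rw [P.wd.neg, hu, mul_inv_rev, mul_inv_rev, mul_inv_rev, P.ti, inv_inv]
    calc _ = (t * t) * (s⁻¹ * (t * (s * t))) := by group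
      _ = _ := by rw [P.t2, one_mul]
  rw [← conj_mul, e, e', mul_assoc, ← P.wd.add, (by decide : ∀ u : V3, u + u = -u) u]

theorem exists_basis {r : G} (hr : Rl w y z r rr) :
    ∃ c d, Sb z Q β w y c d ∧ mt β w y c d r = tt := by
  obtain ⟨c, d, s⟩ := P.sb
  have h := P.h
  have hr' : Rl w y z r⁻¹ rr := hr.inv (by decide) (by decide)
  have rz : r * z * r⁻¹ = pw z (-1) := by simpa [ra, rr, dg, ww] using hr' (0, 0, 1)
  have rw' : r * w * r⁻¹ = w := by simpa [ra, rr, dg, ww] using hr' (1, 0, 0)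
  have ry : r * y * r⁻¹ = y⁻¹ := by simpa [ra, rr, dg, ww, pw_neg_one P.wd.y3] using hr' (0, 1, 0)
  have nz : r * z * r⁻¹ ∈ zpowers z := rz ▸ pw_mem (mem_zpowers z) _
  have nr := h.nQ nz
  have cj : ∀ a ∈ Q, ∀ b ∈ Q, β (r * a * r⁻¹) (r * b * r⁻¹) = -β a b := fun a ha b hb => by
    rw [h.cj rz nr ha hb, neg_one_mul]
  obtain ⟨u, hu⟩ := P.cW (r * r) (by
    have := hr.mul (by decide) hr
    rwa [show rr * rr = 1 by decide] at this)
  have r2 : ∀ a ∈ Q, ∀ x ∈ Q, β (r * (r * a * r⁻¹) * r⁻¹) x = β a x := fun a ha x hx => by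
    rw [show r * (r * a * r⁻¹) * r⁻¹ = r * r * a * (r * r)⁻¹ by group, ← hu,
      h.toEx.conj (P.ww_mem u) ha, h.mul_l (pw_mem h.zQ _) ha hx,
      h.z_l (pw_mem (mem_zpowers z) _) hx, zero_add]
  have mc := mul_mem (nr c s.hc) (inv_mem s.hc)
  have md0 := mul_mem (nr _ (inv_mem s.hd)) (inv_mem s.hd)
  have wc : β w (r * c * r⁻¹ * c⁻¹) = 1 := by
    have := cj w s.ha c s.hc
    rw [rw'] at this
    rw [h.mul_r (nr c s.hc) (inv_mem s.hc) s.ha, this, h.inv_r s.hc s.ha, s.ac]; rfl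
  have yc : β y (r * c * r⁻¹ * c⁻¹) = 0 := by
    have := cj y s.hb c s.hc
    rw [ry, h.inv_l s.hb (nr c s.hc), neg_inj] at this
    rw [h.mul_r (nr c s.hc) (inv_mem s.hc) s.hb, this, h.inv_r s.hc s.hb, s.bc]; rfl
  have wd : β w (r * d⁻¹ * r⁻¹ * d⁻¹) = 0 := by
    have := cj w s.ha _ (inv_mem s.hd)
    rw [rw'] at this
    rw [h.mul_r (nr _ (inv_mem s.hd)) (inv_mem s.hd) s.ha, this, h.inv_r s.hd s.ha, s.ad]; rfl
  have yd : β y (r * d⁻¹ * r⁻¹ * d⁻¹) = 1 := by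
    have := cj y s.hb _ (inv_mem s.hd)
    rw [ry, h.inv_l s.hb (nr _ (inv_mem s.hd)), neg_inj] at this
    rw [h.mul_r (nr _ (inv_mem s.hd)) (inv_mem s.hd) s.hb, this, h.inv_r s.hd s.hb, s.bd]; rfl
  have mi : ∀ x ∈ Q, β (r * (r * c * r⁻¹ * c⁻¹) * r⁻¹) x = -β (r * c * r⁻¹ * c⁻¹) x := fun x hx => by
    rw [← conj_mul, ← conj_inv, h.mul_l (nr _ (nr c s.hc)) (inv_mem (nr c s.hc)) hx, r2 c s.hc x hx,
      h.mul_l (nr c s.hc) (inv_mem s.hc) hx, h.inv_l s.hc hx, h.inv_l (nr c s.hc) hx]; ring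
  have pl : ∀ x ∈ Q, β (r * (r * d⁻¹ * r⁻¹ * d⁻¹) * r⁻¹) x = β (r * d⁻¹ * r⁻¹ * d⁻¹) x :=
    fun x hx => by
      rw [← conj_mul, h.mul_l (nr _ (nr _ (inv_mem s.hd))) (nr _ (inv_mem s.hd)) hx,
        r2 _ (inv_mem s.hd) x hx, h.mul_l (nr _ (inv_mem s.hd)) (inv_mem s.hd) hx, add_comm]
  generalize r * c * r⁻¹ * c⁻¹ = c at *
  generalize r * d⁻¹ * r⁻¹ * d⁻¹ = d0 at *
  have mw := pw_mem s.ha (β c d0)
  have md := mul_mem md0 mw
  have s' : Sb z Q β w y c (d0 * pw w (β c d0)) :=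
    { h.toEx with
      ha := s.ha, hb := s.hb, hc := mc, hd := md, ab := s.ab, ac := wc, bc := yc
      ad := by rw [h.mul_r md0 mw s.ha, h.pw_r s.ha s.ha, wd, h.self s.ha]; ring
      bd := by rw [h.mul_r md0 mw s.hb, h.pw_r s.ha s.hb, yd, h.anti s.ha s.hb, s.ab]; ring
      cd := by rw [h.mul_r md0 mw mc, h.pw_r s.ha mc, h.anti s.ha mc, wc]; ring }
  have pl' : ∀ x ∈ Q, β (r * (d0 * pw w (β c d0)) * r⁻¹) x = β (d0 * pw w (β c d0)) x :=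
    fun x hx => by
      rw [← conj_mul, pw_conj, rw', h.mul_l (nr _ md0) mw hx, pl x hx, h.mul_l md0 mw hx]
  refine ⟨_, _, s', ?_⟩
  generalize d0 * pw w (β c d0) = d at *
  have c1 : co β w y c d (r * d * r⁻¹) = co β w y c d d := by
    simp only [co, pl' c mc, pl' d md, h.anti (nr d md) s.ha, h.anti (nr d md) s.hb, pl' w s.ha,
      pl' y s.hb, h.anti md s.ha, h.anti md s.hb]
  have c2 : co β w y c d (r * c * r⁻¹) = -co β w y c d c := by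
    simp only [co, mi c mc, mi d md, h.anti (nr c mc) s.ha, h.anti (nr c mc) s.hb, mi w s.ha,
      mi y s.hb, h.anti mc s.ha, h.anti mc s.hb, Prod.neg_mk]
  rw [mt, c1, c2, rw', ry, s'.co_inv s.hb, s'.co_a, s'.co_b, s'.co_c, s'.co_d]
  decide

theorem exists_n {r σ : G} (hr : Rl w y z r rr) (hσ : Rl w y z σ (uu 0 0 0 (-1) 0 0))
    (σ3 : σ ^ 3 = 1) : ∃ n ∈ Ce z, π n * π n = mo ∧ π (r * n⁻¹ * r⁻¹) = π n ∧
      π n = π (σ * (n * σ * n⁻¹) * σ) := by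
  have h := P.h
  have hr' : Rl w y z r⁻¹ rr := hr.inv (by decide) (by decide)
  have nz : r * z * r⁻¹ ∈ zpowers z := by
    have := hr' (0, 0, 1)
    simp only [ww_z, pw_one, inv_inv] at this
    rw [this, show ra (0, 0, 1) rr = (0, 0, -1) by decide, ww_z]
    exact pw_mem (mem_zpowers z) _
  have sC : σ ∈ Ce z := hσ.z_of (by decide)
  have nC : ∀ {g}, g ∈ Ce z → r * g * r⁻¹ ∈ Ce z := h.nCe' nz
  have al : ∀ {g k}, g ∈ Ce z → k ∈ Ce z → π g = π k → π (r * g * r⁻¹) = π (r * k * r⁻¹) :=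
    fun {g k} hg hk e => by
      have m := h.nQ nz _ (h.peq hg hk e)
      rw [show r * g * r⁻¹ = r * (g * k⁻¹) * r⁻¹ * (r * k * r⁻¹) by group,
        h.pm _ (h.QC m) _ (nC hk), h.pQ m, one_mul]
  have wi : ∀ {g m}, g ∈ Ce z → Rl w y z g m → Pb m → rr * (m * (rr * m)) = 1 →
      π (r * g * r⁻¹) = (π g).iv := fun {g m} hg e pm e1 => by
    obtain ⟨u, hu⟩ := P.cW _ (e1 ▸ hr.mul (by decide) (e.mul pm (hr'.mul (by decide) e)))
    rw [← h.pinv hg, show r * g * r⁻¹ = r * (g * (r⁻¹ * g)) * g⁻¹ by group, ← hu,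
      h.pm _ (h.QC (P.ww_mem u)) _ (inv_mem hg), h.pQ (P.ww_mem u), one_mul]
  have key : ∀ a : M2, a.det = 1 → a ^ 3 = 1 → a ≠ 1 → ∃ i : M2, i.det = 1 ∧ i * i = mo ∧
      i * (a * i * a.iv) = a * (a * i * a.iv) * a.iv ∧ ∀ x : M2, x.det = 1 → x * x = mo →
      x * (a.iv * x * a.iv.iv) = a.iv * (a.iv * x * a.iv.iv) * a.iv.iv → ∃ l : Fin 3,
      (a ^ l.1 * i * (a ^ l.1).iv).iv * (a ^ l.1 * i * (a ^ l.1).iv).iv = mo ∧
      a.iv ^ l.1 * x * (a.iv ^ l.1).iv = (a ^ l.1 * i * (a ^ l.1).iv).iv ∧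
      (a ^ l.1 * i * (a ^ l.1).iv).iv = a * ((a ^ l.1 * i * (a ^ l.1).iv).iv * a *
        (a ^ l.1 * i * (a ^ l.1).iv).iv.iv) * a := by decide +kernel
  obtain ⟨i, i1, i2, i3, i4⟩ := key _ (h.pd σ sC) (by rw [← h.ppow sC, σ3, h.pQ (one_mem _)])
    fun e => absurd (P.notQ (i := -1) hσ ((h.pk σ sC).1 e)) (by decide)
  obtain ⟨ι, hι, rfl⟩ := h.ps i i1
  have as := wi sC hσ (by decide) (by decide)
  have m1 := mul_mem (mul_mem sC hι) (inv_mem sC)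
  have cc : ∀ {g k}, g ∈ Ce z → k ∈ Ce z → π (r * (g * k * g⁻¹) * r⁻¹) =
      π (r * g * r⁻¹) * π (r * k * r⁻¹) * (π (r * g * r⁻¹)).iv := fun hg hk => by
    rw [← h.pcj (nC hg) (nC hk)]; congr 1; group
  obtain ⟨l, l1, l2, l3⟩ := i4 _ (h.pd _ (nC hι)) (by
    rw [← h.pm _ (nC hι) _ (nC hι), conj_mul, al (mul_mem hι hι) P.tC (by
      rw [h.pm _ hι _ hι, i2, P.pt]), wi P.tC P.rt (by decide) (by decide), P.pt]; decide) (by
    rw [← as, ← cc sC hι, ← cc sC m1, ← h.pm _ (nC hι) _ (nC m1), conj_mul]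
    refine al (mul_mem hι m1) (mul_mem (mul_mem sC m1) (inv_mem sC)) ?_
    rw [h.pm _ hι _ m1, h.pcj sC m1, h.pcj sC hι, i3])
  have m2 := pow_mem sC l.1
  have m3 := mul_mem (mul_mem m2 hι) (inv_mem m2)
  have e : π (σ ^ l.1 * ι * (σ ^ l.1)⁻¹)⁻¹ = (π σ ^ l.1 * π ι * (π σ ^ l.1).iv).iv := by
    rw [h.pinv m3, h.pcj m2 hι, h.ppow sC]
  refine ⟨_, inv_mem m3, by rw [e, l1], ?_, ?_⟩
  · rw [inv_inv, cc m2 hι, ← conj_pow, h.ppow (nC sC), as, l2, e]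
  · have m4 := mul_mem (mul_mem (inv_mem m3) sC) (inv_mem (inv_mem m3))
    rw [h.pm _ (mul_mem sC m4) _ sC, h.pm _ sC _ m4, h.pcj (inv_mem m3) sC, e, ← l3]

theorem cfg : ∃ s p q, ((∀ x ∈ Q, IsConj z x → ∀ g ∈ Ce z, β x (g * x * g⁻¹) = 0) →
    Cf z Q β π w y s p q) ∧ ∀ g ∈ Ce z, β y (g * y * g⁻¹) = 0 := by
  have h := P.h
  obtain ⟨r, hr⟩ := P.exists_r
  obtain ⟨s, hs, rs, ts⟩ := P.exists_s
  obtain ⟨c, d, B, mr⟩ := P.exists_basis hr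
  have rσ : Rl w y z s⁻¹ (uu 0 0 0 (-1) 0 0) := rs.inv (by decide) (by decide)
  have s3 := P.h'.q3 s hs
  obtain ⟨n, hn, n1, n2', n3'⟩ := P.exists_n hr rσ (by rw [inv_pow, s3, inv_one])
  have hr' : Rl w y z r⁻¹ rr := hr.inv (by decide) (by decide)
  have nz : r * z * r⁻¹ ∈ zpowers z := by
    have := hr' (0, 0, 1)
    simp only [ww_z, pw_one, inv_inv] at this
    rw [this, show ra (0, 0, 1) rr = (0, 0, -1) by decide, ww_z]
    exact pw_mem (mem_zpowers z) _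
  have sC : s⁻¹ ∈ Ce z := rσ.z_of (by decide)
  have mm : ∀ {g k}, g ∈ Ce z → k ∈ Ce z →
      mt β w y c d (g * k) = mt β w y c d g * mt β w y c d k := fun hg hk =>
    B.mt_mul h.toHy0 (cz' hg) (cz' hk)
  have cc : ∀ {g}, g ∈ Ce z → ∀ {q}, q ∈ Q →
      co β w y c d (g * q * g⁻¹) = mv (mt β w y c d g) (co β w y c d q) := fun hg _ hq =>
    B.co_cj (cz' hg) (h.nC _ hg) hq
  have mr' : mt β w y c d r⁻¹ = tt := by
    have := B.mt_mul h.toHy0 (Hy0.ninv nz) nz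
    rw [inv_mul_cancel, B.mt_Q (one_mem _), mr] at this
    rw [← mul_one (mt β w y c d r⁻¹), show (1 : M4) = tt * tt by decide, ← mul_assoc, ← this, one_mul]
  have rc : ∀ {g}, g ∈ Ce z → mt β w y c d (r * g * r⁻¹) = tt * mt β w y c d g * tt := fun {g} hg => by
    have e : r * g * z * (r * g)⁻¹ ∈ zpowers z := by
      rwa [show r * g * z * (r * g)⁻¹ = r * (g * z * g⁻¹) * r⁻¹ by group, cz hg]
    rw [B.mt_mul h.toHy0 e (Hy0.ninv nz), B.mt_mul h.toHy0 nz (cz' hg), mr, mr']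
  have eS := mat_S (S := mt β w y c d s⁻¹)
    (by
      have := rs (1, 0, 0)
      rw [ww_w] at this
      rw [← B.co_a, ← cc sC B.ha, inv_inv, this, B.co_ww]; decide)
    (by rw [← B.co_b, ← cc sC B.hb, rσ.y_of (by decide)])
    (B.mt_fm (by rw [cz sC, pw_one]) (h.nC _ sC))
    (by
      obtain ⟨u, hu⟩ := P.cW _ ((show rr * (uu 0 0 0 (-1) 0 0 * (rr * uu 0 0 0 (-1) 0 0)) = 1 by
        decide) ▸ hr.mul (by decide) (rσ.mul (by decide) (hr'.mul (by decide) rσ)))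
      rw [← rc sC, ← mm (h.nCe' nz sC) sC, mul_assoc, mul_assoc, ← hu, B.mt_Q (P.ww_mem u)])
    (by
      rw [← mm sC sC, ← mm (mul_mem sC sC) sC, ← pow_three', inv_pow, s3, inv_one,
        B.mt_Q (one_mem _)])
  generalize (mt β w y c d s⁻¹).a24 = e at eS
  have m4 := mul_mem (mul_mem hn sC) (inv_mem hn)
  obtain ⟨N1, N2⟩ := mat_N (N := mt β w y c d n) (N' := mt β w y c d n⁻¹) (e := e)
    (by
      rw [← mm hn hn, B.mt_pi h.toHy0 (mul_mem hn hn) P.tC (by rw [h.pm _ hn _ hn, n1, P.pt])]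
      refine B.mt_eq (cz' P.tC) (h.nC _ P.tC) fun q hq => ?_
      have := B.co_z (h.inv t P.tC P.pt q hq)
      rw [B.co_mul (h.nC _ P.tC q hq) hq] at this
      rw [eq_neg_of_add_eq_zero_left this]
      simp [mv, Prod.ext_iff])
    (by rw [← mm (inv_mem hn) hn, inv_mul_cancel, B.mt_Q (one_mem _)])
    (by rw [← rc (inv_mem hn), B.mt_pi h.toHy0 (h.nCe' nz (inv_mem hn)) hn n2'])
    (by
      rw [← eS, ← mm hn sC, ← mm (mul_mem hn sC) (inv_mem hn), ← mm sC m4,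
        ← mm (mul_mem sC m4) sC]
      exact B.mt_pi h.toHy0 hn (mul_mem (mul_mem sC m4) sC) n3')
  rw [← B.co_a, ← cc hn B.ha] at N1
  rw [← B.co_b, ← cc hn B.hb] at N2
  obtain ⟨i, hi⟩ := B.of_co (h.nC _ hn _ B.ha) N1
  obtain ⟨j, hj⟩ := B.of_co (h.nC _ hn _ B.hb) N2
  have rn : Rl w y z n⁻¹ ⟨1, 0, 0, 0, 0, 0, 1, i, 0, -1, 0, j, 0, 0, 0, 1⟩ :=
    P.wd.rl (by simpa using hi.symm) (by simpa using hj.symm) (by simp [ww_z, cz hn])
  have rq : ∀ v : V4, Rl w y z (ve w y c d v) (uu 0 0 0 0 v.2.2.1 v.2.2.2) := fun v => by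
    have := B.rQ (B.ve_mem v)
    rwa [show β w _ = v.2.2.1 from congrArg (·.2.2.1) (B.co_ve v),
      show β y _ = v.2.2.2 from congrArg (·.2.2.2) (B.co_ve v)] at this
  let N0 : Subgroup G :=
    { carrier := {g | ∃ m, Pb m ∧ m.a11 = 1 ∧ Rl w y z g m}
      mul_mem' := by
        rintro a b ⟨m, m1, m2, m3⟩ ⟨k, k1, k2, k3⟩
        exact ⟨_, m1.mul k1, by simp [m2, k2, k1.2], m3.mul m1 k3⟩
      one_mem' := ⟨1, pb_one, rfl, rl_one⟩
      inv_mem' := by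
        rintro a ⟨m, m1, m2, m3⟩
        refine ⟨_, m1.adj, ?_, m3.inv m1.adj (adj_mul m1.1)⟩
        simpa [m2, m1.2] using congrArg M4.a11 (adj_mul m1.1) }
  have rC : ∀ g ∈ Ce z, g ∈ N0 := fun g hg => by
    obtain ⟨i, j, k, e⟩ := m2_gen _ (h.pd _ sC) (by rw [← h.ppow sC, inv_pow, s3, inv_one,
      h.pQ (one_mem _)]) (fun e => absurd (P.notQ (i := -1) rσ ((h.pk _ sC).1 e)) (by decide)) _
      (h.pd n hn) n1 _ (h.pd g hg)
    have m5 := mul_mem (pow_mem sC i.1) (pow_mem hn j.1)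
    have := h.peq hg (mul_mem m5 (pow_mem sC k.1)) (by
      rw [h.pm _ m5 _ (pow_mem sC _), h.pm _ (pow_mem sC _) _ (pow_mem hn _), h.ppow sC, h.ppow sC,
        h.ppow hn, e])
    have a1 : s⁻¹ ∈ N0 := ⟨_, pb_uu .., rfl, rσ⟩
    have a2 : n ∈ N0 := inv_mem_iff.1 ⟨_, by simp [Pb, det], rfl, rn⟩
    exact (mul_mem_cancel_right (inv_mem (mul_mem (mul_mem (pow_mem a1 _) (pow_mem a2 _))
      (pow_mem a1 _)))).1 ⟨_, pb_uu .., rfl, B.rQ this⟩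
  obtain ⟨k, tp⟩ := h.tinv P.tC P.pt (B.ve_mem (0, e, 1, 0))
  obtain ⟨l, tq⟩ := h.tinv P.tC P.pt (B.ve_mem (e, 0, 0, 1))
  have cz0 : ∀ v k, co β w y c d (ve w y c d v * pw z k) = v := fun v k => by
    rw [B.co_mul (B.ve_mem _) (pw_mem h.zQ _), B.co_ve, B.co_z (pw_mem (mem_zpowers z) _), add_zero]
  have hp := mul_mem (B.ve_mem (0, e, 1, 0)) (pw_mem h.zQ k)
  have hq := mul_mem (B.ve_mem (e, 0, 0, 1)) (pw_mem h.zQ l)
  have cp := cz0 (0, e, 1, 0) k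
  have cq := cz0 (e, 0, 0, 1) l
  generalize ve w y c d (0, e, 1, 0) * pw z k = p at *
  generalize ve w y c d (e, 0, 0, 1) * pw z l = q at *
  have pq : p * q = q * p := (h.comm_iff hp hq).2 (by rw [B.form hp hq, cp, cq]; simp [fm])
  have ti : ∀ x, t * x * t⁻¹ = x⁻¹ → t * (s⁻¹ * x * s⁻¹⁻¹) * t⁻¹ = (s⁻¹ * x * s⁻¹⁻¹)⁻¹ := fun x e => by
    rw [← conj_mul, ← conj_mul, e, conj_inv.symm, conj_inv.symm, conj_inv.symm, ts]; group
  have sp : s⁻¹ * p * s⁻¹⁻¹ = p := by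
    obtain ⟨a, ha⟩ := B.eq_of_co (h.nC _ sC p hp) hp (by rw [cc sC hp, eS, cp]; simp [mv])
    exact h.tuniq P.tC hp ha (ti p tp) tp
  have sq : s⁻¹ * q * s⁻¹⁻¹ = p⁻¹ * q := by
    obtain ⟨a, ha⟩ := B.eq_of_co (h.nC _ sC q hq) (mul_mem (inv_mem hp) hq) (by
      rw [cc sC hq, eS, B.co_mul (inv_mem hp) hq, B.co_inv hp, cp, cq]; simp [mv]; grind)
    refine h.tuniq P.tC (mul_mem (inv_mem hp) hq) ha (ti q tq) ?_
    rw [← conj_mul, ← conj_inv, tp, tq, inv_inv, mul_inv_rev, inv_inv, eq_inv_mul_iff_mul_eq,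
      ← mul_assoc, ← pq, mul_inv_cancel_right]
  have sp' : s * p = p * s := by rw [← sp]; nth_rewrite 2 [sp]; group
  obtain ⟨-, -, v, hv, -, -, v1, v2⟩ := P.dual
  have rv := P.rQ' (inv_mem hv)
  rw [P.h'.inv_r hv P.wQ, P.h'.inv_r hv P.zQ, v1, v2] at rv
  have rq' : Rl w y z q (uu 0 0 0 0 0 1) := by
    have := B.rQ hq
    rwa [show β w q = 0 from congrArg (·.2.2.1) cq, show β y q = 1 from congrArg (·.2.2.2) cq] at this
  refine ⟨s, p, q, fun c0 => { h with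
    wd := P.wd, wQ := B.ha, yQ := B.hb, pQ := hp, qQ := hq, cW := P.cW
    rQ := fun g hg => ⟨_, _, B.rQ hg⟩
    rC := rC
    r2 := ⟨_, (rn.mul (by simp [Pb, det]) (rq (0, 0, j, -i))).congr fun u => by
      congr 1; ext <;> simp [uu, n2]⟩
    r3 := ⟨_, (show uu 0 0 0 0 0 1 * (mq (-0) (-1) * uu 0 0 0 0 0 1) = n3 by decide) ▸
      rq'.mul (by decide) (rv.mul (by decide) rq')⟩
    rs := rs
    rp := by
      have := B.rQ hp
      rwa [show β w p = 1 from congrArg (·.2.2.1) cp, show β y p = 0 from congrArg (·.2.2.2) cp]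
        at this
    rq := rq', s3 := s3, sp := sp', pq := pq
    sq := by
      rw [inv_inv, mul_assoc, inv_mul_eq_iff_eq_mul] at sq
      rw [mul_assoc, sq, ← mul_assoc, ← mul_assoc, ← sp']; group
    c0 := c0 }, fun g hg => ?_⟩
  obtain ⟨m, -, -, e⟩ := rC _ (inv_mem hg)
  have := e (0, 1, 0)
  rw [ww_y, inv_inv] at this
  rw [this, ← h.comm_iff B.hb (P.ww_mem _)]
  simpa [ww_y] using P.wd.comm (0, 1, 0) _

end Pr

theorem Hy.exists_cf (h : Hy z Q β π) {x : G} (hx : x ∈ Q) (h1 : x ∉ zpowers z) (hc : IsConj z x) :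
    ∃ w y s p q k, y = x * pw z k ∧ Cf z Q β π w y s p q := by
  obtain ⟨y, w, t, Q', β', π', k, e, P⟩ := h.exists_pr hx h1 hc
  obtain ⟨s, p, q, C, -⟩ := P.cfg
  refine ⟨w, y, s, p, q, k, e, C fun x hx hc g hg => ?_⟩
  by_cases h1 : x ∈ zpowers z
  · exact h.z_l h1 (h.nC g hg x hx)
  obtain ⟨y, w, t, Q', β', π', k, rfl, P⟩ := h.exists_pr hx h1 hc
  obtain ⟨-, -, -, -, C⟩ := P.cfg
  have := C g hg
  have m := pw_mem h.zQ k
  have m' := pw_mem (mem_zpowers z) k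
  rwa [← conj_mul, pw_conj, cz hg, h.mul_l hx m (mul_mem (h.nC g hg x hx) m),
    h.z_l m' (mul_mem (h.nC g hg x hx) m), add_zero, h.mul_r (h.nC g hg x hx) m hx, h.z_r m' hx,
    add_zero] at this

end H20.L43
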