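import Mathlib
import Cfsg.Agent.Lib.P3L.Tools
import Cfsg.Agent.Lib.Odd.STMain
import Cfsg.Agent.Lib.Odd.H108

/-! Virtual characters `(1 - λ)^G` of norm three supported on special classes. -/

set_option autoImplicit false
set_option linter.style.haveILetI false
set_option linter.unusedSectionVars false

namespace H20.L43

open Cfsg Subgroup H53.Odd ComplexConjugate

theorem three {ι : Type*} [Fintype ι] (m : ι → ℤ) (o : ι) (h : ∑ i, m i * m i = 3) (h1 : m o = 1) :
    ∃ x y, x ≠ y ∧ x ≠ o ∧ y ≠ o ∧ m x * m x = 1 ∧ m y * m y = 1 ∧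
      ∀ i, i ≠ o → i ≠ x → i ≠ y → m i = 0 := by
  classical
  let T := Finset.univ.filter fun i => i ≠ o ∧ m i ≠ 0
  have e1 : ∑ i ∈ Finset.univ.erase o, m i * m i = 2 := by
    rw [← Finset.add_sum_erase _ _ (Finset.mem_univ o), h1] at h; omega
  have e2 : ∑ i ∈ T, m i * m i = 2 := by
    rw [← e1]
    refine Finset.sum_subset (fun i hi => by simp [T] at hi ⊢; exact hi.1) fun i hi hn => ?_
    simp only [T, Finset.mem_filter, Finset.mem_univ, true_and, not_and, not_not] at hn
    rw [hn (Finset.mem_erase.1 hi).1, mul_zero]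
  have e3 : ∀ i ∈ T, m i * m i = 1 := fun i hi => by
    have a := Finset.single_le_sum (f := fun i => m i * m i) (fun j _ => mul_self_nonneg (m j)) hi
    have b := (Finset.mem_filter.1 hi).2.2
    rw [e2] at a
    have : m i ≤ 1 := by nlinarith
    have : -1 ≤ m i := by nlinarith
    have : m i = 1 ∨ m i = -1 := by omega
    rcases this with h | h <;> rw [h] <;> rfl
  rw [Finset.sum_congr rfl e3, Finset.sum_const, nsmul_eq_mul, mul_one] at e2
  obtain ⟨x, y, hxy, hT⟩ := Finset.card_eq_two.1 (show T.card = 2 by exact_mod_cast e2)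
  have hx : x ∈ T := by simp [hT]
  have hy : y ∈ T := by simp [hT]
  refine ⟨x, y, hxy, (Finset.mem_filter.1 hx).2.1, (Finset.mem_filter.1 hy).2.1, e3 x hx, e3 y hy,
    fun i a b c => by_contra fun d => ?_⟩
  have : i ∈ T := Finset.mem_filter.2 ⟨Finset.mem_univ _, a, d⟩
  simp [hT, b, c] at this

theorem sum_three {ι R : Type*} [Fintype ι] [Ring R] {m : ι → ℤ} {o x y : ι} (hxy : x ≠ y)
    (hx : x ≠ o) (hy : y ≠ o) (h : ∀ i, i ≠ o → i ≠ x → i ≠ y → m i = 0) (f : ι → R) :
    ∑ i, (m i : R) * f i = m o * f o + m x * f x + m y * f y := by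
  classical
  rw [← Finset.sum_subset (Finset.subset_univ {o, x, y}) fun i _ hi => by
    simp only [Finset.mem_insert, Finset.mem_singleton, not_or] at hi
    rw [h i hi.1 hi.2.1 hi.2.2, Int.cast_zero, zero_mul],
    Finset.sum_insert (by simp [hx.symm, hy.symm]), Finset.sum_pair hxy, add_assoc]

/-- a primitive cube root of unity -/
noncomputable def om : ℂ := Complex.exp (2 * Real.pi * Complex.I / 3)

theorem om_prim : IsPrimitiveRoot om 3 := Complex.isPrimitiveRoot_exp 3 (by norm_num)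

theorem om_sq : om ^ 2 = -1 - om := by
  have := om_prim.geom_sum_eq_zero (by norm_num)
  simp only [Finset.sum_range_succ, Finset.sum_range_zero, pow_zero, pow_one] at this
  linear_combination this

/-- the character -/
noncomputable def ch (k : ZMod 3) : ℂ := om ^ k.val

theorem ch_add (k l : ZMod 3) : ch (k + l) = ch k * ch l := by
  simp only [ch]
  rw [← pow_add, ZMod.val_add, ← pow_mod_orderOf om (k.val + l.val), ← om_prim.eq_orderOf]

theorem ch_zero : ch 0 = 1 := pow_zero _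

theorem ch_neg (k : ZMod 3) : ch k * ch (-k) = 1 := by rw [← ch_add, add_neg_cancel, ch_zero]

theorem conj_ch (k : ZMod 3) : conj (ch k) = ch (-k) := by
  have : ch k ^ 3 = 1 := by rw [ch, ← pow_mul, mul_comm, pow_mul, om_prim.pow_eq_one, one_pow]
  rw [H6.conj_eq_inv_of_pow_eq_one (by norm_num) this]
  exact inv_eq_of_mul_eq_one_right (ch_neg k)

theorem ch_sum {k : ZMod 3} (hk : k ≠ 0) : ch k + ch (-k) = -1 := by
  have : k = 1 ∨ k = 2 := by revert k; decide
  rcases this with rfl | rfl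
  · change om ^ 1 + om ^ 2 = -1
    rw [om_sq]; ring
  · change om ^ 2 + om ^ 1 = -1
    rw [om_sq]; ring

variable {G : Type*} [Group G] [Fintype G]

open Classical in
/-- `1 - λ` extended by zero -/
noncomputable def eta (K : Subgroup G) (l : G → ZMod 3) (x : G) : ℂ :=
  if x ∈ K then 1 - ch (l x) else 0

/-- the induced function -/
noncomputable def ind (K : Subgroup G) (l : G → ZMod 3) (g : G) : ℂ :=
  (Nat.card K : ℂ)⁻¹ * ∑ a, eta K l (a * g * a⁻¹)

theorem force_eq_ch : True := by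
  have := @om.eq_1
  have := @ch.eq_1
  have := @eta.eq_1.{0}
  have := @ind.eq_1.{0}
  trivial

variable {K H : Subgroup G} {l : G → ZMod 3} {Sp : G → Prop}

theorem eta_ne {x : G} (h : eta K l x ≠ 0) : x ∈ K ∧ l x ≠ 0 := by
  unfold eta at h
  split_ifs at h with hx
  · exact ⟨hx, fun e => h (by rw [e, ch_zero, sub_self])⟩
  · exact absurd rfl h

theorem ind_class : IsClassFunction G (ind K l) := fun g h => by
  unfold ind
  congr 1
  exact Equiv.sum_comp (Equiv.mulRight h) (fun a => eta K l (a * g * a⁻¹)) ▸ Finset.sum_congr rfl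
    fun a _ => by simp [mul_assoc]

theorem inner_ind {f : G → ℂ} (hf : IsClassFunction G f) :
    classInner (ind K l) f = (Nat.card K : ℂ)⁻¹ * ∑ x, eta K l x * conj (f x) := by
  have n : (Nat.card G : ℂ) ≠ 0 := by exact_mod_cast Nat.card_pos.ne'
  have e : ∀ a : G, ∑ g, eta K l (a * g * a⁻¹) * conj (f g) = ∑ x, eta K l x * conj (f x) :=
    fun a => (MulAut.conj a).toEquiv.sum_comp (fun x => eta K l x * conj (f x)) ▸
      Finset.sum_congr rfl fun g _ => by simp [hf g a]
  unfold classInner ind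
  simp only [mul_assoc, Finset.sum_mul, ← Finset.mul_sum]
  simp only [← mul_assoc]
  rw [Finset.sum_comm, Finset.sum_congr rfl fun a _ => e a, Finset.sum_const, Finset.card_univ,
    ← Nat.card_eq_fintype_card, nsmul_eq_mul]
  field_simp

theorem sum_eta [Fintype K] (f : G → ℂ) :
    ∑ x, eta K l x * f x = ∑ x : K, (1 - ch (l x)) * f x := by
  classical
  rw [← Finset.sum_subtype (Finset.univ.filter (· ∈ K)) (by simp)
    (fun x => (1 - ch (l x)) * f x), Finset.sum_filter]
  exact Finset.sum_congr rfl fun x _ => by unfold eta; split_ifs <;> simp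

/-- the linear character -/
noncomputable def lam (hl : ∀ x ∈ K, ∀ y ∈ K, l (x * y) = l x + l y) : K →* ℂˣ :=
  MonoidHom.mk' (fun x => Units.mkOfMulEqOne _ _ (ch_neg (l x))) fun x y => Units.ext (by
    simp [hl _ x.2 _ y.2, ch_add])

theorem force_eq_lam : True := by
  have := @lam.eq_1.{0}
  trivial

theorem ind_int (hl : ∀ x ∈ K, ∀ y ∈ K, l (x * y) = l x + l y) (χ : IrrCharacter G) :
    ∃ m : ℤ, classInner (ind K l) χ = m := by
  haveI := Fintype.ofFinite K
  obtain ⟨m, hm⟩ := H6.gen_inner_int (H6.isGen_sub (H6.isGen_one (G := K))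
    (H6.irr_isGen (H6.isIrrCharacter_hom (lam hl)))) (H6.isGen_comp K.subtype (H6.irr_isGen χ.2))
  refine ⟨m, ?_⟩
  rw [inner_ind (H6.irr_isClassFunction χ.2), sum_eta, ← hm]
  rfl

theorem ind_triv (hl : ∀ x ∈ K, ∀ y ∈ K, l (x * y) = l x + l y) {x : G} (hx : x ∈ K)
    (h0 : l x ≠ 0) : classInner (ind K l) (triv G) = 1 := by
  haveI := Fintype.ofFinite K
  have := H6.irr_inner_ne (H6.isIrrCharacter_hom (lam hl)) H6.isIrrCharacter_one fun e => by
    have e1 : ch (l x) = 1 := congrFun e ⟨x, hx⟩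
    have e2 := ch_sum h0
    have e3 := ch_neg (l x)
    rw [e1, one_mul] at e3
    rw [e1, e3] at e2
    norm_num at e2
  rw [inner_ind (H6.irr_isClassFunction (triv G).2), sum_eta]
  have e := H6.classInner_sub_left (fun _ : K => (1 : ℂ)) (fun x => (lam hl x : ℂ)) (fun _ => 1)
  rw [this, H6.classInner_one_one, sub_zero] at e
  exact e

theorem ind_zero {g : G} (h : ∀ a, a * g * a⁻¹ ∈ K → l (a * g * a⁻¹) = 0) : ind K l g = 0 := by
  unfold ind
  rw [Finset.sum_eq_zero fun a _ => by_contra fun e => (eta_ne e).2 (h a (eta_ne e).1), mul_zero]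

theorem ind_sp [Fintype H] (ht : TI H Sp) (hs : ∀ x ∈ K, l x ≠ 0 → Sp x) {x : G} (hx : Sp x) :
    ind K l x = (Nat.card K : ℂ)⁻¹ * ∑ a : H, eta K l (a * x * (a : G)⁻¹) := by
  classical
  unfold ind
  congr 1
  rw [← Finset.sum_subtype (Finset.univ.filter (· ∈ H)) (by simp)
    (fun a => eta K l (a * x * a⁻¹))]
  exact (Finset.sum_subset (Finset.subset_univ _) fun a _ ha => by_contra fun e =>
    ha (by simpa using ht.ti _ _ a hx (hs _ (eta_ne e).1 (eta_ne e).2) rfl)).symm

theorem ind_invol (t : G) : (Nat.card K : ℂ)⁻¹ * ∑ a, ∑ b, eta K l (a * t * a⁻¹ * (b * t * b⁻¹)) =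
    Nat.card G * ∑ χ : IrrCharacter G,
      classInner (ind K l) χ * ((χ : G → ℂ) t ^ 2 / (χ : G → ℂ) 1) := by
  have n : (Nat.card G : ℂ) ≠ 0 := by exact_mod_cast Nat.card_pos.ne'
  have e := ST.sum_invol (ind_class (K := K) (l := l)) t
  have e1 : ∀ c : G, ∑ a, ∑ b, eta K l (c * (a * t * a⁻¹ * (b * t * b⁻¹)) * c⁻¹) =
      ∑ a, ∑ b, eta K l (a * t * a⁻¹ * (b * t * b⁻¹)) := fun c => by
    rw [← Equiv.sum_comp (Equiv.mulLeft c) fun a => ∑ b, eta K l (a * t * a⁻¹ * (b * t * b⁻¹))]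
    refine Finset.sum_congr rfl fun a _ => ?_
    rw [← Equiv.sum_comp (Equiv.mulLeft c) fun b => eta K l (_ * (b * t * b⁻¹))]
    refine Finset.sum_congr rfl fun b _ => ?_
    congr 1
    simp [mul_assoc]
  unfold ind at e
  simp only [← Finset.mul_sum] at e
  rw [Finset.sum_congr rfl fun a _ => Finset.sum_comm, Finset.sum_comm,
    Finset.sum_congr rfl fun c _ => e1 c, Finset.sum_const, Finset.card_univ,
    ← Nat.card_eq_fintype_card, nsmul_eq_mul] at e
  apply mul_left_cancel₀ n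
  rw [← mul_assoc (Nat.card G : ℂ) (Nat.card G), ← sq]
  unfold ind
  rw [← e]; ring

/-- integral coefficients -/
theorem exists_coef (hl : ∀ x ∈ K, ∀ y ∈ K, l (x * y) = l x + l y) :
    ∃ m : IrrCharacter G → ℤ, (∀ χ : IrrCharacter G, classInner (ind K l) χ = m χ) ∧
      ∀ g, ind K l g = ∑ χ : IrrCharacter G, (m χ : ℂ) * (χ : G → ℂ) g := by
  choose m hm using ind_int hl
  exact ⟨m, hm, fun g => by rw [H6.classFun_apply_eq_sum_irr ind_class]; simp only [hm]⟩

theorem coef_inner {K' : Subgroup G} {l' : G → ZMod 3} {m m' : IrrCharacter G → ℤ}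
    (h : ∀ χ : IrrCharacter G, classInner (ind K l) χ = m χ)
    (h' : ∀ χ : IrrCharacter G, classInner (ind K' l') χ = m' χ) {n : ℤ}
    (e : classInner (ind K l) (ind K' l') = n) : ∑ χ, m χ * m' χ = n := by
  rw [H6.parseval ind_class] at e
  simp only [h, h', map_intCast] at e
  exact_mod_cast e

/-- the index two situation -/
structure Two (H K : Subgroup G) (l : G → ZMod 3) (τ : G) : Prop where
  add : ∀ x ∈ K, ∀ y ∈ K, l (x * y) = l x + l y
  le : K ≤ H
  tH : τ ∈ H
  tK : τ ∉ K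
  dec : ∀ h ∈ H, h ∈ K ∨ h * τ ∈ K
  neg : ∀ h ∈ H, h ∉ K → ∀ x ∈ K, h * x * h⁻¹ ∈ K ∧ l (h * x * h⁻¹) = - l x
  ti : TI H fun x => x ∈ K ∧ l x ≠ 0

variable {τ : G}

theorem Two.val (T : Two H K l τ) {x : G} (hx : x ∈ K) (h0 : l x ≠ 0) : ind K l x = 3 := by
  classical
  haveI := Fintype.ofFinite H
  have n : (Nat.card K : ℂ) ≠ 0 := by exact_mod_cast Nat.card_pos.ne'
  rw [ind_sp T.ti (fun x h1 h2 => ⟨h1, h2⟩) ⟨hx, h0⟩]
  have l1 : l 1 = 0 := by simpa using T.add 1 (one_mem _) 1 (one_mem _)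
  have e : ∀ a : H, eta K l (a * x * (a : G)⁻¹) =
      if (a : G) ∈ K then 1 - ch (l x) else 1 - ch (-l x) := fun a => by
    split_ifs with ha
    · unfold eta
      rw [if_pos (mul_mem (mul_mem ha hx) (inv_mem ha)), T.add _ (mul_mem ha hx) _ (inv_mem ha),
        T.add _ ha _ hx, add_right_comm, ← T.add _ ha _ (inv_mem ha), mul_inv_cancel, l1, zero_add]
    · unfold eta
      rw [if_pos (T.neg _ a.2 ha x hx).1, (T.neg _ a.2 ha x hx).2]
  have c1 : (Finset.univ.filter fun a : H => (a : G) ∈ K).card = Nat.card K := by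
    rw [← Fintype.card_subtype, ← Nat.card_eq_fintype_card]
    exact Nat.card_congr (subgroupOfEquivOfLe T.le).toEquiv
  have c2 : (Finset.univ.filter fun a : H => ¬ (a : G) ∈ K).card = Nat.card K := by
    rw [← c1]
    refine Finset.card_bij' (fun a _ => a * ⟨τ, T.tH⟩) (fun a _ => a * ⟨τ, T.tH⟩⁻¹) ?_ ?_ ?_ ?_
    · intro a ha
      simpa using (T.dec _ a.2).resolve_left (by simpa using ha)
    · intro a ha
      simp only [Finset.mem_filter, Finset.mem_univ, true_and] at ha ⊢
      exact fun e => T.tK (by simpa using mul_mem (inv_mem e) ha)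
    · simp
    · simp
  simp only [e, Finset.sum_ite, Finset.sum_const, c1, c2, nsmul_eq_mul]
  field_simp
  linear_combination -ch_sum h0

theorem Two.norm (T : Two H K l τ) {x : G} (hx : x ∈ K) (h0 : l x ≠ 0) :
    classInner (ind K l) (ind K l) = (3 : ℤ) := by
  have e := ind_triv T.add hx h0
  rw [inner_ind (H6.irr_isClassFunction (triv G).2)] at e
  rw [inner_ind ind_class]
  have : ∀ y, eta K l y * conj (ind K l y) = 3 * (eta K l y * conj ((triv G : G → ℂ) y)) := fun y => by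
    by_cases h : eta K l y = 0
    · simp [h]
    · rw [T.val (eta_ne h).1 (eta_ne h).2]
      change _ = 3 * (_ * conj (1 : ℂ))
      rw [map_one, map_ofNat]; ring
  simp only [this, ← Finset.mul_sum]
  push_cast
  linear_combination 3 * e

/-- the Brauer–Suzuki type lemma -/
theorem Two.bs (T : Two H K l τ) {x : G} (hx : x ∈ K) (h0 : l x ≠ 0) {u : G} (u2 : u * u = 1)
    (hu : ∀ a, a * u * a⁻¹ ∈ H → a * u * a⁻¹ ∈ K ∧ l (a * u * a⁻¹) = 0) :
    ∃ N : Subgroup G, N.Normal ∧ u ∈ N ∧ ∀ y ∈ K, l y ≠ 0 → y ∉ N := by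
  obtain ⟨m, hm, hF⟩ := exists_coef T.add
  obtain ⟨X, Y, h1, h2, h3, h4, h5, h6⟩ := three m (triv G) (coef_inner hm hm (T.norm hx h0))
    (by exact_mod_cast (hm _).symm.trans (ind_triv T.add hx h0))
  have mo : m (triv G) = 1 := by exact_mod_cast (hm _).symm.trans (ind_triv T.add hx h0)
  have hF' : ∀ g, ind K l g = 1 + m X * (X : G → ℂ) g + m Y * (Y : G → ℂ) g := fun g => by
    rw [hF, sum_three h1 h2 h3 h6, mo]; simp [triv]
  have l1 : l 1 = 0 := by simpa using T.add 1 (one_mem _) 1 (one_mem _)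
  have f1 := hF' 1
  rw [ind_zero (fun a _ => by simpa using l1)] at f1
  have fu := hF' u
  rw [ind_zero (fun a ha => (hu a (T.le ha)).2)] at fu
  have e := ind_invol (K := K) (l := l) u
  rw [Finset.sum_eq_zero fun a _ => Finset.sum_eq_zero fun b _ => by_contra fun e => by
    obtain ⟨e1, e2⟩ := eta_ne e
    have ha : a * u * a⁻¹ ∈ H := T.ti.ti _ _ _ ⟨e1, e2⟩ (T.ti.inv _ ⟨e1, e2⟩) (by
      have ui : u⁻¹ = u := inv_eq_of_mul_eq_one_right u2
      simp only [mul_inv_rev, inv_inv, ui]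
      calc _ = a * (u * u) * a⁻¹ * (b * u * b⁻¹) * (a * u * a⁻¹) := by group
        _ = _ := by rw [u2]; group)
    have hb : b * u * b⁻¹ ∈ H := (mul_mem_cancel_left ha).1 (T.le e1)
    exact e2 (by rw [T.add _ (hu a ha).1 _ (hu b hb).1, (hu a ha).2, (hu b hb).2, add_zero])] at e
  simp only [hm] at e
  rw [sum_three h1 h2 h3 h6, mo, mul_zero, eq_comm, mul_eq_zero] at e
  have e := e.resolve_left (by exact_mod_cast Nat.card_pos.ne')
  have x0 := H6.irr_one_ne_zero X.2
  have y0 := H6.irr_one_ne_zero Y.2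
  have h4' : (m X : ℂ) * m X = 1 := by exact_mod_cast h4
  have h5' : (m Y : ℂ) * m Y = 1 := by exact_mod_cast h5
  simp only [triv, Int.cast_one, one_pow, div_one, mul_one] at e
  field_simp at e
  have k1 : (X : G → ℂ) u = (X : G → ℂ) 1 := by
    have y1 : (Y : G → ℂ) 1 = - m Y * (1 + m X * (X : G → ℂ) 1) := by
      linear_combination (-m Y) * f1 - (Y : G → ℂ) 1 * h5'
    have yu : (Y : G → ℂ) u = - m Y * (1 + m X * (X : G → ℂ) u) := by
      linear_combination (-m Y) * fu - (Y : G → ℂ) u * h5'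
    rw [y1, yu] at e
    have : ((X : G → ℂ) u - (X : G → ℂ) 1) ^ 2 = 0 := by
      generalize (X : G → ℂ) u = f at *
      generalize (X : G → ℂ) 1 = d at *
      generalize (m X : ℂ) = p at *
      generalize (m Y : ℂ) = q at *
      have hp : p = 1 ∨ p = -1 := mul_self_eq_one_iff.1 h4'
      have hq : q = 1 ∨ q = -1 := mul_self_eq_one_iff.1 h5'
      rcases hp with rfl | rfl <;> rcases hq with rfl | rfl
      · linear_combination -e
      · linear_combination e
      · linear_combination e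
      · linear_combination -e
    exact sub_eq_zero.1 (pow_eq_zero_iff two_ne_zero |>.1 this)
  have k2 : (Y : G → ℂ) u = (Y : G → ℂ) 1 := by
    rw [k1] at fu
    linear_combination m Y * (f1 - fu) - ((Y : G → ℂ) u - (Y : G → ℂ) 1) * h5'
  refine ⟨H6.charKer X ⊓ H6.charKer Y, inferInstance, ⟨(H6.mem_charKer (H6.irr_isCharacter X.2)).2 k1,
    (H6.mem_charKer (H6.irr_isCharacter Y.2)).2 k2⟩, fun y hy hy0 ⟨a, b⟩ => ?_⟩
  have := hF' y
  rw [T.val hy hy0, (H6.mem_charKer (H6.irr_isCharacter X.2)).1 a,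
    (H6.mem_charKer (H6.irr_isCharacter Y.2)).1 b, ← f1] at this
  norm_num at this

end H20.L43
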