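import Mathlib
import Cfsg.Agent.Lib.P3L.Ch

/-! Groups with `3³ : S₃` or `3³ : S₄` (the type of `A₉`) as normaliser of `3³`. -/

set_option autoImplicit false
set_option linter.style.haveILetI false
set_option linter.unusedSectionVars false

namespace H20.L43

open Cfsg Subgroup H53.Odd ComplexConjugate
open H53.Odd.H108 (W4 sg)

/-- `S₃` -/
abbrev W6 := ZMod 3 × ZMod 2

/-- `S₄` -/
abbrev W24 := W4 × W6

/-- the action of `S₃` -/
def act6 (w : W6) (u : V27) : V27 :=
  if w.2 = 0 then (if w.1 = 0 then u else if w.1 = 1 then (u.2.2, u.1, u.2.1) else (u.2.1, u.2.2, u.1))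
  else if w.1 = 0 then (-u.2.1, -u.1, -u.2.2) else if w.1 = 1 then (-u.2.2, -u.2.1, -u.1)
  else (-u.1, -u.2.2, -u.2.1)

/-- the multiplication of `S₃` -/
def mw6 (w w' : W6) : W6 := (w.1 + sg w.2 w'.1, w.2 + w'.2)

/-- the action of `S₃` on the four group -/
def a4 (w : W6) (v : W4) : W4 :=
  if w.2 = 0 then (if w.1 = 0 then v else if w.1 = 1 then (v.1 + v.2, v.1) else (v.2, v.1 + v.2))
  else if w.1 = 0 then (v.1 + v.2, v.2) else if w.1 = 1 then (v.1, v.1 + v.2) else (v.2, v.1)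

/-- the action of `S₄` -/
def act24 (w : W24) (u : V27) : V27 := H108.act w.1 (act6 w.2 u)

/-- the multiplication of `S₄` -/
def mw24 (w w' : W24) : W24 := (w.1 + a4 w.2 w'.1, mw6 w.2 w'.2)

/-- the multiplication of `3³ : S₃` -/
def m6 : V27 × W6 → V27 × W6 → V27 × W6 := sdMul act6 mw6

/-- the multiplication of `3³ : S₄` -/
def m24 : V27 × W24 → V27 × W24 → V27 × W24 := sdMul act24 mw24

/-- the number of non-zero coordinates -/
def wt (u : V27) : ℕ :=
  (if u.1 = 0 then 0 else 1) + (if u.2.1 = 0 then 0 else 1) + if u.2.2 = 0 then 0 else 1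

/-- the inverse in `3³ : S₃` -/
def i6 (p : V27 × W6) : V27 × W6 :=
  (-act6 (-sg p.2.2 p.2.1, p.2.2) p.1, (-sg p.2.2 p.2.1, p.2.2))

theorem force_eq_abs : True := by
  have := @act6.eq_1
  have := @mw6.eq_1
  have := @a4.eq_1
  have := @act24.eq_1
  have := @mw24.eq_1
  have := @m6.eq_1
  have := @m24.eq_1
  have := @wt.eq_1
  have := @i6.eq_1
  trivial

variable {G : Type*} [Group G] [Finite G] {H : Subgroup G}

section
variable {M : Type*} {mul : M → M → M} {φ : M → G}

theorem one_of (hm : Mdl H mul φ) {o : M} (h : mul o o = o) : φ o = 1 := by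
  have := hm.hom o o
  rwa [h, left_eq_mul] at this

theorem exists_sub (hm : Mdl H mul φ) (S : M → Prop) {o : M} (h : mul o o = o) (ho : S o)
    (hS : ∀ p q, S p → S q → S (mul p q)) :
    ∃ K : Subgroup G, ∀ g, g ∈ K ↔ ∃ p, S p ∧ φ p = g := by
  let E : Submonoid G :=
    { carrier := {g | ∃ p, S p ∧ φ p = g}
      mul_mem' := by
        rintro _ _ ⟨p, hp, rfl⟩ ⟨q, hq, rfl⟩
        exact ⟨_, hS p q hp hq, hm.hom p q⟩
      one_mem' := ⟨o, ho, one_of hm h⟩ }
  refine ⟨{ E with inv_mem' := fun {a} ha => ?_ }, fun g => Iff.rfl⟩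
  have := E.pow_mem ha (orderOf a - 1)
  rwa [show a ^ (orderOf a - 1) = a⁻¹ by
    rw [eq_inv_iff_mul_eq_one, ← pow_succ, Nat.sub_add_cancel (orderOf_pos a), pow_orderOf_eq_one]]
    at this

theorem mem_sub (hm : Mdl H mul φ) {S : M → Prop} {K : Subgroup G}
    (hK : ∀ g, g ∈ K ↔ ∃ p, S p ∧ φ p = g) (p : M) : φ p ∈ K ↔ S p :=
  ⟨fun h => by obtain ⟨q, hq, e⟩ := (hK _).1 h; exact hm.inj e ▸ hq, fun h => (hK _).2 ⟨p, h, rfl⟩⟩

theorem mH (hm : Mdl H mul φ) (p : M) : φ p ∈ H := (hm.mem _).2 ⟨p, rfl⟩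

theorem cent_conj (hm : Mdl H mul φ) {p p' q q' r r' : M} (hq : ∀ g, g * φ q = φ q * g → g ∈ H)
    (e : mul r p = mul q r) (e' : mul r' p' = mul q' r') (hq' : q' = q) {g : G}
    (h : g * φ p * g⁻¹ = φ p') : g ∈ H := by
  subst hq'
  have := hq (φ r' * g * (φ r)⁻¹) (by
    rw [← mul_inv_eq_iff_eq_mul]
    nth_rewrite 1 [← (hm.conj_iff _ _ _).2 e]
    rw [← (hm.conj_iff _ _ _).2 e', ← h]; group)
  simpa [mul_assoc] using mul_mem (mul_mem (inv_mem (mH hm r')) this) (mH hm r)

theorem card_sub [Fintype M] (hm : Mdl H mul φ) {S : M → Prop} [DecidablePred S] {K : Subgroup G}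
    (hK : ∀ g, g ∈ K ↔ ∃ p, S p ∧ φ p = g) : Nat.card K = (Finset.univ.filter S).card :=
  hm.card_eq (· ∈ K) S (fun g hg => by obtain ⟨p, -, rfl⟩ := (hK g).1 hg; exact mH hm p)
    (mem_sub hm hK)

theorem sum_H [Fintype M] [Fintype H] (hm : Mdl H mul φ) (f : G → ℂ) :
    ∑ a : H, f a = ∑ p, f (φ p) :=
  (Function.Bijective.sum_comp (e := fun p => (⟨φ p, mH hm p⟩ : H))
    ⟨fun _ _ e => hm.inj (congrArg Subtype.val e), fun ⟨g, hg⟩ => by
      obtain ⟨p, rfl⟩ := (hm.mem g).1 hg; exact ⟨p, rfl⟩⟩ fun a => f a).symm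

theorem sum_G [Fintype G] [Fintype M] (hm : Mdl H mul φ) (f : G → ℂ) (h : ∀ x, f x ≠ 0 → x ∈ H) :
    ∑ a, f a = ∑ p, f (φ p) := by
  classical
  haveI := Fintype.ofFinite H
  rw [← sum_H hm, ← Finset.sum_subtype (Finset.univ.filter (· ∈ H)) (by simp) f]
  exact (Finset.sum_subset (Finset.subset_univ _) fun a _ ha => by_contra fun e =>
    ha (by simpa using h a e)).symm

end

/-- counting form of a sum of values of `1 - λ` -/
theorem sum_ch {ι : Type*} [Fintype ι] (S : ι → Prop) [DecidablePred S] (l : ι → ZMod 3) {n : ℕ}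
    (h1 : (Finset.univ.filter fun i => S i ∧ l i = 1).card = n)
    (h2 : (Finset.univ.filter fun i => S i ∧ l i = 2).card = n) :
    ∑ i, (if S i then 1 - ch (l i) else 0) = 3 * n := by
  have e : ∀ i, (if S i then 1 - ch (l i) else 0) = (if S i ∧ l i = 1 then 1 - ch 1 else 0) +
      if S i ∧ l i = 2 then 1 - ch 2 else 0 := fun i => by
    have : l i = 0 ∨ l i = 1 ∨ l i = 2 := by generalize l i = k; revert k; decide
    by_cases hS : S i
    · rcases this with h | h | h <;> rw [h] <;> simp [hS, ch_zero] <;> intro h <;>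
        exact absurd h (by decide)
    · simp [hS]
  simp only [e, Finset.sum_add_distrib, ← Finset.sum_filter, Finset.sum_const, h1, h2, nsmul_eq_mul]
  have := ch_sum (k := 1) (by decide)
  rw [show (-1 : ZMod 3) = 2 from rfl] at this
  linear_combination (-n) * this

/-- nested counting form -/
theorem sum_ch' {ι κ : Type*} [Fintype ι] [Fintype κ] (S : ι → κ → Prop) [∀ i k, Decidable (S i k)]
    (l : ι → κ → ZMod 3) {n : ℕ}
    (h1 : ∑ i, (Finset.univ.filter fun k => S i k ∧ l i k = 1).card = n)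
    (h2 : ∑ i, (Finset.univ.filter fun k => S i k ∧ l i k = 2).card = n) :
    ∑ i, ∑ k, (if S i k then 1 - ch (l i k) else 0) = 3 * n := by
  rw [← Fintype.sum_prod_type' fun i k => if S i k then 1 - ch (l i k) else 0]
  refine sum_ch (fun p : ι × κ => S p.1 p.2) (fun p => l p.1 p.2) ?_ ?_
  · rw [← h1]; simp only [Finset.card_filter]; exact Fintype.sum_prod_type _
  · rw [← h2]; simp only [Finset.card_filter]; exact Fintype.sum_prod_type _

theorem ch_one : ch 1 = om := pow_one _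

theorem ch_two : ch 2 = -1 - om := om_sq

/-- nested counting form of a norm -/
theorem sum_ch2 {ι κ : Type*} [Fintype ι] [Fintype κ] (S : ι → κ → Prop) [∀ i k, Decidable (S i k)]
    (a : ι → ZMod 3) (b : ι → κ → ZMod 3) {m n : ℕ}
    (h0 : ∑ i, (Finset.univ.filter fun k => a i ≠ 0 ∧ S i k ∧ b i k = a i).card = m)
    (h1 : ∑ i, (Finset.univ.filter fun k => a i = 1 ∧ S i k ∧ b i k = 2).card = n)
    (h2 : ∑ i, (Finset.univ.filter fun k => a i = 2 ∧ S i k ∧ b i k = 1).card = n) :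
    ∑ i, ∑ k, (if S i k then (1 - ch (a i)) * conj (1 - ch (b i k)) else 0) = 3 * (m + n) := by
  have e : ∀ i k, (if S i k then (1 - ch (a i)) * conj (1 - ch (b i k)) else 0) =
      3 * (if a i ≠ 0 ∧ S i k ∧ b i k = a i then 1 else 0) +
      (-3 * om) * (if a i = 1 ∧ S i k ∧ b i k = 2 then 1 else 0) +
      (3 + 3 * om) * (if a i = 2 ∧ S i k ∧ b i k = 1 then 1 else 0) := fun i k => by
    by_cases hS : S i k
    · have n1 : (-1 : ZMod 3) = 2 := rfl
      have n2 : (-2 : ZMod 3) = 1 := rfl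
      have d1 : (1 : ZMod 3) ≠ 0 := by decide
      have d2 : (2 : ZMod 3) ≠ 0 := by decide
      have d3 : (1 : ZMod 3) ≠ 2 := by decide
      have t : ∀ k : ZMod 3, k = 0 ∨ k = 1 ∨ k = 2 := by decide
      rw [map_sub, map_one, conj_ch]
      rcases t (a i) with h | h | h <;> rcases t (b i k) with h' | h' | h' <;> rw [h, h'] <;>
        simp [hS, ch_zero, ch_one, ch_two, n1, n2, d1, d2, d3, d1.symm, d2.symm, d3.symm]
      · linear_combination -om_sq
      · linear_combination om_sq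
      · linear_combination om_sq
      · linear_combination -om_sq
    · simp [hS]
  rw [← h0]
  nth_rewrite 1 [← h1]
  have h3 := h1.trans h2.symm
  have h4 := congrArg (Nat.cast : ℕ → ℂ) h3
  simp only [e, Finset.sum_add_distrib, ← Finset.mul_sum, Finset.card_filter]
  simp only [Finset.card_filter] at h4
  push_cast at h4 ⊢
  linear_combination (-3 - 3 * om) * h4

open Classical in
theorem sum_conj [Fintype G] (t : G) (f : G → ℂ) : ∑ a, f (a * t * a⁻¹) =
    Nat.card (centralizer ({t} : Set G)) * ∑ x, if IsConj t x then f x else 0 := by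
  rw [← Finset.sum_fiberwise Finset.univ (fun a : G => a * t * a⁻¹), Finset.mul_sum]
  refine Finset.sum_congr rfl fun x _ => ?_
  rw [Finset.sum_congr rfl fun a ha => by rw [(Finset.mem_filter.1 ha).2], Finset.sum_const,
    nsmul_eq_mul, ← Fintype.card_subtype, ← Nat.card_eq_fintype_card]
  split_ifs with h
  · rw [H6.card_conj_eq h]
  · haveI : IsEmpty {r : G // r * t * r⁻¹ = x} := ⟨fun r => h (isConj_iff.2 ⟨r.1, r.2⟩)⟩
    simp

section
variable {M : Type*} {mul : M → M → M} {φ : M → G}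

/-- an element with a small centraliser is not fused into `J` -/
theorem not_fuse [Fintype M] [DecidableEq M] (hm : Mdl H mul φ) {j : V27 → M}
    (hj : Function.Injective j) (hc : ∀ u v, mul (j u) (j v) = mul (j v) (j u)) {x : M}
    (hx : ∀ g, g * φ x = φ x * g → g ∈ H)
    (hn : (Finset.univ.filter fun p => mul p x = mul x p).card < 27) (u : V27) (g : G) :
    g * φ (j u) * g⁻¹ ≠ φ x := fun e => by
  have h1 : ∀ v, ∃ p, φ p = g * φ (j v) * g⁻¹ ∧ mul p x = mul x p := fun v => by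
    have c : g * φ (j v) * g⁻¹ * φ x = φ x * (g * φ (j v) * g⁻¹) := by
      rw [← e]
      calc _ = g * (φ (j v) * φ (j u)) * g⁻¹ := by group
        _ = _ := by rw [← hm.hom, hc, hm.hom]; group
    obtain ⟨p, hp⟩ := (hm.mem _).1 (hx _ c)
    exact ⟨p, hp, hm.inj (by rw [hm.hom, hm.hom, hp, c])⟩
  choose f f1 f2 using h1
  have := Finset.card_le_card_of_injOn (s := Finset.univ) (t := Finset.univ.filter fun p =>
    mul p x = mul x p) f (fun v _ => by simpa using f2 v) fun v _ w _ h => hj (hm.inj (by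
      have := (f1 v).symm.trans (h ▸ f1 w)
      simpa using this))
  simp only [Finset.card_univ, Fintype.card_prod, ZMod.card] at this
  omega

/-- `J` is strongly closed in `H` -/
theorem str_cl [Fintype M] [DecidableEq M] (hm : Mdl H mul φ) {j : V27 → M}
    (hj : Function.Injective j) (hc : ∀ u v, mul (j u) (j v) = mul (j v) (j u)) {x o : M}
    (ho : mul o o = o) (h3 : ∀ u, mul (j u) (mul (j u) (j u)) = o)
    (hx : ∀ g, g * φ x = φ x * g → g ∈ H)
    (hn : (Finset.univ.filter fun p => mul p x = mul x p).card < 27)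
    (hd : ∀ p, mul p (mul p p) = o → (∃ v, j v = p) ∨ ∃ r, mul r p = mul x r) (u : V27) (g : G)
    (h : g * φ (j u) * g⁻¹ ∈ H) : ∃ v, g * φ (j u) * g⁻¹ = φ (j v) := by
  obtain ⟨p, hp⟩ := (hm.mem _).1 h
  rcases hd p (hm.inj (by
    rw [hm.hom, hm.hom, hp, one_of hm ho]
    calc _ = g * (φ (j u) * (φ (j u) * φ (j u))) * g⁻¹ := by group
      _ = 1 := by rw [← hm.hom, ← hm.hom, h3, one_of hm ho]; group)) with ⟨v, rfl⟩ | ⟨r, hr⟩
  · exact ⟨v, hp.symm⟩
  · refine absurd ?_ (not_fuse hm hj hc hx hn u (φ r * g))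
    rw [← (hm.conj_iff _ _ _).2 hr, hp]; group

open Classical in
/-- the sum over pairs of conjugates of an involution -/
theorem sum_pairs [Fintype G] [Fintype M] (hm : Mdl H mul φ) {t : M} (I : M → Prop)
    [DecidablePred I] (hI : ∀ p, IsConj (φ t) (φ p) ↔ I p) (f : G → ℂ)
    (hf : ∀ x y, IsConj (φ t) x → IsConj (φ t) y → f (x * y) ≠ 0 → x ∈ H ∧ y ∈ H) :
    ∑ a, ∑ b, f (a * φ t * a⁻¹ * (b * φ t * b⁻¹)) = Nat.card (centralizer ({φ t} : Set G)) ^ 2 *
      ∑ p, ∑ q, if I p ∧ I q then f (φ (mul p q)) else 0 := by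
  simp only [fun x => sum_conj (φ t) fun y => f (x * y)]
  rw [← Finset.mul_sum, sum_conj (φ t) fun x => ∑ y, if IsConj (φ t) y then f (x * y) else 0,
    ← mul_assoc, ← sq, sum_G hm]
  · congr 1
    refine Finset.sum_congr rfl fun p _ => ?_
    by_cases hp : I p
    · rw [if_pos ((hI p).2 hp), sum_G hm]
      · exact Finset.sum_congr rfl fun q _ => by simp only [hp, hI, hm.hom, true_and]
      · intro y hy
        split_ifs at hy with h
        · exact (hf _ _ ((hI p).2 hp) h hy).2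
        · exact absurd rfl hy
    · simp only [hp, hI, false_and, if_false, Finset.sum_const_zero]
  · intro x hx
    split_ifs at hx with h
    · obtain ⟨y, -, hy⟩ := Finset.exists_ne_zero_of_sum_ne_zero hx
      split_ifs at hy with h'
      · exact (hf _ _ h h' hy).1
      · exact absurd rfl hy
    · exact absurd rfl hx

end

end H20.L43
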