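import Mathlib
import Cfsg.Agent.Lib.P3L.Abs0

/-! Groups with `3³ : S₃` as normaliser of `3³`. -/

set_option autoImplicit false
set_option linter.style.haveILetI false
set_option linter.unusedSectionVars false
set_option synthInstance.maxSize 8192

namespace H20.L43

open Cfsg Subgroup H53.Odd ComplexConjugate

variable {G : Type*} [Group G] [Finite G] {H : Subgroup G} {φ : V27 × W6 → G}

theorem conj6 (hm : Mdl H m6 φ) (r p : V27 × W6) :
    φ r * φ p * (φ r)⁻¹ = φ (m6 (m6 r p) (i6 r)) := by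
  have : φ (i6 r) = (φ r)⁻¹ := (inv_eq_of_mul_eq_one_right (by
    rw [← hm.hom, (by decide +kernel : ∀ r, m6 r (i6 r) = (0, 0)) r]
    exact one_of hm (by decide +kernel))).symm
  rw [hm.hom, hm.hom, this]

theorem cl6 (hm : Mdl H m6 φ) (hx : ∀ g, g * φ (0, (1, 0)) = φ (0, (1, 0)) * g → g ∈ H)
    (u : V27) (g : G) (h : g * φ (u, 0) * g⁻¹ ∈ H) : ∃ v, g * φ (u, 0) * g⁻¹ = φ (v, 0) :=
  str_cl hm (j := fun u => (u, 0)) (o := (0, 0)) (fun _ _ e => (Prod.ext_iff.1 e).1)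
    (by decide +kernel) (by decide +kernel) (by decide +kernel) hx (by decide +kernel)
    (fun p hp => (by decide +kernel : ∀ p : V27 × W6, m6 p (m6 p p) = (0, 0) → p.2 = 0 ∨
      ∃ w, mw6 w p.2 = mw6 (1, 0) w ∧ ∃ v, m6 (v, w) p = m6 (0, (1, 0)) (v, w)) p hp |>.imp
        (fun e => ⟨p.1, by rw [← e]⟩) fun ⟨_, _, _, e⟩ => ⟨_, e⟩) u g h

theorem ti6 (hm : Mdl H m6 φ) (hC : ∀ u, u ≠ 0 → ∀ g, g * φ (u, 0) = φ (u, 0) * g → g ∈ H)
    (hx : ∀ g, g * φ (0, (1, 0)) = φ (0, (1, 0)) * g → g ∈ H)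
    (hN : ∀ g, (∀ u, ∃ v, g * φ (u, 0) * g⁻¹ = φ (v, 0)) → g ∈ H) :
    TI H fun x => x ∈ H ∧ x * x ≠ 1 := by
  have o1 : φ (0, 0) = 1 := one_of hm (by decide +kernel)
  have key : ∀ (p : V27 × W6) (g : G), g * φ p * g⁻¹ ∈ H →
      ∀ n u, u ≠ 0 → φ p ^ n = φ (u, 0) → g ∈ H := fun p g h n u hu e => by
    obtain ⟨v, hv⟩ := cl6 hm hx u g (by rw [← e, ← conj_pow]; exact pow_mem h n)
    refine hN g fun w => cl6 hm hx w g (hC v ?_ _ ?_)
    · rintro rfl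
      rw [o1, mul_inv_eq_one, mul_eq_left] at hv
      exact hu (Prod.ext_iff.1 (hm.inj (hv.trans o1.symm))).1
    · rw [← hv]
      calc _ = g * (φ (w, 0) * φ (u, 0)) * g⁻¹ := by group
        _ = _ := by
          rw [← hm.hom, (by decide +kernel : ∀ u v : V27, m6 (u, 0) (v, 0) = m6 (v, 0) (u, 0)) w u,
            hm.hom]; group
  have dec : ∀ p, φ p * φ p ≠ 1 → (∃ n u, u ≠ 0 ∧ φ p ^ n = φ (u, 0)) ∨
      ∃ r, m6 r p = m6 (0, (1, 0)) r := fun p hp => by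
    rcases (by decide +kernel : ∀ p : V27 × W6, m6 p p ≠ (0, 0) →
      ((m6 p p).2 = 0 ∧ (m6 p p).1 ≠ 0) ∨ ((m6 p (m6 p p)).2 = 0 ∧ (m6 p (m6 p p)).1 ≠ 0) ∨
      ∃ w, mw6 w p.2 = mw6 (1, 0) w ∧ ∃ v, m6 (v, w) p = m6 (0, (1, 0)) (v, w)) p
      (fun e => hp (by rw [← hm.hom, e, o1])) with ⟨a, b⟩ | ⟨a, b⟩ | ⟨_, _, _, e⟩
    · exact Or.inl ⟨2, _, b, by rw [← a, sq, ← hm.hom]⟩
    · exact Or.inl ⟨3, _, b, by rw [← a, pow_three, ← hm.hom, ← hm.hom]⟩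
    · exact Or.inr ⟨_, e⟩
  refine ⟨fun x h => ⟨inv_mem h.1, fun e => h.2 (by rwa [← mul_inv_rev, inv_eq_one] at e)⟩, ?_⟩
  rintro x y g ⟨h1, h2⟩ ⟨h3, h4⟩ e
  obtain ⟨p, rfl⟩ := (hm.mem _).1 h1
  obtain ⟨q, rfl⟩ := (hm.mem _).1 h3
  rcases dec p h2 with ⟨n, u, hu, e1⟩ | ⟨r, hr⟩
  · exact key p g (e ▸ h3) n u hu e1
  rcases dec q h4 with ⟨n, u, hu, e1⟩ | ⟨r', hr'⟩
  · exact inv_mem_iff.1 (key q g⁻¹ (by rw [← e]; simpa [mul_assoc] using h1) n u hu e1)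
  exact cent_conj hm hx hr hr' rfl e

theorem alg162 {x ξ y η z ζ n c : ℂ} (hn : n ≠ 0) (hc : c ≠ 0) (x0 : x ≠ 0) (y0 : y ≠ 0)
    (z0 : z ≠ 0) (a1 : 1 + x + y = 0) (a2 : 1 + ξ + η = 0) (b1 : 1 - y + z = 0)
    (b2 : 1 - η + ζ = 0) (e1 : 9 * c ^ 2 = n * (1 + ξ ^ 2 / x + η ^ 2 / y))
    (e2 : 3 * c ^ 2 = n * (1 - η ^ 2 / y + ζ ^ 2 / z)) : x = 1 ∧ ξ ≠ 1 := by
  obtain rfl : y = -1 - x := by linear_combination a1
  obtain rfl : η = -1 - ξ := by linear_combination a2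
  obtain rfl : z = -2 - x := by linear_combination b1
  obtain rfl : ζ = -2 - ξ := by linear_combination b2
  have f1 : 9 * c ^ 2 * (x * (-1 - x)) = -n * (x - ξ) ^ 2 := by rw [e1]; field_simp; ring
  have f2 : 3 * c ^ 2 * ((-1 - x) * (-2 - x)) = n * (x - ξ) ^ 2 := by rw [e2]; field_simp; ring
  have f3 : 6 * c ^ 2 * (-1 - x) * (x - 1) = 0 := by linear_combination f1 + f2
  have hx : x = 1 := by
    have := (mul_eq_zero.1 f3).resolve_left (mul_ne_zero (mul_ne_zero (by norm_num)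
      (pow_ne_zero _ hc)) y0)
    linear_combination this
  refine ⟨hx, fun e => ?_⟩
  rw [hx, e] at f2
  exact pow_ne_zero 2 hc (by linear_combination f2 / 18)

theorem lin162 (hm : Mdl H m6 φ) (ht : TI H fun x => x ∈ H ∧ x * x ≠ 1) :
    ∃ X : IrrCharacter G, (X : G → ℂ) 1 = 1 ∧ (X : G → ℂ) (φ (0, (0, 1))) ≠ 1 := by
  haveI := Fintype.ofFinite G
  haveI := Fintype.ofFinite H
  have o1 : φ (0, 0) = 1 := one_of hm (by decide +kernel)
  obtain ⟨P, hP⟩ := exists_sub hm (fun p => p.2.2 = 0) (o := (0, 0)) (by decide +kernel) rfl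
    fun p q hp hq => by simp [m6, sdMul, mw6, hp, hq]
  obtain ⟨K, hK⟩ := exists_sub hm (fun p => p.2.1 = 0) (o := (0, 0)) (by decide +kernel) rfl
    fun p q hp hq => by simp [m6, sdMul, mw6, hp, hq, H108.sg]
  have cP : Nat.card P = 81 := (card_sub hm hP).trans (by decide +kernel)
  have cK : Nat.card K = 54 := (card_sub hm hK).trans (by decide +kernel)
  obtain ⟨ψ, hψ⟩ : ∃ ψ : G → V27 × W6, ∀ p, ψ (φ p) = p :=
    ⟨Function.invFun φ, Function.leftInverse_invFun hm.inj⟩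
  let l1 : G → ZMod 3 := fun g => (ψ g).2.1
  let l2 : G → ZMod 3 := fun g => (ψ g).1.1 - (ψ g).1.2.1
  have E1 : ∀ p, eta P l1 (φ p) = if p.2.2 = 0 then 1 - ch p.2.1 else 0 := fun p => by
    simp only [eta, mem_sub hm hP, l1, hψ]
  have E2 : ∀ p, eta K l2 (φ p) = if p.2.1 = 0 then 1 - ch (p.1.1 - p.1.2.1) else 0 := fun p => by
    simp only [eta, mem_sub hm hK, l2, hψ]
  have s1 : ∀ x ∈ P, l1 x ≠ 0 → x ∈ H ∧ x * x ≠ 1 := fun x hx h => by
    obtain ⟨p, hp, rfl⟩ := (hP x).1 hx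
    simp only [l1, hψ] at h
    exact ⟨mH hm p, fun e => (by decide +kernel : ∀ p : V27 × W6, p.2.2 = 0 → p.2.1 ≠ 0 →
      m6 p p ≠ (0, 0)) p hp h (hm.inj (by rw [hm.hom, e, o1]))⟩
  have s2 : ∀ x ∈ K, l2 x ≠ 0 → x ∈ H ∧ x * x ≠ 1 := fun x hx h => by
    obtain ⟨p, hp, rfl⟩ := (hK x).1 hx
    simp only [l2, hψ] at h
    exact ⟨mH hm p, fun e => (by decide +kernel : ∀ p : V27 × W6, p.2.1 = 0 →
      p.1.1 - p.1.2.1 ≠ 0 → m6 p p ≠ (0, 0)) p hp h (hm.inj (by rw [hm.hom, e, o1]))⟩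
  have a2 : ∀ x ∈ K, ∀ y ∈ K, l2 (x * y) = l2 x + l2 y := fun x hx y hy => by
    obtain ⟨p, hp, rfl⟩ := (hK x).1 hx
    obtain ⟨q, hq, rfl⟩ := (hK y).1 hy
    simp only [l2, ← hm.hom, hψ]
    obtain ⟨u, a, b⟩ := p
    obtain rfl : a = 0 := hp
    have := (by decide +kernel : ∀ (b : ZMod 2) (v : V27),
      (act6 (0, b) v).1 - (act6 (0, b) v).2.1 = v.1 - v.2.1) b q.1
    simp only [m6, sdMul, Prod.fst_add, Prod.snd_add]
    linear_combination this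
  have T : Two H P l1 (φ (0, (0, 1))) := by
    refine ⟨fun x hx y hy => ?_, fun x hx => ?_, mH hm _, fun e => ?_, fun h hh => ?_,
      fun h hh hn x hx => ?_, fun x h => ?_, fun x y g a b => ht.ti x y g (s1 _ a.1 a.2) (s1 _ b.1 b.2)⟩
    · obtain ⟨p, hp, rfl⟩ := (hP x).1 hx
      obtain ⟨q, hq, rfl⟩ := (hP y).1 hy
      simp only [l1, ← hm.hom, hψ]
      simp [m6, sdMul, mw6, hp, H108.sg]
    · obtain ⟨p, -, rfl⟩ := (hP x).1 hx
      exact mH hm p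
    · exact absurd ((mem_sub hm hP _).1 e) (by decide)
    · obtain ⟨p, rfl⟩ := (hm.mem h).1 hh
      rw [← hm.hom, mem_sub hm hP, mem_sub hm hP]
      exact (by decide +kernel : ∀ w : W6, w.2 = 0 ∨ (mw6 w (0, 1)).2 = 0) p.2
    · obtain ⟨r, rfl⟩ := (hm.mem h).1 hh
      obtain ⟨p, hp, rfl⟩ := (hP x).1 hx
      rw [mem_sub hm hP] at hn
      rw [conj6 hm, mem_sub hm hP]
      simp only [l1, hψ]
      exact (by decide +kernel : ∀ w w' : W6, ¬ w.2 = 0 → w'.2 = 0 →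
        (mw6 (mw6 w w') (-H108.sg w.2 w.1, w.2)).2 = 0 ∧
        (mw6 (mw6 w w') (-H108.sg w.2 w.1, w.2)).1 = - w'.1) r.2 p.2 hn hp
    · obtain ⟨p, hp, rfl⟩ := (hP x).1 h.1
      refine ⟨inv_mem h.1, ?_⟩
      have := conj6 hm p (0, 0)
      have e : (φ p)⁻¹ = φ (i6 p) := inv_eq_of_mul_eq_one_right (by
        rw [← hm.hom, (by decide +kernel : ∀ r, m6 r (i6 r) = (0, 0)) p, o1])
      have h2 := h.2
      simp only [e, l1, hψ] at h2 ⊢
      simpa [i6, hp, H108.sg] using h2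
  have m1 : φ (0, (1, 0)) ∈ P := (mem_sub hm hP _).2 rfl
  have n1 : l1 (φ (0, (1, 0))) ≠ 0 := by simp only [l1, hψ]; decide
  have m2 : φ ((1, 0, 0), 0) ∈ K := (mem_sub hm hK _).2 rfl
  have n2 : l2 (φ ((1, 0, 0), 0)) ≠ 0 := by simp only [l2, hψ]; decide
  have V2 : ∀ p : V27 × W6, m6 p p ≠ (0, 0) → ind K l2 (φ p) = (54 : ℂ)⁻¹ * ∑ r : V27 × W6,
      if (m6 (m6 r p) (i6 r)).2.1 = 0 then
        1 - ch ((m6 (m6 r p) (i6 r)).1.1 - (m6 (m6 r p) (i6 r)).1.2.1) else 0 := fun p hp => by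
    rw [ind_sp ht s2 ⟨mH hm p, fun e => hp (hm.inj (by rw [hm.hom, e, o1]))⟩, cK,
      sum_H hm fun a => eta K l2 (a * φ p * a⁻¹)]
    simp only [conj6 hm, E2, Nat.cast_ofNat]
  have N2 : classInner (ind K l2) (ind K l2) = (3 : ℤ) := by
    rw [inner_ind ind_class, sum_G hm _ fun x hx => (s2 x (eta_ne (left_ne_zero_of_mul hx)).1
      (eta_ne (left_ne_zero_of_mul hx)).2).1, cK]
    have : ∀ p : V27 × W6, eta K l2 (φ p) * conj (ind K l2 (φ p)) = (54 : ℂ)⁻¹ * ∑ r : V27 × W6,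
        if p.2.1 = 0 ∧ (m6 (m6 r p) (i6 r)).2.1 = 0 then (1 - ch (p.1.1 - p.1.2.1)) * conj
          (1 - ch ((m6 (m6 r p) (i6 r)).1.1 - (m6 (m6 r p) (i6 r)).1.2.1)) else 0 := fun p => by
      rw [E2]
      by_cases h1 : p.2.1 = 0
      · by_cases h2 : p.1.1 - p.1.2.1 = 0
        · simp [h2, ch_zero]
        · rw [V2 p ((by decide +kernel : ∀ p : V27 × W6, p.2.1 = 0 →
            p.1.1 - p.1.2.1 ≠ 0 → m6 p p ≠ (0, 0)) p h1 h2), if_pos h1, map_mul, map_sum,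
            mul_left_comm, Finset.mul_sum, map_inv₀, map_ofNat]
          congr 1
          exact Finset.sum_congr rfl fun r _ => by simp only [h1, true_and]; split_ifs <;> simp
      · simp [h1]
    simp only [this, ← Finset.mul_sum]
    rw [sum_ch2 (m := 2592) (n := 324) _ _ _ (by decide +kernel) (by decide +kernel)
      (by decide +kernel)]
    norm_num
  have N12 : classInner (ind P l1) (ind K l2) = (0 : ℤ) := by
    rw [inner_ind ind_class, Finset.sum_eq_zero, mul_zero, Int.cast_zero]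
    intro x _
    by_contra hx
    obtain ⟨h1, h2⟩ := eta_ne (left_ne_zero_of_mul hx)
    obtain ⟨p, hp, rfl⟩ := (hP x).1 h1
    simp only [l1, hψ] at h2
    refine right_ne_zero_of_mul hx ?_
    rw [V2 p ((by decide +kernel : ∀ p : V27 × W6, p.2.2 = 0 → p.2.1 ≠ 0 →
      m6 p p ≠ (0, 0)) p hp h2), Finset.sum_eq_zero, mul_zero, map_zero]
    exact fun r _ => if_neg ((by decide +kernel : ∀ w w' : W6, w'.2 = 0 → w'.1 ≠ 0 →
      (mw6 (mw6 w w') (-H108.sg w.2 w.1, w.2)).1 ≠ 0) r.2 p.2 hp h2)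
  have tt : φ (0, (0, 1)) * φ (0, (0, 1)) = 1 := by
    rw [← hm.hom, ← o1]; exact congrArg φ (by decide +kernel)
  have sq1 : ∀ x, IsConj (φ (0, (0, 1))) x → x * x = 1 := fun x h => by
    obtain ⟨c, rfl⟩ := isConj_iff.1 h
    rw [conj_mul, tt]; group
  have hI : ∀ p, IsConj (φ (0, (0, 1))) (φ p) ↔ p.2.2 = 1 ∧ m6 p p = (0, 0) := fun p => by
    constructor
    · intro h
      have e : m6 p p = (0, 0) := hm.inj (by rw [hm.hom, sq1 _ h, o1])
      refine ⟨((by decide +kernel : ∀ p : V27 × W6, m6 p p = (0, 0) → p.2.2 = 1 ∨ p = (0, 0)) p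
        e).resolve_right ?_, e⟩
      rintro rfl
      rw [o1, isConj_one_left, ← o1] at h
      exact absurd (hm.inj h) (by decide)
    · rintro ⟨h1, h2⟩
      obtain ⟨_, _, _, e⟩ := (by decide +kernel : ∀ p : V27 × W6, p.2.2 = 1 → m6 p p = (0, 0) →
        ∃ w, mw6 w (0, 1) = mw6 p.2 w ∧ ∃ v, m6 (v, w) (0, (0, 1)) = m6 p (v, w)) p h1 h2
      exact hm.conj_of _ e
  have hf : ∀ x y, IsConj (φ (0, (0, 1))) x → IsConj (φ (0, (0, 1))) y →
      x * y ∈ H ∧ x * y * (x * y) ≠ 1 → x ∈ H ∧ y ∈ H := fun x y hx hy h => by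
    have : x ∈ H := ht.ti _ _ x h (ht.inv _ h) (by
      rw [mul_inv_rev, inv_eq_of_mul_eq_one_right (sq1 x hx), inv_eq_of_mul_eq_one_right (sq1 y hy),
        ← mul_assoc, sq1 x hx, one_mul])
    exact ⟨this, (mul_mem_cancel_left this).1 h.1⟩
  have I1 := ind_invol (K := P) (l := l1) (φ (0, (0, 1)))
  have I2 := ind_invol (K := K) (l := l2) (φ (0, (0, 1)))
  rw [sum_pairs hm _ hI _ fun x y hx hy h => hf x y hx hy (s1 _ (eta_ne h).1 (eta_ne h).2), cP] at I1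
  rw [sum_pairs hm _ hI _ fun x y hx hy h => hf x y hx hy (s2 _ (eta_ne h).1 (eta_ne h).2), cK] at I2
  simp only [E1, E2, ← ite_and] at I1 I2
  rw [sum_ch' (n := 243) _ _ (by decide +kernel) (by decide +kernel)] at I1
  rw [sum_ch' (n := 54) _ _ (by decide +kernel) (by decide +kernel)] at I2
  obtain ⟨m, hm1, hF⟩ := exists_coef T.add
  obtain ⟨m', hm2, hF'⟩ := exists_coef a2
  have mo : m (triv G) = 1 := by exact_mod_cast (hm1 _).symm.trans (ind_triv T.add m1 n1)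
  have mo' : m' (triv G) = 1 := by exact_mod_cast (hm2 _).symm.trans (ind_triv a2 m2 n2)
  have z1 : ∀ x, x * x = 1 → ind P l1 x = 0 := fun x hx => ind_zero fun a ha => by_contra fun e =>
    (s1 _ ha e).2 (by rw [conj_mul, hx]; group)
  have z2 : ∀ x, x * x = 1 → ind K l2 x = 0 := fun x hx => ind_zero fun a ha => by_contra fun e =>
    (s2 _ ha e).2 (by rw [conj_mul, hx]; group)
  have c0 := coef_inner hm1 hm2 N12
  have fin : ∀ X Y : IrrCharacter G, X ≠ Y → X ≠ triv G → Y ≠ triv G → m X * m X = 1 →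
      m Y * m Y = 1 → (∀ i, i ≠ triv G → i ≠ X → i ≠ Y → m i = 0) → m' Y = - m Y → m' X = 0 →
      ∃ X : IrrCharacter G, (X : G → ℂ) 1 = 1 ∧ (X : G → ℂ) (φ (0, (0, 1))) ≠ 1 := by
    intro X Y h1 h2 h3 h4 h5 h6 h7 h8
    obtain ⟨Z, k1, k3, k5, k6⟩ : ∃ Z, Y ≠ Z ∧ Z ≠ triv G ∧ m' Z * m' Z = 1 ∧
        ∀ i, i ≠ triv G → i ≠ Y → i ≠ Z → m' i = 0 := by
      obtain ⟨U, V, k1, k2, k3, k4, k5, k6⟩ := three m' (triv G) (coef_inner hm2 hm2 N2) mo'
      by_cases hU : Y = U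
      · exact ⟨V, hU ▸ k1, k3, k5, hU ▸ k6⟩
      by_cases hV : Y = V
      · exact ⟨U, hU, k2, k4, fun i a b c => k6 i a c (hV ▸ b)⟩
      have := k6 Y h3 hU hV
      rw [h7, neg_eq_zero] at this
      simp [this] at h5
    have f : ∀ g, g * g = 1 → 1 + m X * (X : G → ℂ) g + m Y * (Y : G → ℂ) g = 0 := fun g hg => by
      rw [← z1 g hg, hF, sum_three h1 h2 h3 h6, mo]; simp [triv]
    have f' : ∀ g, g * g = 1 → 1 - m Y * (Y : G → ℂ) g + m' Z * (Z : G → ℂ) g = 0 := fun g hg => by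
      rw [← z2 g hg, hF', sum_three k1 h3 k3 k6, mo', h7]; simp [triv, sub_eq_add_neg]
    simp only [hm1, hm2] at I1 I2
    rw [sum_three h1 h2 h3 h6, mo] at I1
    rw [sum_three k1 h3 k3 k6, mo', h7] at I2
    have q : ∀ (k : ℤ) (W : IrrCharacter G) (g : G), k * k = 1 → (k : ℂ) * (W : G → ℂ) 1 ≠ 0 ∧
        (k : ℂ) * ((W : G → ℂ) g ^ 2 / (W : G → ℂ) 1) =
        (k * (W : G → ℂ) g) ^ 2 / (k * (W : G → ℂ) 1) := fun k W g hk => by
      have w0 := H6.irr_one_ne_zero W.2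
      rcases mul_self_eq_one_iff.1 hk with rfl | rfl
      · simpa using w0
      · refine ⟨by simpa using w0, ?_⟩
        push_cast; field_simp
    obtain ⟨r1, r2⟩ := alg162 (n := Nat.card G)
      (c := Nat.card (centralizer ({φ (0, (0, 1))} : Set G))) (by exact_mod_cast Nat.card_pos.ne')
      (by exact_mod_cast Nat.card_pos.ne') (q _ X 1 h4).1 (q _ Y 1 h5).1 (q _ Z 1 k5).1
      (f 1 (one_mul 1)) (f _ tt) (f' 1 (one_mul 1)) (f' _ tt)
      (by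
        rw [← (q _ X _ h4).2, ← (q _ Y _ h5).2]
        simp only [triv, Int.cast_one, one_pow, div_one, mul_one] at I1
        push_cast at I1
        linear_combination I1)
      (by
        rw [← (q _ Z _ k5).2, ← (q _ Y _ h5).2]
        simp only [triv, Int.cast_one, one_pow, div_one, mul_one] at I2
        push_cast at I2
        linear_combination I2)
    obtain ⟨n, hn, e⟩ := H6.irr_one_pos X.2
    rcases mul_self_eq_one_iff.1 h4 with h | h <;> rw [h] at r1 r2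
    · exact ⟨X, by simpa using r1, by simpa using r2⟩
    · rw [e] at r1
      have : (-1 : ℤ) * n = 1 := by exact_mod_cast r1
      omega
  obtain ⟨X, Y, h1, h2, h3, h4, h5, h6⟩ := three m (triv G) (coef_inner hm1 hm1 (T.norm m1 n1)) mo
  have c1 := sum_three (R := ℤ) h1 h2 h3 h6 m'
  simp only [Int.cast_id] at c1
  rw [c0, mo, mo'] at c1
  have bd : ∀ i, i ≠ triv G → m' i = 0 ∨ m' i = 1 ∨ m' i = -1 := fun i hi => by
    obtain ⟨U, V, k1, k2, k3, k4, k5, k6⟩ := three m' (triv G) (coef_inner hm2 hm2 N2) mo'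
    by_cases hU : i = U
    · exact Or.inr (hU ▸ mul_self_eq_one_iff.1 k4)
    by_cases hV : i = V
    · exact Or.inr (hV ▸ mul_self_eq_one_iff.1 k5)
    exact Or.inl (k6 i hi hU hV)
  have : (m' Y = - m Y ∧ m' X = 0) ∨ (m' X = - m X ∧ m' Y = 0) := by
    rcases mul_self_eq_one_iff.1 h4 with a | a <;> rcases mul_self_eq_one_iff.1 h5 with b | b <;>
      rcases bd X h2 with c | c | c <;> rcases bd Y h3 with d | d | d <;>
      rw [a, b, c, d] at c1 <;> omega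
  rcases this with ⟨a, b⟩ | ⟨a, b⟩
  · exact fin X Y h1 h2 h3 h4 h5 h6 a b
  · exact fin Y X h1.symm h3 h2 h5 h4 (fun i a b c => h6 i a c b) a b

theorem A162 {H : Subgroup G} {φ : V27 × W6 → G} (hm : Mdl H m6 φ)
    (hC : ∀ u, u ≠ 0 → ∀ g, g * φ (u, 0) = φ (u, 0) * g → g ∈ H)
    (hx : ∀ g, g * φ (0, (1, 0)) = φ (0, (1, 0)) * g → g ∈ H)
    (hN : ∀ g, (∀ u, ∃ v, g * φ (u, 0) * g⁻¹ = φ (v, 0)) → g ∈ H)
    (hs : ∀ U : Subgroup G, (Nat.card U).Coprime 3 →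
      (∀ v, ∀ u ∈ U, φ (v, 0) * u * (φ (v, 0))⁻¹ ∈ U) → U = ⊥) (g : G) : g ∈ H := by
  have ht := ti6 hm hC hx hN
  have o1 : φ (0, 0) = 1 := one_of hm (by decide +kernel)
  obtain ⟨X, x1, xt⟩ := lin162 hm ht
  have hX := H6.irr_isCharacter X.2
  obtain ⟨N, n, mem⟩ : ∃ N : Subgroup G, N.Normal ∧ ∀ g, g ∈ N ↔ (X : G → ℂ) g = 1 :=
    ⟨H6.charKer X, inferInstance, fun g => x1 ▸ H6.mem_charKer hX⟩
  obtain ⟨P, hP⟩ := exists_sub hm (fun p => p.2.2 = 0) (o := (0, 0)) (by decide +kernel) rfl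
    fun p q hp hq => by simp [m6, sdMul, mw6, hp, hq]
  have cm : ∀ q w p, m6 w q = m6 p (m6 q w) → φ p ∈ N := fun q w p e => by
    have e1 : φ p = φ w * φ q * (φ w)⁻¹ * (φ q)⁻¹ := by
      have := congrArg φ e
      rw [hm.hom, hm.hom, hm.hom] at this
      rw [this]; group
    rw [mem, e1]
    exact H6.char_commutator_of_one_eq_one hX x1 (commutator_mem_commutator (mem_top _) (mem_top _))
  have PN : P ≤ N := fun x hx => by
    obtain ⟨p, hp, rfl⟩ := (hP x).1 hx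
    obtain ⟨⟨a, b, c⟩, r, s⟩ := p
    obtain rfl : s = 0 := hp
    rw [← (by decide +kernel : ∀ a b c r : ZMod 3, m6 ((b, b, c), 0) (m6 ((a - b, 0, 0), 0)
      (0, (r, 0))) = ((a, b, c), (r, 0))) a b c r, hm.hom, hm.hom]
    exact mul_mem (cm ((b, b, c), 0) (0, (0, 1)) _ (by clear hx; revert b c; decide +kernel))
      (mul_mem (cm ((a - b, 0, 0), 0) (0, (2, 1)) _ (by clear hx; revert a b; decide +kernel))
        (cm (0, (r, 0)) (0, (0, 1)) _ (by clear hx; revert r; decide +kernel)))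
  have NH : ∀ g ∈ N, g ∈ H → g ∈ P := fun g hg h => by
    obtain ⟨p, rfl⟩ := (hm.mem g).1 h
    rcases (by decide +kernel : ∀ w : W6, w.2 = 0 ∨ (mw6 w (0, 1)).2 = 0) p.2 with e | e
    · exact (mem_sub hm hP _).2 e
    · have : φ p * φ (0, (0, 1)) ∈ N := PN (by rw [← hm.hom, mem_sub hm hP]; exact e)
      exact absurd ((mem _).1 ((mul_mem_cancel_left hg).1 this)) xt
  have sp : ∀ x ∈ P, x ≠ 1 → x ∈ H ∧ x * x ≠ 1 := fun x hx h => by
    obtain ⟨p, hp, rfl⟩ := (hP x).1 hx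
    exact ⟨mH hm p, fun e => h (by
      rw [(by decide +kernel : ∀ p : V27 × W6, p.2.2 = 0 → m6 p p = (0, 0) → p = (0, 0)) p hp
        (hm.inj (by rw [hm.hom, e, o1])), o1])⟩
  have hU := hs _ (O3'_cop N) fun v u hu => O3'_norm (fun x hx => n.conj_mem x hx _) hu
  have p3 : IsPGroup 3 P := IsPGroup.of_card (n := 4) ((card_sub hm hP).trans (by decide +kernel))
  refine hN g fun v => cl6 hm hx v g ?_
  obtain ⟨u, hu, e⟩ := frob p3 PN (z := φ (0, (1, 0))) ((mem_sub hm hP _).2 rfl)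
    (fun e => absurd (hm.inj (e.trans o1.symm)) (by decide))
    (fun k hk x hx x1 h => NH k hk (ht.ti _ _ k (sp x hx x1) (sp _ h (by simpa using x1)) rfl))
    (n.conj_mem _ (PN ((mem_sub hm hP (v, 0)).2 rfl)) g)
  rw [hU, mem_bot] at hu
  rw [hu, inv_one, one_mul] at e
  obtain ⟨p, -, hp⟩ := (hP _).1 e
  exact hp ▸ mH hm p

end H20.L43
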