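import Mathlib
import Cfsg.Agent.Lib.P3L.Abs0

/-! Groups with `3³ : S₄` as normaliser of `3³`. -/

set_option autoImplicit false
set_option linter.style.haveILetI false
set_option linter.unusedSectionVars false
set_option synthInstance.maxSize 8192

namespace H20.L43

open Cfsg Subgroup H53.Odd ComplexConjugate
open H53.Odd.H108 (W4 sg)

/-- the inverse in `S₄` -/
def iw24 (w : W24) : W24 := (a4 (-sg w.2.2 w.2.1, w.2.2) w.1, (-sg w.2.2 w.2.1, w.2.2))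

/-- the inverse in `3³ : S₄` -/
def i24 (p : V27 × W24) : V27 × W24 := (-act24 (iw24 p.2) p.1, iw24 p.2)

theorem force_eq_i24 : True := by
  have := @iw24.eq_1
  have := @i24.eq_1
  trivial

variable {G : Type*} [Group G] [Finite G] {H : Subgroup G} {φ : V27 × W24 → G}

theorem inv24 (hm : Mdl H m24 φ) (r : V27 × W24) : (φ r)⁻¹ = φ (i24 r) :=
  inv_eq_of_mul_eq_one_right (by
    rw [← hm.hom, (by decide +kernel : ∀ r, m24 r (i24 r) = (0, 0)) r]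
    exact one_of hm (by decide +kernel))

theorem conj24 (hm : Mdl H m24 φ) (r p : V27 × W24) :
    φ r * φ p * (φ r)⁻¹ = φ (m24 (m24 r p) (i24 r)) := by
  rw [hm.hom, hm.hom, inv24 hm]

theorem dec24 (p : V27 × W24) (hp : m24 p (m24 p p) = (0, 0)) :
    p.2 = 0 ∨ ∃ r, m24 r p = m24 (0, (0, (1, 0))) r :=
  ((by decide +kernel : ∀ p : V27 × W24, m24 p (m24 p p) = (0, 0) → p.2 = 0 ∨
    ∃ w, mw24 w p.2 = mw24 (0, (1, 0)) w ∧ ∃ v, m24 (v, w) p = m24 (0, (0, (1, 0))) (v, w))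
      p hp).imp id fun ⟨_, _, _, e⟩ => ⟨_, e⟩

theorem com24 (hm : Mdl H m24 φ) (u v : V27) : φ (u, 0) * φ (v, 0) = φ (v, 0) * φ (u, 0) := by
  rw [← hm.hom, (by decide +kernel : ∀ u v : V27, m24 (u, 0) (v, 0) = m24 (v, 0) (u, 0)) u v,
    hm.hom]

theorem cl24 (hm : Mdl H m24 φ)
    (hx : ∀ g, g * φ (0, (0, (1, 0))) = φ (0, (0, (1, 0))) * g → g ∈ H)
    (u : V27) (g : G) (h : g * φ (u, 0) * g⁻¹ ∈ H) : ∃ v, g * φ (u, 0) * g⁻¹ = φ (v, 0) :=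
  str_cl hm (j := fun u => (u, 0)) (o := (0, 0)) (fun _ _ e => (Prod.ext_iff.1 e).1)
    (by decide +kernel) (by decide +kernel) (by decide +kernel) hx (by decide +kernel)
    (fun p hp => (dec24 p hp).imp (fun e => ⟨p.1, by rw [← e]⟩) id) u g h

theorem two24 (hm : Mdl H m24 φ)
    (hC : ∀ u, 2 ≤ wt u → ∀ g, g * φ (u, 0) = φ (u, 0) * g → g ∈ H)
    (hx : ∀ g, g * φ (0, (0, (1, 0))) = φ (0, (0, (1, 0))) * g → g ∈ H)
    (hN : ∀ g, (∀ u, ∃ v, g * φ (u, 0) * g⁻¹ = φ (v, 0)) → g ∈ H) {K : Subgroup G}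
    (hK : ∀ g, g ∈ K ↔ ∃ p : V27 × W24, p.2.2.2 = 0 ∧ φ p = g) {ψ : G → V27 × W24}
    (hψ : ∀ p, ψ (φ p) = p) : Two H K (fun g => (ψ g).2.2.1) (φ (0, (0, (0, 1)))) := by
  have o1 : φ (0, 0) = 1 := one_of hm (by decide +kernel)
  refine ⟨fun x hx y hy => ?_, fun x hx => ?_, mH hm _, fun e => ?_, fun h hh => ?_,
    fun h hh hn x hx => ?_, fun x h => ?_, fun x y g a b e => ?_⟩
  · obtain ⟨p, hp, rfl⟩ := (hK x).1 hx
    obtain ⟨q, hq, rfl⟩ := (hK y).1 hy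
    simp only [← hm.hom, hψ]
    simp [m24, sdMul, mw24, mw6, hp, sg]
  · obtain ⟨p, -, rfl⟩ := (hK x).1 hx
    exact mH hm p
  · exact absurd ((mem_sub hm hK _).1 e) (by decide)
  · obtain ⟨p, rfl⟩ := (hm.mem h).1 hh
    rw [← hm.hom, mem_sub hm hK, mem_sub hm hK]
    exact (by decide +kernel : ∀ w : W6, w.2 = 0 ∨ (mw6 w (0, 1)).2 = 0) p.2.2
  · obtain ⟨r, rfl⟩ := (hm.mem h).1 hh
    obtain ⟨p, hp, rfl⟩ := (hK x).1 hx
    rw [mem_sub hm hK] at hn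
    rw [conj24 hm, mem_sub hm hK]
    simp only [hψ]
    exact (by decide +kernel : ∀ w w' : W6, ¬ w.2 = 0 → w'.2 = 0 →
      (mw6 (mw6 w w') (-sg w.2 w.1, w.2)).2 = 0 ∧
      (mw6 (mw6 w w') (-sg w.2 w.1, w.2)).1 = - w'.1) r.2.2 p.2.2 hn hp
  · obtain ⟨p, hp, rfl⟩ := (hK x).1 h.1
    refine ⟨inv_mem h.1, ?_⟩
    have h2 := h.2
    simp only [inv24 hm, hψ] at h2 ⊢
    simpa [i24, iw24, hp, sg] using h2
  · obtain ⟨p, hp, rfl⟩ := (hK x).1 a.1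
    obtain ⟨q, hq, rfl⟩ := (hK y).1 b.1
    have a2 := a.2
    have b2 := b.2
    simp only [hψ] at a2 b2
    have cu : ∀ p, φ p ^ 3 = φ (m24 p (m24 p p)) := fun p => by rw [hm.hom, hm.hom, pow_three]
    have e3 : g * φ (m24 p (m24 p p)) * g⁻¹ = φ (m24 q (m24 q q)) := by
      rw [← cu, ← cu, ← e, conj_pow]
    have dd := (by decide +kernel : ∀ p : V27 × W24, p.2.2.2 = 0 → p.2.2.1 ≠ 0 →
      m24 p (m24 p p) = (0, 0) ∨ ((m24 p (m24 p p)).2 = 0 ∧ 2 ≤ wt (m24 p (m24 p p)).1))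
    rcases dd q hq b2 with h | ⟨h1, h2⟩
    · rw [h, o1, mul_inv_eq_one, mul_eq_left, ← o1] at e3
      obtain ⟨r, hr⟩ := (dec24 p (hm.inj e3)).resolve_left fun h => a2 (by rw [h]; rfl)
      obtain ⟨r', hr'⟩ := (dec24 q h).resolve_left fun h => b2 (by rw [h]; rfl)
      exact cent_conj hm hx hr hr' rfl e
    · rcases dd p hp a2 with h | ⟨h3, -⟩
      · rw [h, o1, mul_one, mul_inv_cancel, ← o1] at e3
        rw [← hm.inj e3] at h2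
        exact absurd h2 (by decide)
      refine hN g fun w => cl24 hm hx w g (hC _ h2 _ ?_)
      rw [show ((m24 q (m24 q q)).1, (0 : W24)) = m24 q (m24 q q) by rw [← h1], ← e3,
        show m24 p (m24 p p) = ((m24 p (m24 p p)).1, 0) by rw [← h3], conj_mul, conj_mul, com24 hm]

theorem nc24 (hm : Mdl H m24 φ)
    (hC : ∀ u, 2 ≤ wt u → ∀ g, g * φ (u, 0) = φ (u, 0) * g → g ∈ H) (a : G) :
    a * φ (0, ((1, 0), 0)) * a⁻¹ ≠ φ (0, (0, (0, 1))) := fun e => by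
  have o1 : φ (0, 0) = 1 := one_of hm (by decide +kernel)
  have hb := hC (1, 2, 0) (by decide)
  obtain ⟨R, hR⟩ := exists_sub hm (fun p => p.2 = 0 ∧ p.1.2.2 = 0 ∧ p.1.1 + p.1.2.1 = 0)
    (o := (0, 0)) (by decide +kernel) (by decide) (by
      rintro ⟨u, w⟩ ⟨v, w'⟩ ⟨rfl, h1⟩ ⟨rfl, h2⟩
      revert u v; decide +kernel)
  have db := (by decide +kernel : ∀ p : V27 × W24, p.2 = 0 ∧ p.1.2.2 = 0 ∧ p.1.1 + p.1.2.1 = 0 →
    p = (0, 0) ∨ m24 (0, 0) p = m24 ((1, 2, 0), 0) (0, 0) ∨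
    m24 (0, ((1, 0), 0)) p = m24 ((1, 2, 0), 0) (0, ((1, 0), 0)))
  have db' : ∀ x ∈ R, x ≠ 1 → ∃ p r, φ p = x ∧ m24 r p = m24 ((1, 2, 0), 0) r := fun x hx x1 => by
    obtain ⟨p, hp, rfl⟩ := (hR x).1 hx
    rcases db p hp with rfl | h | h
    · exact absurd o1 x1
    · exact ⟨p, _, rfl, h⟩
    · exact ⟨p, _, rfl, h⟩
  obtain ⟨k, -, hk⟩ := conj_into1 (N := Ce (φ (0, (0, (0, 1))))) (R := R)
    (IsPGroup.of_card (n := 1) ((card_sub hm hR).trans (by decide +kernel)))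
    (fun g hg h1 h3 => by
      obtain ⟨p, r, e1, e2⟩ := db' _ (h1 _ ((mem_sub hm hR ((1, 2, 0), 0)).2 (by decide))) (by
        rw [ne_eq, mul_inv_eq_one, mul_eq_left, ← o1]
        exact fun e => absurd (hm.inj e) (by decide))
      obtain ⟨q, rfl⟩ := (hm.mem g).1 (cent_conj hm hb (r := (0, 0)) (by decide +kernel) e2 rfl
        e1.symm)
      rw [pow_three, ← hm.hom, ← hm.hom, mem_sub hm hR] at h3
      rw [mem_Ce, ← hm.hom, ← hm.hom, hm.inj.eq_iff] at hg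
      rw [mem_sub hm hR]
      exact (by decide +kernel : ∀ q : V27 × W24, m24 q (0, (0, (0, 1))) = m24 (0, (0, (0, 1))) q →
        (m24 q (m24 q q)).2 = 0 → q.2 = 0 ∧ q.1.2.2 = 0 ∧ q.1.1 + q.1.2.1 = 0) q hg h3.1)
    (fun x hx => by
      obtain ⟨p, hp, rfl⟩ := (hR x).1 hx
      rw [mem_Ce, ← hm.hom, ← hm.hom]
      exact congrArg φ ((by decide +kernel : ∀ p : V27 × W24,
        p.2 = 0 ∧ p.1.2.2 = 0 ∧ p.1.1 + p.1.2.1 = 0 →
        m24 p (0, (0, (0, 1))) = m24 (0, (0, (0, 1))) p) p hp))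
    (t := a * φ ((0, 0, 1), 0) * a⁻¹) (by
      rw [conj_pow, pow_three, ← hm.hom, ← hm.hom, mul_inv_eq_one, mul_eq_left, ← o1]
      exact congrArg φ (by decide +kernel))
    (by
      rw [mem_Ce, ← e, conj_mul, conj_mul, ← hm.hom, ← hm.hom]
      congr 3)
  obtain ⟨p, r, e1, e2⟩ := db' _ hk (by
    rw [ne_eq, mul_inv_eq_one, mul_eq_left, mul_inv_eq_one, mul_eq_left, ← o1]
    exact fun e => absurd (hm.inj e) (by decide))
  have e3 : φ r * k * a * φ ((0, 0, 1), 0) * (φ r * k * a)⁻¹ = φ ((1, 2, 0), 0) := by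
    rw [← (hm.conj_iff _ _ _).2 e2, e1]; group
  generalize φ r * k * a = g at e3
  have c : φ (0, ((1, 1), (0, 1))) * φ ((0, 0, 1), 0) = φ ((0, 0, 1), 0) * φ (0, ((1, 1), (0, 1))) := by
    rw [← hm.hom, ← hm.hom]; exact congrArg φ (by decide +kernel)
  have c' : g * φ (0, ((1, 1), (0, 1))) * g⁻¹ * φ ((1, 2, 0), 0) =
      φ ((1, 2, 0), 0) * (g * φ (0, ((1, 1), (0, 1))) * g⁻¹) := by
    rw [← e3, conj_mul, conj_mul, c]
  obtain ⟨q, hq⟩ := (hm.mem _).1 (hb _ c')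
  have q2 : φ (m24 q q) = g * φ (0, ((1, 0), 0)) * g⁻¹ := by
    rw [hm.hom, hq, conj_mul, ← hm.hom]; congr 3
  have := (by decide +kernel : ∀ q : V27 × W24, m24 q ((1, 2, 0), 0) = m24 ((1, 2, 0), 0) q →
    m24 (m24 q q) (m24 q q) = (0, 0) → m24 q q = (0, 0)) q
    (hm.inj (by rw [hm.hom, hm.hom, hq, c'])) (hm.inj (by
      rw [hm.hom, q2, conj_mul, ← hm.hom, o1, mul_inv_eq_one, mul_eq_left, ← o1]
      exact congrArg φ (by decide +kernel)))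
  rw [this, o1, eq_comm, mul_inv_eq_one, mul_eq_left, ← o1] at q2
  exact absurd (hm.inj q2) (by decide)

theorem nor24 (hm : Mdl H m24 φ)
    (hC : ∀ u, 2 ≤ wt u → ∀ g, g * φ (u, 0) = φ (u, 0) * g → g ∈ H)
    (hx : ∀ g, g * φ (0, (0, (1, 0))) = φ (0, (0, (1, 0))) * g → g ∈ H)
    (hN : ∀ g, (∀ u, ∃ v, g * φ (u, 0) * g⁻¹ = φ (v, 0)) → g ∈ H) :
    ∃ N : Subgroup G, N.Normal ∧ ∀ p, φ p ∈ N ↔ p.2.2 = 0 := by
  haveI := Fintype.ofFinite G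
  have o1 : φ (0, 0) = 1 := one_of hm (by decide +kernel)
  obtain ⟨K, hK⟩ := exists_sub hm (fun p => p.2.2.2 = 0) (o := (0, 0)) (by decide +kernel) rfl
    fun p q hp hq => by simp [m24, sdMul, mw24, mw6, hp, hq]
  obtain ⟨ψ, hψ⟩ : ∃ ψ : G → V27 × W24, ∀ p, ψ (φ p) = p :=
    ⟨Function.invFun φ, Function.leftInverse_invFun hm.inj⟩
  have uu : φ (0, ((1, 0), 0)) * φ (0, ((1, 0), 0)) = 1 := by
    rw [← hm.hom, ← o1]; exact congrArg φ (by decide +kernel)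
  obtain ⟨N, n, hu, hn⟩ := (two24 hm hC hx hN hK hψ).bs (x := φ (0, (0, (1, 0))))
    ((mem_sub hm hK _).2 rfl) (by simp only [hψ]; decide) uu fun a ha => by
      obtain ⟨p, hp⟩ := (hm.mem _).1 ha
      rw [← hp, mem_sub hm hK, hψ]
      rcases (by decide +kernel : ∀ p : V27 × W24, m24 p p = (0, 0) →
        (p.2.2.2 = 0 ∧ p.2.2.1 = 0) ∨ ∃ w, mw24 w p.2 = mw24 (0, (0, 1)) w ∧
          ∃ v, m24 (v, w) p = m24 (0, (0, (0, 1))) (v, w)) p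
        (hm.inj (by rw [hm.hom, hp, conj_mul, uu, o1]; group)) with h | ⟨w, -, v, h⟩
      · exact h
      · refine absurd ?_ (nc24 hm hC (φ (v, w) * a))
        rw [← (hm.conj_iff _ _ _).2 h, hp]; group
  have cj : ∀ p r, φ p ∈ N → φ (m24 (m24 r p) (i24 r)) ∈ N := fun p r h =>
    conj24 hm r p ▸ n.conj_mem _ h _
  have mu : ∀ p q, φ p ∈ N → φ q ∈ N → φ (m24 p q) ∈ N := fun p q a b =>
    hm.hom p q ▸ mul_mem a b
  have L : ∀ p : V27 × W24, p.2.2 = 0 → φ p ∈ N := fun p hp => by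
    have h1 := cj _ (0, (0, (1, 0))) hu
    have h2 := cj _ (0, (0, (2, 0))) hu
    have w : ∀ w : W4, φ (0, (w, 0)) ∈ N := fun w => by
      rcases (by decide +kernel : ∀ w : W4, ((0, (w, 0)) : V27 × W24) = (0, 0) ∨
        ((0, (w, 0)) : V27 × W24) = (0, ((1, 0), 0)) ∨
        (0, (w, 0)) = m24 (m24 (0, (0, (1, 0))) (0, ((1, 0), 0))) (i24 (0, (0, (1, 0)))) ∨
        (0, (w, 0)) = m24 (m24 (0, (0, (2, 0))) (0, ((1, 0), 0))) (i24 (0, (0, (2, 0))))) w with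
        h | h | h | h <;> rw [h]
      · exact o1 ▸ one_mem N
      · exact hu
      · exact h1
      · exact h2
    obtain ⟨⟨a, b, c⟩, w', s⟩ := p
    obtain rfl : s = 0 := hp
    rw [← (by decide +kernel : ∀ (a b c : ZMod 3) (w : W4), m24 (m24 (m24 (m24 ((-a, -b, 0), 0)
      (0, ((1, 0), 0))) (i24 ((-a, -b, 0), 0))) (0, ((1, 0), 0))) (m24 (m24 (m24 (m24
      ((0, 0, -c), 0) (0, ((0, 1), 0))) (i24 ((0, 0, -c), 0))) (0, ((0, 1), 0))) (0, (w, 0))) =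
      ((a, b, c), (w, 0))) a b c w']
    exact mu _ _ (mu _ _ (cj _ _ hu) hu) (mu _ _ (mu _ _ (cj _ _ (w _)) (w _)) (w _))
  refine ⟨N, n, fun p => ⟨fun h => by_contra fun h' => ?_, L p⟩⟩
  have hn' : ∀ q : V27 × W24, φ q ∈ N → q.2.2.2 = 0 → q.2.2.1 = 0 := fun q a b =>
    by_contra fun c => hn _ ((mem_sub hm hK q).2 b) (by simpa only [hψ] using c) a
  rcases (by decide +kernel : ∀ w : W6, w ≠ 0 → (w.2 = 0 ∧ w.1 ≠ 0) ∨
    ((mw6 (mw6 (mw6 (1, 0) w) (2, 0)) w).2 = 0 ∧ (mw6 (mw6 (mw6 (1, 0) w) (2, 0)) w).1 ≠ 0))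
    p.2.2 h' with ⟨a, b⟩ | ⟨a, b⟩
  · exact b (hn' p h a)
  · exact b (hn' _ (mu _ _ (cj p (0, (0, (1, 0))) h) h) a)

theorem wt1 (hm : Mdl H m24 φ)
    (hN : ∀ g, (∀ u, ∃ v, g * φ (u, 0) * g⁻¹ = φ (v, 0)) → g ∈ H)
    (hs : ∀ U : Subgroup G, (Nat.card U).Coprime 3 →
      (∀ v, ∀ u ∈ U, φ (v, 0) * u * (φ (v, 0))⁻¹ ∈ U) → U = ⊥) {N : Subgroup G} (n : N.Normal)
    (hn : ∀ p, φ p ∈ N ↔ p.2.2 = 0) {g : G} (hg : g ∈ N) (hc : g ∈ Ce (φ ((0, 0, 1), 0))) :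
    g ∈ H := by
  have o1 : φ (0, 0) = 1 := one_of hm (by decide +kernel)
  obtain ⟨J, hJ⟩ := exists_sub hm (fun p => p.2 = 0) (o := (0, 0)) (by decide +kernel) rfl (by
    rintro ⟨u, w⟩ ⟨v, w'⟩ rfl rfl
    exact (by decide +kernel : mw24 0 0 = 0))
  have mJ : ∀ v, φ (v, 0) ∈ J := fun v => (mem_sub hm hJ _).2 rfl
  have eJ : ∀ x ∈ J, ∃ v, φ (v, 0) = x := fun x hx => by
    obtain ⟨p, hp, rfl⟩ := (hJ x).1 hx
    exact ⟨p.1, by rw [← hp]⟩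
  have cJ : ∀ v, φ (v, 0) ∈ Ce (φ ((0, 0, 1), 0)) := fun v => mem_Ce.2 (com24 hm _ _)
  have c3 : ∀ v, φ (v, 0) ^ 3 = 1 := fun v => by
    rw [pow_three, ← hm.hom, ← hm.hom, ← o1]
    exact congrArg φ (by revert v; decide +kernel)
  have eR : ∀ x ∈ im (φ ((0, 0, 1), 0)) J, ∃ v, pr _ (φ (v, 0)) = x := fun x hx => by
    obtain ⟨y, hy, -, rfl⟩ := mem_im.1 hx
    obtain ⟨v, rfl⟩ := eJ y hy
    exact ⟨v, rfl⟩
  have zp : ∀ p, φ p ∈ zpowers (φ ((0, 0, 1), 0)) ↔ p.2 = 0 ∧ p.1.1 = 0 ∧ p.1.2.1 = 0 := fun p => by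
    obtain ⟨Z, hZ⟩ := exists_sub hm (fun p => p.2 = 0 ∧ p.1.1 = 0 ∧ p.1.2.1 = 0)
      (o := (0, 0)) (by decide +kernel) (by decide) (by
        rintro ⟨u, w⟩ ⟨v, w'⟩ ⟨rfl, h1⟩ ⟨rfl, h2⟩
        revert u v; decide +kernel)
    refine ⟨fun h => (mem_sub hm hZ p).1 (zpowers_le.2 ((mem_sub hm hZ _).2 (by decide)) h),
      fun h => ?_⟩
    rcases (by decide +kernel : ∀ p : V27 × W24, p.2 = 0 ∧ p.1.1 = 0 ∧ p.1.2.1 = 0 →
      p = (0, 0) ∨ p = ((0, 0, 1), 0) ∨ p = i24 ((0, 0, 1), 0)) p h with rfl | rfl | rfl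
    · exact o1 ▸ one_mem _
    · exact mem_zpowers _
    · exact inv24 hm _ ▸ inv_mem (mem_zpowers _)
  have cu : φ (0, ((1, 0), 0)) ∈ Ce (φ ((0, 0, 1), 0)) := by
    rw [mem_Ce, ← hm.hom, ← hm.hom]; exact congrArg φ (by decide +kernel)
  have cN : φ ((0, 0, 1), 0) ∈ N := (hn _).2 rfl
  obtain ⟨u, hu, e⟩ := st (N := im (φ ((0, 0, 1), 0)) N) (R := im (φ ((0, 0, 1), 0)) J)
    (fun x hx => by
      obtain ⟨v, rfl⟩ := eR x hx
      rw [← pr_pow (cJ v), c3, pr_one])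
    (fun x hx => by
      obtain ⟨v, rfl⟩ := eR x hx
      exact (pr_mem_im cN (cJ v)).2 ((hn _).2 rfl))
    (fun x hx y hy => by
      obtain ⟨v, rfl⟩ := eR x hx
      obtain ⟨w, rfl⟩ := eR y hy
      rw [← pr_mul (cJ v) (cJ w), com24 hm, pr_mul (cJ w) (cJ v)])
    ((pr_mem_im (mJ _) (cJ (1, 0, 0))).2 (mJ _)) ((pr_mem_im (mJ _) (cJ (0, 1, 0))).2 (mJ _))
    (by rw [ne_eq, pr_eq_one (cJ _), zp]; decide)
    (by
      obtain ⟨Z, hZ⟩ := exists_sub hm (fun p => p.2 = 0 ∧ p.1.2.1 = 0)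
        (o := (0, 0)) (by decide +kernel) (by decide) (by
          rintro ⟨u, w⟩ ⟨v, w'⟩ ⟨rfl, h1⟩ ⟨rfl, h2⟩
          revert u v; decide +kernel)
      have cZ : φ ((0, 0, 1), 0) ∈ Z := (mem_sub hm hZ _).2 (by decide)
      intro h
      have := zpowers_le.2 ((pr_mem_im cZ (cJ (1, 0, 0))).2 ((mem_sub hm hZ _).2 (by decide))) h
      rw [pr_mem_im cZ (cJ _), mem_sub hm hZ] at this
      exact absurd this (by decide))
    ((pr_mem_im cN cu).2 ((hn _).2 rfl))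
    (by rw [← pr_mul cu cu, ← pr_one, ← hm.hom, ← o1]; congr 2)
    (fun x hx => by
      obtain ⟨v, rfl⟩ := eR x hx
      rw [pr_conj cu (cJ v), ← pr_inv (cJ v), pr_eq_iff (mul_mem (mul_mem cu (cJ v)) (inv_mem cu))
        (inv_mem (cJ v)), conj24 hm, inv24 hm, inv24 hm, ← hm.hom, zp]
      clear hx; revert v; decide +kernel)
    (fun γ hγ h => by
      obtain ⟨k, k1, k2, rfl⟩ := mem_im.1 hγ
      obtain ⟨p, rfl⟩ := (hm.mem k).1 (hN k fun v => by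
        have := h _ ((pr_mem_im (mJ _) (cJ v)).2 (mJ _))
        rw [pr_conj k2 (cJ v), pr_mem_im (mJ _) (mul_mem (mul_mem k2 (cJ v)) (inv_mem k2))] at this
        obtain ⟨w, hw⟩ := eJ _ this
        exact ⟨w, hw.symm⟩)
      rw [← pr_mul cu k2, pr_mem_im (mJ _) k2, pr_mem_im (mJ _) (mul_mem cu k2), ← hm.hom,
        mem_sub hm hJ, mem_sub hm hJ]
      rw [mem_Ce, ← hm.hom, ← hm.hom, hm.inj.eq_iff] at k2
      exact (by decide +kernel : ∀ p : V27 × W24, p.2.2 = 0 →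
        m24 p ((0, 0, 1), 0) = m24 ((0, 0, 1), 0) p → p.2 = 0 ∨ (m24 (0, ((1, 0), 0)) p).2 = 0) p
        ((hn p).1 k1) k2)
    ((pr_mem_im cN hc).2 hg)
  have hO := sig_quot (Y := Set.range fun v => φ (v, 0)) (a := φ ((0, 0, 1), 0))
    (by rintro _ ⟨v, rfl⟩; exact cJ v) (fun U h1 h2 => hs U h1 fun v => h2 _ ⟨v, rfl⟩) (c3 _)
    (O3'_cop (im _ N)) (by
      rintro _ ⟨v, rfl⟩ u hu
      have := (pr_mem_im cN (cJ v)).2 ((hn _).2 rfl)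
      exact O3'_norm (fun x hx => mul_mem (mul_mem this hx) (inv_mem this)) hu)
  rw [hO, mem_bot] at hu
  rw [hu, inv_one, one_mul, ← pr_mul cu hc, pr_mem_im (mJ _) hc,
    pr_mem_im (mJ _) (mul_mem cu hc)] at e
  have JH : J ≤ H := fun x hx => by obtain ⟨v, rfl⟩ := eJ x hx; exact mH hm _
  exact e.elim (JH ·) fun e => (mul_mem_cancel_left (mH hm _)).1 (JH e)

theorem A648 {H : Subgroup G} {φ : V27 × W24 → G} (hm : Mdl H m24 φ)
    (hC : ∀ u, 2 ≤ wt u → ∀ g, g * φ (u, 0) = φ (u, 0) * g → g ∈ H)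
    (hx : ∀ g, g * φ (0, (0, (1, 0))) = φ (0, (0, (1, 0))) * g → g ∈ H)
    (hN : ∀ g, (∀ u, ∃ v, g * φ (u, 0) * g⁻¹ = φ (v, 0)) → g ∈ H)
    (hs : ∀ U : Subgroup G, (Nat.card U).Coprime 3 →
      (∀ v, ∀ u ∈ U, φ (v, 0) * u * (φ (v, 0))⁻¹ ∈ U) → U = ⊥) (g : G) : g ∈ H := by
  have o1 : φ (0, 0) = 1 := one_of hm (by decide +kernel)
  obtain ⟨N, n, hn⟩ := nor24 hm hC hx hN
  have hC' : ∀ u, u ≠ 0 → ∀ k ∈ N, k * φ (u, 0) = φ (u, 0) * k → k ∈ H := fun u hu k hk e => by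
    rcases (by decide +kernel : ∀ u : V27, u ≠ 0 → 2 ≤ wt u ∨
      ∃ w : W24, m24 (0, w) (u, 0) = m24 ((0, 0, 1), 0) (0, w)) u hu with h | ⟨w, h⟩
    · exact hC u h k e
    · have := wt1 hm hN hs n hn (n.conj_mem k hk (φ (0, w))) (by
        rw [mem_Ce, ← (hm.conj_iff _ _ _).2 h, conj_mul, conj_mul, e])
      exact (mul_mem_cancel_left (mH hm _)).1 ((mul_mem_cancel_right (inv_mem (mH hm _))).1 this)
  let φ' : V27 × W4 → N := fun p => ⟨φ (p.1, (p.2, 0)), (hn _).2 rfl⟩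
  have hm' : Mdl (H.subgroupOf N) H108.mul φ' := by
    refine ⟨fun p q => Subtype.ext ?_, fun p q e => ?_, fun k => ⟨fun h => ?_, ?_⟩⟩
    · simp only [φ', coe_mul, ← hm.hom]
      congr 1
    · have := hm.inj (congrArg Subtype.val e)
      simp only [Prod.mk.injEq, and_true] at this
      exact Prod.ext this.1 this.2
    · obtain ⟨p, hp⟩ := (hm.mem _).1 (mem_subgroupOf.1 h)
      exact ⟨(p.1, p.2.1), Subtype.ext (by
        simp only [φ']; rw [← hp, ← (hn p).1 (hp ▸ k.2)])⟩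
    · rintro ⟨p, rfl⟩
      exact mH hm _
  obtain ⟨T, hT⟩ := exists_sub hm' (fun p => p.2 = 0) (o := (0, 0)) (by decide +kernel) rfl (by
    rintro ⟨u, w⟩ ⟨v, w'⟩ rfl rfl
    exact add_zero _)
  have hT' : ∀ k, k ∈ T ↔ ∃ u, φ' (u, 0) = k := fun k => (hT k).trans
    ⟨fun ⟨p, hp, e⟩ => ⟨p.1, by rw [← e, ← hp]⟩, fun ⟨u, e⟩ => ⟨_, rfl, e⟩⟩
  have c := H108.card_eq hm' hT' (TI_of (fun a ha b hb => by
      obtain ⟨u, rfl⟩ := (hT' a).1 ha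
      obtain ⟨v, rfl⟩ := (hT' b).1 hb
      exact Subtype.ext (com24 hm u v))
    (fun t ht t1 k hk => by
      obtain ⟨u, rfl⟩ := (hT' t).1 ht
      exact hC' u (by rintro rfl; exact t1 (Subtype.ext o1)) k k.2
        (congrArg Subtype.val (mem_centralizer_singleton_iff.1 hk)))
    (fun t ht k hk => by
      obtain ⟨u, rfl⟩ := (hT' t).1 ht
      obtain ⟨v, hv⟩ := cl24 hm hx u k hk
      exact (hT' _).2 ⟨v, Subtype.ext hv.symm⟩)
    fun k hk => hN k fun u => by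
      obtain ⟨v, hv⟩ := (hT' _).1 (hk _ ((hT' _).2 ⟨u, rfl⟩))
      exact ⟨v, (congrArg Subtype.val hv).symm⟩)
  have top : H.subgroupOf N = ⊤ := eq_top_of_card_eq _ (by rw [c, hm'.card]; rfl)
  exact hN g fun v => cl24 hm hx v g (subgroupOf_eq_top.1 top (n.conj_mem _ ((hn (v, 0)).2 rfl) g))

end H20.L43
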