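import Mathlib
import Cfsg.Agent.Lib.P3L.AbsA
import Cfsg.Agent.Lib.P3L.AbsB

/-! Groups with `3³ : S₃` or `3³ : S₄` as normaliser of `3³`: see `AbsA` and `AbsB`. -/
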