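import Mathlib

/-! Four by four matrices over the field with three elements, as a record. -/

set_option autoImplicit false

namespace H20.L43

/-- matrices -/
@[ext] structure M4 where
  (a11 a12 a13 a14 a21 a22 a23 a24 a31 a32 a33 a34 a41 a42 a43 a44 : ZMod 3)
deriving DecidableEq

namespace M4

instance : Mul M4 := ⟨fun p q =>
   ⟨p.a11 * q.a11 + p.a12 * q.a21 + p.a13 * q.a31 + p.a14 * q.a41,
    p.a11 * q.a12 + p.a12 * q.a22 + p.a13 * q.a32 + p.a14 * q.a42,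
    p.a11 * q.a13 + p.a12 * q.a23 + p.a13 * q.a33 + p.a14 * q.a43,
    p.a11 * q.a14 + p.a12 * q.a24 + p.a13 * q.a34 + p.a14 * q.a44,
    p.a21 * q.a11 + p.a22 * q.a21 + p.a23 * q.a31 + p.a24 * q.a41,
    p.a21 * q.a12 + p.a22 * q.a22 + p.a23 * q.a32 + p.a24 * q.a42,
    p.a21 * q.a13 + p.a22 * q.a23 + p.a23 * q.a33 + p.a24 * q.a43,
    p.a21 * q.a14 + p.a22 * q.a24 + p.a23 * q.a34 + p.a24 * q.a44,
    p.a31 * q.a11 + p.a32 * q.a21 + p.a33 * q.a31 + p.a34 * q.a41,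
    p.a31 * q.a12 + p.a32 * q.a22 + p.a33 * q.a32 + p.a34 * q.a42,
    p.a31 * q.a13 + p.a32 * q.a23 + p.a33 * q.a33 + p.a34 * q.a43,
    p.a31 * q.a14 + p.a32 * q.a24 + p.a33 * q.a34 + p.a34 * q.a44,
    p.a41 * q.a11 + p.a42 * q.a21 + p.a43 * q.a31 + p.a44 * q.a41,
    p.a41 * q.a12 + p.a42 * q.a22 + p.a43 * q.a32 + p.a44 * q.a42,
    p.a41 * q.a13 + p.a42 * q.a23 + p.a43 * q.a33 + p.a44 * q.a43,
    p.a41 * q.a14 + p.a42 * q.a24 + p.a43 * q.a34 + p.a44 * q.a44⟩⟩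

instance : One M4 := ⟨⟨1, 0, 0, 0, 0, 1, 0, 0, 0, 0, 1, 0, 0, 0, 0, 1⟩⟩

instance : Neg M4 := ⟨fun p =>
   ⟨-p.a11, -p.a12, -p.a13, -p.a14, -p.a21, -p.a22, -p.a23, -p.a24, -p.a31, -p.a32, -p.a33,
    -p.a34, -p.a41, -p.a42, -p.a43, -p.a44⟩⟩

@[simp] theorem mul_a11 (p q : M4) : (p * q).a11 =
    p.a11 * q.a11 + p.a12 * q.a21 + p.a13 * q.a31 + p.a14 * q.a41 := rfl
@[simp] theorem mul_a12 (p q : M4) : (p * q).a12 =
    p.a11 * q.a12 + p.a12 * q.a22 + p.a13 * q.a32 + p.a14 * q.a42 := rfl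
@[simp] theorem mul_a13 (p q : M4) : (p * q).a13 =
    p.a11 * q.a13 + p.a12 * q.a23 + p.a13 * q.a33 + p.a14 * q.a43 := rfl
@[simp] theorem mul_a14 (p q : M4) : (p * q).a14 =
    p.a11 * q.a14 + p.a12 * q.a24 + p.a13 * q.a34 + p.a14 * q.a44 := rfl
@[simp] theorem mul_a21 (p q : M4) : (p * q).a21 =
    p.a21 * q.a11 + p.a22 * q.a21 + p.a23 * q.a31 + p.a24 * q.a41 := rfl
@[simp] theorem mul_a22 (p q : M4) : (p * q).a22 =
    p.a21 * q.a12 + p.a22 * q.a22 + p.a23 * q.a32 + p.a24 * q.a42 := rfl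
@[simp] theorem mul_a23 (p q : M4) : (p * q).a23 =
    p.a21 * q.a13 + p.a22 * q.a23 + p.a23 * q.a33 + p.a24 * q.a43 := rfl
@[simp] theorem mul_a24 (p q : M4) : (p * q).a24 =
    p.a21 * q.a14 + p.a22 * q.a24 + p.a23 * q.a34 + p.a24 * q.a44 := rfl
@[simp] theorem mul_a31 (p q : M4) : (p * q).a31 =
    p.a31 * q.a11 + p.a32 * q.a21 + p.a33 * q.a31 + p.a34 * q.a41 := rfl
@[simp] theorem mul_a32 (p q : M4) : (p * q).a32 =
    p.a31 * q.a12 + p.a32 * q.a22 + p.a33 * q.a32 + p.a34 * q.a42 := rfl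
@[simp] theorem mul_a33 (p q : M4) : (p * q).a33 =
    p.a31 * q.a13 + p.a32 * q.a23 + p.a33 * q.a33 + p.a34 * q.a43 := rfl
@[simp] theorem mul_a34 (p q : M4) : (p * q).a34 =
    p.a31 * q.a14 + p.a32 * q.a24 + p.a33 * q.a34 + p.a34 * q.a44 := rfl
@[simp] theorem mul_a41 (p q : M4) : (p * q).a41 =
    p.a41 * q.a11 + p.a42 * q.a21 + p.a43 * q.a31 + p.a44 * q.a41 := rfl
@[simp] theorem mul_a42 (p q : M4) : (p * q).a42 =
    p.a41 * q.a12 + p.a42 * q.a22 + p.a43 * q.a32 + p.a44 * q.a42 := rfl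
@[simp] theorem mul_a43 (p q : M4) : (p * q).a43 =
    p.a41 * q.a13 + p.a42 * q.a23 + p.a43 * q.a33 + p.a44 * q.a43 := rfl
@[simp] theorem mul_a44 (p q : M4) : (p * q).a44 =
    p.a41 * q.a14 + p.a42 * q.a24 + p.a43 * q.a34 + p.a44 * q.a44 := rfl
@[simp] theorem neg_a11 (p : M4) : (-p).a11 = -p.a11 := rfl
@[simp] theorem neg_a12 (p : M4) : (-p).a12 = -p.a12 := rfl
@[simp] theorem neg_a13 (p : M4) : (-p).a13 = -p.a13 := rfl
@[simp] theorem neg_a14 (p : M4) : (-p).a14 = -p.a14 := rfl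
@[simp] theorem neg_a21 (p : M4) : (-p).a21 = -p.a21 := rfl
@[simp] theorem neg_a22 (p : M4) : (-p).a22 = -p.a22 := rfl
@[simp] theorem neg_a23 (p : M4) : (-p).a23 = -p.a23 := rfl
@[simp] theorem neg_a24 (p : M4) : (-p).a24 = -p.a24 := rfl
@[simp] theorem neg_a31 (p : M4) : (-p).a31 = -p.a31 := rfl
@[simp] theorem neg_a32 (p : M4) : (-p).a32 = -p.a32 := rfl
@[simp] theorem neg_a33 (p : M4) : (-p).a33 = -p.a33 := rfl
@[simp] theorem neg_a34 (p : M4) : (-p).a34 = -p.a34 := rfl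
@[simp] theorem neg_a41 (p : M4) : (-p).a41 = -p.a41 := rfl
@[simp] theorem neg_a42 (p : M4) : (-p).a42 = -p.a42 := rfl
@[simp] theorem neg_a43 (p : M4) : (-p).a43 = -p.a43 := rfl
@[simp] theorem neg_a44 (p : M4) : (-p).a44 = -p.a44 := rfl
@[simp] theorem one_a11 : (1 : M4).a11 = 1 := rfl
@[simp] theorem one_a12 : (1 : M4).a12 = 0 := rfl
@[simp] theorem one_a13 : (1 : M4).a13 = 0 := rfl
@[simp] theorem one_a14 : (1 : M4).a14 = 0 := rfl
@[simp] theorem one_a21 : (1 : M4).a21 = 0 := rfl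
@[simp] theorem one_a22 : (1 : M4).a22 = 1 := rfl
@[simp] theorem one_a23 : (1 : M4).a23 = 0 := rfl
@[simp] theorem one_a24 : (1 : M4).a24 = 0 := rfl
@[simp] theorem one_a31 : (1 : M4).a31 = 0 := rfl
@[simp] theorem one_a32 : (1 : M4).a32 = 0 := rfl
@[simp] theorem one_a33 : (1 : M4).a33 = 1 := rfl
@[simp] theorem one_a34 : (1 : M4).a34 = 0 := rfl
@[simp] theorem one_a41 : (1 : M4).a41 = 0 := rfl
@[simp] theorem one_a42 : (1 : M4).a42 = 0 := rfl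
@[simp] theorem one_a43 : (1 : M4).a43 = 0 := rfl
@[simp] theorem one_a44 : (1 : M4).a44 = 1 := rfl

instance : Monoid M4 where
  mul_assoc p q r := by ext <;> simp only [mul_a11, mul_a12, mul_a13, mul_a14, mul_a21, mul_a22, mul_a23, mul_a24, mul_a31, mul_a32, mul_a33, mul_a34, mul_a41, mul_a42, mul_a43, mul_a44] <;> ring
  one_mul p := by ext <;> simp
  mul_one p := by ext <;> simp

instance : HasDistribNeg M4 where
  neg_neg p := by ext <;> simp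
  neg_mul p q := by ext <;> simp only [mul_a11, neg_a11, mul_a12, neg_a12, mul_a13, neg_a13, mul_a14, neg_a14, mul_a21, neg_a21, mul_a22, neg_a22, mul_a23, neg_a23, mul_a24, neg_a24, mul_a31, neg_a31, mul_a32, neg_a32, mul_a33, neg_a33, mul_a34, neg_a34, mul_a41, neg_a41, mul_a42, neg_a42, mul_a43, neg_a43, mul_a44, neg_a44] <;> ring
  mul_neg p q := by ext <;> simp only [mul_a11, neg_a11, mul_a12, neg_a12, mul_a13, neg_a13, mul_a14, neg_a14, mul_a21, neg_a21, mul_a22, neg_a22, mul_a23, neg_a23, mul_a24, neg_a24, mul_a31, neg_a31, mul_a32, neg_a32, mul_a33, neg_a33, mul_a34, neg_a34, mul_a41, neg_a41, mul_a42, neg_a42, mul_a43, neg_a43, mul_a44, neg_a44] <;> ring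

/-- the determinant -/
def det (p : M4) : ZMod 3 :=
    p.a11 * p.a22 * p.a33 * p.a44 - p.a11 * p.a22 * p.a34 * p.a43 - p.a11 * p.a23 * p.a32 *
    p.a44 + p.a11 * p.a23 * p.a34 * p.a42 + p.a11 * p.a24 * p.a32 * p.a43 - p.a11 * p.a24 *
    p.a33 * p.a42 - p.a12 * p.a21 * p.a33 * p.a44 + p.a12 * p.a21 * p.a34 * p.a43 + p.a12 *
    p.a23 * p.a31 * p.a44 - p.a12 * p.a23 * p.a34 * p.a41 - p.a12 * p.a24 * p.a31 * p.a43 +
    p.a12 * p.a24 * p.a33 * p.a41 + p.a13 * p.a21 * p.a32 * p.a44 - p.a13 * p.a21 * p.a34 *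
    p.a42 - p.a13 * p.a22 * p.a31 * p.a44 + p.a13 * p.a22 * p.a34 * p.a41 + p.a13 * p.a24 *
    p.a31 * p.a42 - p.a13 * p.a24 * p.a32 * p.a41 - p.a14 * p.a21 * p.a32 * p.a43 + p.a14 *
    p.a21 * p.a33 * p.a42 + p.a14 * p.a22 * p.a31 * p.a43 - p.a14 * p.a22 * p.a33 * p.a41 -
    p.a14 * p.a23 * p.a31 * p.a42 + p.a14 * p.a23 * p.a32 * p.a41

/-- the adjugate -/
def adj (p : M4) : M4 :=
   ⟨p.a22 * p.a33 * p.a44 - p.a22 * p.a34 * p.a43 - p.a23 * p.a32 * p.a44 + p.a23 * p.a34 *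
      p.a42 + p.a24 * p.a32 * p.a43 - p.a24 * p.a33 * p.a42,
    -(p.a12 * p.a33 * p.a44 - p.a12 * p.a34 * p.a43 - p.a13 * p.a32 * p.a44 + p.a13 * p.a34 *
      p.a42 + p.a14 * p.a32 * p.a43 - p.a14 * p.a33 * p.a42),
    p.a12 * p.a23 * p.a44 - p.a12 * p.a24 * p.a43 - p.a13 * p.a22 * p.a44 + p.a13 * p.a24 *
      p.a42 + p.a14 * p.a22 * p.a43 - p.a14 * p.a23 * p.a42,
    -(p.a12 * p.a23 * p.a34 - p.a12 * p.a24 * p.a33 - p.a13 * p.a22 * p.a34 + p.a13 * p.a24 *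
      p.a32 + p.a14 * p.a22 * p.a33 - p.a14 * p.a23 * p.a32),
    -(p.a21 * p.a33 * p.a44 - p.a21 * p.a34 * p.a43 - p.a23 * p.a31 * p.a44 + p.a23 * p.a34 *
      p.a41 + p.a24 * p.a31 * p.a43 - p.a24 * p.a33 * p.a41),
    p.a11 * p.a33 * p.a44 - p.a11 * p.a34 * p.a43 - p.a13 * p.a31 * p.a44 + p.a13 * p.a34 *
      p.a41 + p.a14 * p.a31 * p.a43 - p.a14 * p.a33 * p.a41,
    -(p.a11 * p.a23 * p.a44 - p.a11 * p.a24 * p.a43 - p.a13 * p.a21 * p.a44 + p.a13 * p.a24 *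
      p.a41 + p.a14 * p.a21 * p.a43 - p.a14 * p.a23 * p.a41),
    p.a11 * p.a23 * p.a34 - p.a11 * p.a24 * p.a33 - p.a13 * p.a21 * p.a34 + p.a13 * p.a24 *
      p.a31 + p.a14 * p.a21 * p.a33 - p.a14 * p.a23 * p.a31,
    p.a21 * p.a32 * p.a44 - p.a21 * p.a34 * p.a42 - p.a22 * p.a31 * p.a44 + p.a22 * p.a34 *
      p.a41 + p.a24 * p.a31 * p.a42 - p.a24 * p.a32 * p.a41,
    -(p.a11 * p.a32 * p.a44 - p.a11 * p.a34 * p.a42 - p.a12 * p.a31 * p.a44 + p.a12 * p.a34 *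
      p.a41 + p.a14 * p.a31 * p.a42 - p.a14 * p.a32 * p.a41),
    p.a11 * p.a22 * p.a44 - p.a11 * p.a24 * p.a42 - p.a12 * p.a21 * p.a44 + p.a12 * p.a24 *
      p.a41 + p.a14 * p.a21 * p.a42 - p.a14 * p.a22 * p.a41,
    -(p.a11 * p.a22 * p.a34 - p.a11 * p.a24 * p.a32 - p.a12 * p.a21 * p.a34 + p.a12 * p.a24 *
      p.a31 + p.a14 * p.a21 * p.a32 - p.a14 * p.a22 * p.a31),
    -(p.a21 * p.a32 * p.a43 - p.a21 * p.a33 * p.a42 - p.a22 * p.a31 * p.a43 + p.a22 * p.a33 *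
      p.a41 + p.a23 * p.a31 * p.a42 - p.a23 * p.a32 * p.a41),
    p.a11 * p.a32 * p.a43 - p.a11 * p.a33 * p.a42 - p.a12 * p.a31 * p.a43 + p.a12 * p.a33 *
      p.a41 + p.a13 * p.a31 * p.a42 - p.a13 * p.a32 * p.a41,
    -(p.a11 * p.a22 * p.a43 - p.a11 * p.a23 * p.a42 - p.a12 * p.a21 * p.a43 + p.a12 * p.a23 *
      p.a41 + p.a13 * p.a21 * p.a42 - p.a13 * p.a22 * p.a41),
    p.a11 * p.a22 * p.a33 - p.a11 * p.a23 * p.a32 - p.a12 * p.a21 * p.a33 + p.a12 * p.a23 *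
      p.a31 + p.a13 * p.a21 * p.a32 - p.a13 * p.a22 * p.a31⟩

/-- the matrix -/
def toM (p : M4) : Matrix (Fin 4) (Fin 4) (ZMod 3) :=
  !![p.a11, p.a12, p.a13, p.a14; p.a21, p.a22, p.a23, p.a24; p.a31, p.a32, p.a33, p.a34;
    p.a41, p.a42, p.a43, p.a44]

/-- the record -/
def ofM (A : Matrix (Fin 4) (Fin 4) (ZMod 3)) : M4 :=
  ⟨A 0 0, A 0 1, A 0 2, A 0 3, A 1 0, A 1 1, A 1 2, A 1 3, A 2 0, A 2 1, A 2 2, A 2 3, A 3 0, A
    3 1, A 3 2, A 3 3⟩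

theorem force_eq_M4 : True := by
  have := @det.eq_1
  have := @adj.eq_1
  have := @toM.eq_1
  have := @ofM.eq_1
  trivial

theorem ofM_toM (p : M4) : ofM p.toM = p := rfl

theorem toM_ofM (A : Matrix (Fin 4) (Fin 4) (ZMod 3)) : (ofM A).toM = A := by
  ext i j; fin_cases i <;> fin_cases j <;> rfl

theorem toM_inj {p q : M4} (h : p.toM = q.toM) : p = q := by rw [← ofM_toM p, h, ofM_toM]

theorem toM_mul (p q : M4) : (p * q).toM = p.toM * q.toM := by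
  ext i j; fin_cases i <;> fin_cases j <;> simp [toM, Matrix.mul_apply, Fin.sum_univ_four]

theorem toM_one : (1 : M4).toM = 1 := by decide

theorem toM_neg (p : M4) : (-p).toM = -p.toM := by
  ext i j; fin_cases i <;> fin_cases j <;> rfl

theorem det_toM (p : M4) : p.toM.det = p.det := by
  simp [toM, det, Matrix.det_succ_row_zero, Fin.sum_univ_succ, Fin.succAbove]
  ring

theorem det_mul (p q : M4) : (p * q).det = p.det * q.det := by
  rw [← det_toM, toM_mul, Matrix.det_mul, det_toM, det_toM]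

theorem det_one : (1 : M4).det = 1 := by decide

theorem det_neg (p : M4) : (-p).det = p.det := by simp only [det, neg_a11, neg_a12, neg_a13, neg_a14, neg_a21, neg_a22, neg_a23, neg_a24, neg_a31, neg_a32, neg_a33, neg_a34, neg_a41, neg_a42, neg_a43, neg_a44]; ring

theorem adj_mul {p : M4} (h : p.det = 1) : p.adj * p = 1 := by
  unfold det at h
  ext <;> simp only [adj, mul_a11, one_a11, mul_a12, one_a12, mul_a13, one_a13, mul_a14, one_a14, mul_a21, one_a21, mul_a22, one_a22, mul_a23, one_a23, mul_a24, one_a24, mul_a31, one_a31, mul_a32, one_a32, mul_a33, one_a33, mul_a34, one_a34, mul_a41, one_a41, mul_a42, one_a42, mul_a43, one_a43, mul_a44, one_a44]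
  all_goals first | ring1 | linear_combination h

theorem mul_adj {p : M4} (h : p.det = 1) : p * p.adj = 1 := by
  unfold det at h
  ext <;> simp only [adj, mul_a11, one_a11, mul_a12, one_a12, mul_a13, one_a13, mul_a14, one_a14, mul_a21, one_a21, mul_a22, one_a22, mul_a23, one_a23, mul_a24, one_a24, mul_a31, one_a31, mul_a32, one_a32, mul_a33, one_a33, mul_a34, one_a34, mul_a41, one_a41, mul_a42, one_a42, mul_a43, one_a43, mul_a44, one_a44]
  all_goals first | ring1 | linear_combination h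

theorem det_adj {p : M4} (h : p.det = 1) : p.adj.det = 1 := by
  have := det_mul p.adj p
  rwa [adj_mul h, h, mul_one, det_one, eq_comm] at this

end M4

end H20.L43
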