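import Cfsg.Agent.Lib.P3L.PC2a

/-! The centraliser of the involution `t`. -/

set_option autoImplicit false
set_option linter.style.haveILetI false
set_option linter.unusedSectionVars false

namespace H92.L43

open Cfsg Subgroup H20.L43 H20.L43.M4 H53.Odd H53.Odd.H36

variable {G : Type*} [Group G] [Finite G] {d : Prop} {f : M4 → G}

theorem sylT {R : Subgroup G} (hR : IsPGroup 3 R)
    (h : ∀ g, (∀ x ∈ R, g * x * g⁻¹ ∈ R) → g ^ 3 ∈ R → g ∈ R) : ∃ S : Sylow 3 G, (S : Subgroup G) = R := by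
  obtain ⟨S0, hS0⟩ := hR.exists_le_sylow
  obtain ⟨S, hS⟩ := syl (N := S0) hR (fun g _ => h g) hS0
  refine ⟨S0, le_antisymm (fun g hg => ?_) hS0⟩
  have : (S : Subgroup S0) = ⊤ := top_le_iff.1 (S.3 (S0.isPGroup'.to_subgroup ⊤) le_top).le
  rw [this] at hS
  exact (hS.le (mem_top (⟨g, hg⟩ : S0)) :)

theorem up {t a b : G} (t2 : t * t = 1) (ha : a ∈ Ce t) (hb : b ∈ Ce t) (a3 : a ^ 3 = 1) (b3 : b ^ 3 = 1)
    (e : pr t a = pr t b) : a = b := by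
  obtain ⟨i, hi⟩ := (pr_eq_iff ha hb).1 e
  have hi' : b = a * t ^ i := by rw [show t ^ i = a⁻¹ * b from hi, mul_inv_cancel_left]
  have c : Commute a (t ^ i) := (show Commute a t from mem_Ce.1 ha).zpow_right i
  rw [hi', c.mul_pow, a3, one_mul, pow_succ, sq, ← (Commute.refl t).mul_zpow, t2, one_zpow, one_mul] at b3
  rw [hi', b3, mul_one]

theorem loc_conj {H O : Subgroup G} {u k : G} (l : Loc H u O) (hk : k ∈ H) :
    Loc H (k * u * k⁻¹) (O.comap (MulAut.conj k⁻¹).toMonoidHom) := by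
  have m : ∀ {o}, o ∈ O.comap (MulAut.conj k⁻¹).toMonoidHom ↔ k⁻¹ * o * k ∈ O := by simp
  have c : ∀ {x}, x * (k * u * k⁻¹) = k * u * k⁻¹ * x ↔ k⁻¹ * x * k * u = u * (k⁻¹ * x * k) := fun {x} => by
    rw [← mul_left_inj k, ← mul_right_inj k⁻¹]; simp [mul_assoc]
  refine ⟨fun o ho => ?_, fun o ho => c.2 (l.cent _ (m.1 ho)), fun x hx o ho => m.2 ?_, fun x hx => ?_⟩
  · have := l.four _ (m.1 ho)
    rwa [show k⁻¹ * o * k = k⁻¹ * o * k⁻¹⁻¹ by rw [inv_inv], conj_pow, conj_eq_one_iff] at this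
  · simpa [mul_assoc] using l.norm _ (c.1 hx) _ (m.1 ho)
  · obtain ⟨a, ha, e⟩ := l.dec _ (c.1 hx)
    exact ⟨k * a * k⁻¹, mul_mem (mul_mem hk ha) (inv_mem hk), m.2 (by simpa [mul_assoc] using e)⟩

/-- the hypotheses -/
structure Hy (d : Prop) (f : M4 → G) : Prop extends Md d d f where
  fJ : ∀ g b c x e, g * f zz * g⁻¹ = f (uu 0 b c x e 0) → g ∈ toMd.toHm.H
  cQ : ∀ a b c e k, uu a b c 0 e k ≠ 1 → ∀ g, g * f (uu a b c 0 e k) = f (uu a b c 0 e k) * g →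
    g ∈ toMd.toHm.H

/-- the image of `E` -/
noncomputable def eb (f : M4 → G) (u : V9) : Ga (f tt) := pr (f tt) (f (e9 u))

/-- the image of the four-group -/
noncomputable def sb (f : M4 → G) (i : W4) : Ga (f tt) := pr (f tt) (f (sw i))

theorem eqns_PC2b : True := by
  have := @eb.eq_1.{0}
  have := @sb.eq_1.{0}
  trivial

namespace Hy

theorem t2 (h : Hy d f) : f tt * f tt = 1 :=
  (h.mul' pb_tt.dm pb_tt.dm (by decide)).trans h.one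

theorem mC (h : Hy d f) {m : M4} (hm : Dm d m) (e : m * tt = tt * m ∨ m * tt = -(tt * m)) :
    f m ∈ Ce (f tt) := mem_Ce.2 (by
  rw [← h.mul _ _ hm pb_tt.dm, ← h.mul _ _ pb_tt.dm hm]
  exact (h.eq_iff (hm.mul pb_tt.dm) (pb_tt.dm.mul hm)).2 e)

theorem mC' (h : Hy d f) {m : M4} (hm : Dm d m) (e : f m ∈ Ce (f tt)) :
    m * tt = tt * m ∨ m * tt = -(tt * m) :=
  h.cj_or hm pb_tt.dm pb_tt.dm (mul_inv_eq_iff_eq_mul.2 (mem_Ce.1 e))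

theorem eC (h : Hy d f) (u : V9) : f (e9 u) ∈ Ce (f tt) := h.mC (pb_e9 u).dm (Or.inl (e9_tt u))

theorem sC (h : Hy d f) {i : W4} (hi : d ∨ i.1 = i.2) : f (sw i) ∈ Ce (f tt) :=
  h.mC (dm_sw hi) ((by decide +kernel : ∀ i : W4, sw i * tt = tt * sw i ∨ sw i * tt = -(tt * sw i)) i)

theorem e3 (h : Hy d f) (u : V9) : f (e9 u) ^ 3 = 1 := by
  rw [(h.pow (pb_e9 u).dm 3).2, e9_cube, h.one]

theorem ah (h : Hy d f) : AH (eb f) := fun u v => by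
  rw [eb, eb, eb, ← pr_mul (h.eC u) (h.eC v), h.mul' (pb_e9 u).dm (pb_e9 v).dm (e9_add u v)]

theorem eb3 (h : Hy d f) (u : V9) : eb f u ^ 3 = 1 := by rw [eb, ← pr_pow (h.eC u), h.e3, pr_one]

theorem inj (h : Hy d f) : Function.Injective (eb f) := fun u v e => by
  have := h.uu_inj (up h.t2 (h.eC u) (h.eC v) (h.e3 u) (h.e3 v) e)
  exact e9_inj this.2.2.1 this.2.2.2.1

theorem sb_add (h : Hy d f) {i j : W4} (hi : d ∨ i.1 = i.2) (hj : d ∨ j.1 = j.2) :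
    sb f (i + j) = sb f i * sb f j := by
  rw [sb, sb, sb, ← pr_mul (h.sC hi) (h.sC hj), h.mul' (dm_sw hi) (dm_sw hj)
    ((by decide +kernel : ∀ i j : W4, sw i * sw j = sw (i + j)) i j)]

theorem sb_zero (h : Hy d f) : sb f 0 = 1 := by
  rw [sb, show sw 0 = 1 by decide, h.one, pr_one]

theorem sb_conj (h : Hy d f) {i : W4} (hi : d ∨ i.1 = i.2) (u : V9) :
    sb f i * eb f u * (sb f i)⁻¹ = eb f (act i u) := by
  rw [sb, eb, eb, pr_conj (h.sC hi) (h.eC u), h.cj (dm_sw hi) (pb_e9 u).dm (pb_e9 _).dm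
    ((by decide +kernel : ∀ (i : W4) (u : V9), sw i * e9 u = e9 (act i u) * sw i) i u)]

theorem lift (h : Hy d f) {g : G} (hg : g ∈ Ce (f tt)) {u v : V9}
    (e : pr (f tt) g * eb f u * (pr (f tt) g)⁻¹ = eb f v) : g * f (e9 u) * g⁻¹ = f (e9 v) := by
  rw [eb, eb, pr_conj hg (h.eC u)] at e
  exact up h.t2 (mul_mem (mul_mem hg (h.eC u)) (inv_mem hg)) (h.eC v) (by rw [conj_pow, h.e3]; simp)
    (h.e3 v) e

theorem cE (h : Hy d f) {u : V9} (hu : u ≠ 0) {g : G} (e : g * f (e9 u) * g⁻¹ = f (e9 u)) :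
    g ∈ h.toHm.H := by
  have c : ∀ u : V9, n3 * e9 u = uu 0 (u.1 + u.2) 0 0 (u.2 - u.1) 0 * n3 ∧
      (u ≠ 0 → uu 0 (u.1 + u.2) 0 0 (u.2 - u.1) 0 ≠ 1) := by decide +kernel
  have p3 : Pb n3 := by decide
  have e1 := h.cj p3.dm (pb_e9 u).dm (pb_uu ..).dm (c u).1
  have := h.cQ _ _ _ _ _ ((c u).2 hu) (f n3 * g * (f n3)⁻¹) (by
    rw [← e1, conj_mul, conj_mul, mul_inv_eq_iff_eq_mul.1 e])
  simpa [mul_assoc] using mul_mem (mul_mem (inv_mem (h.mH p3.dm)) this) (h.mH p3.dm)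

theorem pr_blk (h : Hy d f) {m : M4} (h1 : m.det = 1) (h2 : m * tt = tt * m) (h3 : m.a41 = 0)
    (h4 : m.a32 = 0) : ∃ u, ∃ i : W4, i.1 = i.2 ∧ Dm d m ∧ pr (f tt) (f m) = eb f u * sb f i := by
  obtain ⟨u, i, hi, n, hn, rfl⟩ := blk h1 h2 h3 h4
  have a : Dm d (e9 u * sw i) := (pb_e9 u).dm.mul (dm_sw (Or.inr hi))
  have b : f (e9 u * sw i) ∈ Ce (f tt) := by
    rw [h.mul _ _ (pb_e9 u).dm (dm_sw (Or.inr hi))]; exact mul_mem (h.eC u) (h.sC (Or.inr hi))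
  have c : Dm d n ∧ f n ∈ zpowers (f tt) := by
    simp only [List.mem_cons, List.not_mem_nil, or_false] at hn
    rcases hn with rfl | rfl | rfl | rfl
    · exact ⟨pb_one.dm, h.one ▸ one_mem _⟩
    · exact ⟨pb_one.dm.neg, by rw [h.neg pb_one.dm, h.one]; exact one_mem _⟩
    · exact ⟨pb_tt.dm, mem_zpowers _⟩
    · exact ⟨pb_tt.dm.neg, by rw [h.neg pb_tt.dm]; exact mem_zpowers _⟩
  have c' : f n ∈ Ce (f tt) := zpowers_le.2 (mem_Ce.2 rfl) c.2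
  refine ⟨u, i, hi, a.mul c.1, ?_⟩
  rw [h.mul _ _ a c.1, pr_mul b c', (pr_eq_one c').2 c.2, mul_one,
    h.mul _ _ (pb_e9 u).dm (dm_sw (Or.inr hi)), pr_mul (h.eC u) (h.sC (Or.inr hi)), eb, sb]

theorem key (h : Hy d f) {g : G} (hH : g ∈ h.toHm.H) (hg : g ∈ Ce (f tt)) {u v u' v' : V9}
    (h1 : u.1 + u.2 ≠ 0) (e1 : g * f (e9 u) * g⁻¹ = f (e9 v)) (h2 : u'.1 - u'.2 ≠ 0)
    (e2 : g * f (e9 u') * g⁻¹ = f (e9 v')) :
    ∃ u, ∃ i : W4, (d ∨ i.1 = i.2) ∧ pr (f tt) g = eb f u * sb f i := by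
  obtain ⟨m, hm, rfl⟩ := hH
  have k1 := h.cj_of hm (pb_e9 u).dm (pb_e9 v).dm (e9_pow9 u) (e9_pow9 v) e1
  have k2 := h.cj_of hm (pb_e9 u').dm (pb_e9 v').dm (e9_pow9 u') (e9_pow9 v') e2
  rcases h.mC' hm hg with e | e
  · obtain ⟨a, i, hi, -, b⟩ := h.pr_blk hm.1 e ((low k1).1 h1) ((low k2).2 h2)
    exact ⟨a, i, Or.inr hi, b⟩
  · have hd : d := by_contra fun hd => plus (hm.pb hd) e
    have w : Dm d (sw (0, 1)) := dm_sw (Or.inl hd)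
    obtain ⟨a, i, hi, -, b⟩ := h.pr_blk (hm.mul w).1 (by
      rw [mul_assoc, show sw (0, 1) * tt = -(tt * sw (0, 1)) by decide, mul_neg, ← mul_assoc, e]; simp [mul_assoc])
      (by simpa [sw, ww] using (low' k2).2 h2) (by simpa [sw, ww] using (low' k1).1 h1)
    rw [h.mul _ _ hm w, pr_mul hg (h.sC (Or.inl hd)), ← eq_mul_inv_iff_mul_eq] at b
    refine ⟨a, i + (0, 1), Or.inl hd, ?_⟩
    rw [b, h.sb_add (Or.inl hd) (Or.inl hd), mul_assoc, mul_right_inj, mul_right_inj, inv_eq_iff_mul_eq_one]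
    exact (h.sb_add (Or.inl hd) (Or.inl hd)).symm.trans h.sb_zero

theorem exists_E (h : Hy d f) : ∃ E : Subgroup (Ga (f tt)), ∀ γ, γ ∈ E ↔ ∃ u, eb f u = γ :=
  ⟨h.ah.hom.range, fun _ => ⟨fun ⟨u, e⟩ => ⟨u.toAdd, e⟩, fun ⟨u, e⟩ => ⟨Multiplicative.ofAdd u, e⟩⟩⟩

variable {E : Subgroup (Ga (f tt))}

theorem nE (h : Hy d f) (hE : ∀ γ, γ ∈ E ↔ ∃ u, eb f u = γ) {γ : Ga (f tt)}
    (hn : ∀ x ∈ E, γ * x * γ⁻¹ ∈ E) : ∃ u, ∃ i : W4, (d ∨ i.1 = i.2) ∧ γ = eb f u * sb f i := by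
  obtain ⟨g, hg, rfl⟩ := pr_surj γ
  obtain ⟨v, e1⟩ := (hE _).1 (hn _ ((hE _).2 ⟨(-1, -1), rfl⟩))
  obtain ⟨v', e2⟩ := (hE _).1 (hn _ ((hE _).2 ⟨(-1, 1), rfl⟩))
  have k := h.lift hg e1.symm
  exact h.key (h.fJ g 0 _ _ 0 (e9_zz ▸ k)) hg (by decide) k (by decide) (h.lift hg e2.symm)

theorem E3 (h : Hy d f) (hE : ∀ γ, γ ∈ E ↔ ∃ u, eb f u = γ) : ∀ x ∈ E, x ^ 3 = 1 := fun x hx => by
  obtain ⟨u, rfl⟩ := (hE x).1 hx
  exact h.eb3 u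

theorem Ec (h : Hy d f) (hE : ∀ γ, γ ∈ E ↔ ∃ u, eb f u = γ) : ∀ x ∈ E, ∀ y ∈ E, x * y = y * x :=
  fun x hx y hy => by
    obtain ⟨u, rfl⟩ := (hE x).1 hx
    obtain ⟨v, rfl⟩ := (hE y).1 hy
    rw [← h.ah, ← h.ah, add_comm]

theorem sylE (h : Hy d f) (hE : ∀ γ, γ ∈ E ↔ ∃ u, eb f u = γ) (γ : Ga (f tt))
    (hn : ∀ x ∈ E, γ * x * γ⁻¹ ∈ E) (h3 : γ ^ 3 ∈ E) : γ ∈ E := by
  obtain ⟨u, i, hi, e⟩ := h.nE hE hn
  have : γ ^ 2 ∈ E := (hE _).2 ⟨u + act i u, by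
    rw [h.ah, ← h.sb_conj hi, sq, e, inv_eq_of_mul_eq_one_right ((h.sb_add hi hi).symm.trans
      (by rw [(by decide : ∀ i : W4, i + i = 0) i, h.sb_zero]))]
    simp only [mul_assoc]⟩
  simpa [pow_succ, mul_assoc] using mul_mem (inv_mem this) h3

theorem norm_of (h : Hy d f) (hE : ∀ γ, γ ∈ E ↔ ∃ u, eb f u = γ) (u : V9) {i : W4} (hi : d ∨ i.1 = i.2) :
    eb f u * sb f i ∈ normalizer (E : Set (Ga (f tt))) :=
  mul_mem (le_normalizer ((hE _).2 ⟨u, rfl⟩)) (mem_norm fun x hx => by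
    obtain ⟨v, rfl⟩ := (hE x).1 hx
    exact (hE _).2 ⟨_, (h.sb_conj hi v).symm⟩)

theorem ne10 (h : Hy d f) : eb f (1, 0) ≠ 1 ∧ eb f (0, 1) ∉ zpowers (eb f (1, 0)) := by
  rw [mem_zpowers_three (h.eb3 _), ← h.ah.neg, ← h.ah.zero, Ne, h.inj.eq_iff, h.inj.eq_iff, h.inj.eq_iff,
    h.inj.eq_iff]
  decide

theorem X_le (h : Hy d f) (hE : ∀ γ, γ ∈ E ↔ ∃ u, eb f u = γ) {X : Subgroup (Ga (f tt))} [X.Normal]
    (hX : (Nat.card X).Coprime 3) : X ≤ im (f tt) h.toHm.H := by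
  refine H2.le_of_forall_centralizer_le (A := E) ⟨⟨fun x y => Subtype.ext (h.Ec hE _ x.2 _ y.2)⟩⟩
    (fun hc => ?_) (by rw [normalizer_eq_top]; exact le_top) ?_ fun a ha a1 γ hγ => ?_
  · obtain ⟨⟨c, hc⟩, k⟩ := hc.exists_generator
    have m : ∀ u, eb f u ∈ zpowers c := fun u => by
      obtain ⟨i, e⟩ := k ⟨_, (hE _).2 ⟨u, rfl⟩⟩
      exact ⟨i, congrArg Subtype.val e⟩
    rcases (mem_zpowers_three (h.E3 hE c hc)).1 (m (1, 0)) with e | e | e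
    · exact h.ne10.1 e
    · exact h.ne10.2 (e ▸ m _)
    · exact h.ne10.2 (by rw [e, zpowers_inv]; exact m _)
  · obtain ⟨n, e⟩ := (pg3 (n := 1) (h.E3 hE)).exists_card_eq
    rw [e]; exact hX.symm.pow_left n
  · obtain ⟨u, rfl⟩ := (hE a).1 ha
    obtain ⟨g, hg, rfl⟩ := pr_surj γ
    exact mem_im.2 ⟨g, h.cE (by rintro rfl; exact a1 h.ah.zero)
      (h.lift hg (mul_inv_eq_iff_eq_mul.2 (mem_centralizer_singleton_iff.1 hγ.2))), hg, rfl⟩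

theorem N_le (h : Hy d f) (hE : ∀ γ, γ ∈ E ↔ ∃ u, eb f u = γ) :
    normalizer (E : Set (Ga (f tt))) ≤ im (f tt) h.toHm.H := fun γ hγ => by
  obtain ⟨u, i, hi, rfl⟩ := h.nE hE fun _ => conj_mem hγ
  exact mul_mem (mem_im.2 ⟨_, h.mH (pb_e9 u).dm, h.eC u, rfl⟩) (mem_im.2 ⟨_, h.mH (dm_sw hi), h.sC hi, rfl⟩)

theorem loc_z (h : Hy d f) (hE : ∀ γ, γ ∈ E ↔ ∃ u, eb f u = γ) :
    ∃ O, Loc (normalizer (E : Set (Ga (f tt)))) (eb f (-1, -1)) O := by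
  obtain ⟨K, hK⟩ := h.exists_sub (fun m => ∃ p q r s, Q8 p q r s ∧ m = bz 0 p q r s)
    ⟨1, 0, 0, 1, by decide, rfl⟩ (by
      rintro _ _ ⟨p, q, r, s, a, rfl⟩ ⟨p', q', r', s', b, rfl⟩
      exact ⟨_, _, _, _, q8_mul _ _ _ _ a _ _ _ _ b, by rw [bz_mul, add_zero]⟩)
    (by rintro _ ⟨p, q, r, s, a, rfl⟩; exact (pb_bz 0 a.1).dm)
  have bC : ∀ c {p q r s : ZMod 3}, p * s - q * r = 1 → f (bz c p q r s) ∈ Ce (f tt) := fun c p q r s a =>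
    h.mC (pb_bz c a).dm (Or.inl (by ext <;> simp [bz, tt, dg]))
  have mO : ∀ {p q r s}, Q8 p q r s → pr (f tt) (f (bz 0 p q r s)) ∈ im (f tt) K := fun a =>
    mem_im.2 ⟨_, (hK _).2 ⟨_, ⟨_, _, _, _, a, rfl⟩, rfl⟩, bC 0 a.1, rfl⟩
  have mO' : ∀ {o}, o ∈ im (f tt) K → ∃ p q r s, Q8 p q r s ∧ pr (f tt) (f (bz 0 p q r s)) = o := fun a => by
    obtain ⟨g, a1, -, e⟩ := mem_im.1 a
    obtain ⟨_, ⟨p, q, r, s, a2, rfl⟩, rfl⟩ := (hK g).1 a1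
    exact ⟨p, q, r, s, a2, e⟩
  have cz : ∀ γ, γ * eb f (-1, -1) = eb f (-1, -1) * γ →
      ∃ c p q r s, p * s - q * r = 1 ∧ pr (f tt) (f (bz c p q r s)) = γ := fun γ e => by
    obtain ⟨g, hg, rfl⟩ := pr_surj γ
    have k := h.lift hg (mul_inv_eq_iff_eq_mul.2 e)
    rw [e9_zz] at k
    obtain ⟨m, hm, rfl⟩ := h.nz g (by rw [k]; exact mem_zpowers _)
    obtain ⟨c, p, q, r, s, a, rfl | rfl⟩ := blkz hm ((h.mC' hm.dm hg).resolve_right (plus hm))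
      (h.cj_of hm.dm (pb_uu ..).dm (pb_uu ..).dm (uu9 ..) (uu9 ..) k)
    · exact ⟨c, p, q, r, s, a, rfl⟩
    · exact ⟨c, p, q, r, s, a, by rw [h.neg (pb_bz c a).dm]⟩
  refine ⟨im (f tt) K, fun o ho => ?_, fun o ho => ?_, fun γ hγ o ho => ?_, fun γ hγ => ?_⟩
  · obtain ⟨p, q, r, s, a, rfl⟩ := mO' ho
    rw [← pr_pow (bC 0 a.1), (h.pow (pb_bz 0 a.1).dm 4).2, q8_four _ _ _ _ a, h.one, pr_one]
  · obtain ⟨p, q, r, s, a, rfl⟩ := mO' ho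
    rw [eb, ← pr_mul (bC 0 a.1) (h.eC _), ← pr_mul (h.eC _) (bC 0 a.1), h.comm (pb_bz 0 a.1).dm (pb_e9 _).dm
      (by rw [e9_zz]; ext <;> simp [bz, zz, uu])]
  · obtain ⟨p, q, r, s, a, rfl⟩ := mO' ho
    obtain ⟨c, p', q', r', s', b, rfl⟩ := cz γ hγ
    obtain ⟨x, y, z, w, k, e⟩ := q8_conj c b a
    rw [pr_conj (bC c b) (bC 0 a.1), h.cj (pb_bz c b).dm (pb_bz 0 a.1).dm (pb_bz 0 k.1).dm e]
    exact mO k
  · obtain ⟨c, p, q, r, s, b, rfl⟩ := cz γ hγ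
    obtain ⟨u, x, y, z, w, k, e⟩ := q8_dec c b
    refine ⟨_, inv_mem (le_normalizer ((hE _).2 ⟨u, rfl⟩)), ?_⟩
    rw [inv_inv, eb, ← pr_mul (bC c b) (h.eC _), h.mul' (pb_bz c b).dm (pb_e9 _).dm e]
    exact mO k

theorem cent (h : Hy d f) {g : G} (hg : g * f tt = f tt * g) : g ∈ h.toHm.H := by
  obtain ⟨E, hE⟩ := h.exists_E
  rw [← pr_mem_im (h.mH pb_tt.dm) (mem_Ce.2 hg)]
  generalize pr (f tt) g = γ
  by_cases hd : d
  · obtain ⟨P, hP⟩ := sylT (pg3 (n := 1) (h.E3 hE)) (h.sylE hE)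
    have hw : ∀ u : V9, u.1 + u.2 ≠ 0 → u.1 - u.2 ≠ 0 → ∀ c, c * eb f u = eb f u * c →
        c ∈ normalizer (E : Set (Ga (f tt))) := fun u h1 h2 c e => by
      obtain ⟨g, hg, rfl⟩ := pr_surj c
      have k := h.lift hg (mul_inv_eq_iff_eq_mul.2 e)
      obtain ⟨v, i, hi, a⟩ := h.key (h.cE (by rintro rfl; exact h1 rfl) k) hg h1 k h2 k
      exact a ▸ h.norm_of hE v hi
    have T : T9 P (normalizer (E : Set (Ga (f tt)))) fun p => eb f p.1 * sb f p.2 := by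
      refine ⟨mdl_sd h.ah h.inj (fun _ _ => h.sb_add (Or.inl hd) (Or.inl hd))
        (fun _ => h.sb_conj (Or.inl hd)) (by decide +kernel) fun γ => ⟨fun a => ?_, ?_⟩,
        by simpa [hP, h.sb_zero] using hE, by rw [hP], fun u hu => ?_, ?_⟩
      · obtain ⟨u, i, -, e⟩ := h.nE hE fun _ => conj_mem a
        exact ⟨u, i, e.symm⟩
      · rintro ⟨u, i, rfl⟩
        exact h.norm_of hE u (Or.inl hd)
      · simp only [h.sb_zero, mul_one]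
        rcases (by decide : ∀ u : V9, u ≠ 0 → (u.1 + u.2 ≠ 0 ∧ u.1 - u.2 ≠ 0) ∨ ∃ i, u = act i (-1, -1))
          u hu with a | ⟨i, rfl⟩
        · exact ⟨⊥, Loc.bot (hw u a.1 a.2)⟩
        · obtain ⟨O, l⟩ := h.loc_z hE
          have := h.norm_of hE 0 (i := i) (Or.inl hd)
          rw [h.ah.zero, one_mul] at this
          exact ⟨_, h.sb_conj (Or.inl hd) _ ▸ loc_conj l this⟩
      · simp only [h.sb_zero, mul_one]
        exact hw _ (by decide) (by decide)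
    obtain ⟨X, _, h1, h2⟩ := T.main
    obtain ⟨x, hx, e⟩ := h2 γ
    simpa using mul_mem (inv_mem (h.X_le hE h1 hx)) (h.N_le hE e)
  · have r : d ∨ ((1, 1) : W4).1 = ((1, 1) : W4).2 := Or.inr rfl
    have r2 : sb f (1, 1) * sb f (1, 1) = 1 := (h.sb_add r r).symm.trans h.sb_zero
    have ri : ∀ x ∈ E, sb f (1, 1) * x * (sb f (1, 1))⁻¹ = x⁻¹ := fun x hx => by
      obtain ⟨u, rfl⟩ := (hE x).1 hx
      rw [h.sb_conj r, ← h.ah.neg, (by decide : ∀ u : V9, act (1, 1) u = -u) u]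
    obtain ⟨u, hu, e⟩ := st (N := ⊤) (h.E3 hE) le_top (h.Ec hE) ((hE _).2 ⟨_, rfl⟩) ((hE _).2 ⟨_, rfl⟩)
      h.ne10.1 h.ne10.2 (mem_top _) r2 ri (fun γ _ hn => by
        obtain ⟨u, i, hi, rfl⟩ := h.nE hE hn
        rcases (by decide : ∀ i : W4, i.1 = i.2 → i = 0 ∨ i = (1, 1)) i (hi.resolve_left hd) with rfl | rfl
        · exact Or.inl ((hE _).2 ⟨u, by rw [h.sb_zero, mul_one]⟩)
        · have := ri _ ((hE _).2 ⟨u, rfl⟩)
          rw [inv_eq_of_mul_eq_one_right r2, mul_assoc] at this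
          exact Or.inr (this ▸ inv_mem ((hE _).2 ⟨u, rfl⟩))) (mem_top γ)
    haveI : (O3' (⊤ : Subgroup (Ga (f tt)))).Normal := ⟨fun x hx g => O3'_norm (fun _ _ => mem_top _) hx⟩
    have k := h.X_le hE (O3'_cop ⊤) hu
    have m := h.norm_of hE 0 r
    rw [h.ah.zero, one_mul] at m
    rcases e with e | e
    · simpa using mul_mem k (h.N_le hE (le_normalizer e))
    · simpa using mul_mem k (h.N_le hE (mul_mem (inv_mem m) (le_normalizer e)))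

theorem not_conj (h : Hy True f) : ¬IsConj (f tt) (f uI) := by
  rw [isConj_iff]
  rintro ⟨g, hg⟩
  obtain ⟨E, hE⟩ := h.exists_E
  let F : V9 → G := fun u => g⁻¹ * f (uu 0 u.1 u.2 (-u.2) u.1 0) * g
  have hF : AH F := fun u v => by
    simp only [F]
    rw [show ∀ a b : G, g⁻¹ * a * g * (g⁻¹ * b * g) = g⁻¹ * (a * b) * g from fun a b => by group, h.uu_mul]
    simp [add_comm]
  have FC : ∀ u, F u ∈ Ce (f tt) := fun u => mem_Ce.2 (by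
    have := h.comm (a := uu 0 u.1 u.2 (-u.2) u.1 0) (b := uI) (pb_uu ..).dm (dm_true.2 (by decide))
      (by ext <;> simp [uu, uI, n1, n3])
    rw [← hg] at this
    calc F u * f tt = g⁻¹ * (f (uu 0 u.1 u.2 (-u.2) u.1 0) * (g * f tt * g⁻¹)) * g := by simp only [F]; group
      _ = _ := by rw [this]; simp only [F]; group)
  have F3 : ∀ u, F u ^ 3 = 1 := fun u => by
    rw [← hF.nsmul, (by decide : ∀ u : V9, 3 • u = 0) u, hF.zero]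
  have hF' : AH fun u => pr (f tt) (F u) := fun u v => by simp only [hF u v, pr_mul (FC u) (FC v)]
  obtain ⟨κ, -, e⟩ := conj_into (N := ⊤) (T := hF'.hom.range) (pg3 (n := 1) (h.E3 hE))
    (fun γ _ => h.sylE hE γ) le_top (pg3 (n := 1) (by
      rintro _ ⟨u, rfl⟩
      exact (pr_pow (FC _) _).symm.trans (by rw [pow_one, F3, pr_one]))) le_top
  obtain ⟨k, hk, rfl⟩ := pr_surj κ
  have e' : ∀ u, ∃ v, eb f v = pr (f tt) k * pr (f tt) (F u) * (pr (f tt) k)⁻¹ := fun u =>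
    (hE _).1 (e _ ⟨Multiplicative.ofAdd u, rfl⟩)
  choose ψ hψ using e'
  have hi : Function.Injective ψ := fun u v a => by
    have := up h.t2 (FC u) (FC v) (F3 u) (F3 v) (by simpa [hψ] using congrArg (eb f) a)
    have := h.uu_inj (mul_left_cancel (mul_right_cancel this))
    exact Prod.ext this.2.1 this.2.2.1
  obtain ⟨u, hu⟩ := Finite.surjective_of_injective hi (-1, -1)
  have a := hψ u
  rw [hu, eb, pr_conj hk (FC u), e9_zz] at a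
  have b := up h.t2 (e9_zz ▸ h.eC _) (mul_mem (mul_mem hk (FC u)) (inv_mem hk)) (e9_zz ▸ h.e3 _)
    (by rw [conj_pow, F3]; simp) a
  have c : g * k⁻¹ * f zz * (g * k⁻¹)⁻¹ = f (uu 0 u.1 u.2 (-u.2) u.1 0) := by
    rw [b]; simp only [F]; group
  obtain ⟨m, hm, em⟩ := h.fJ _ _ _ _ _ c
  obtain ⟨z1, z2⟩ := rank2 hm.1 (h.cj_of hm (pb_uu ..).dm (pb_uu ..).dm (uu9 ..) (uu9 ..) (em ▸ c))
  rw [z1, z2, neg_zero, uu_zero, h.one, conj_eq_one_iff, h.ker zz (pb_uu ..).dm] at c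
  exact absurd c (by decide)

end Hy

end H92.L43
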