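import Cfsg.Agent.Lib.P3L.PC1
import Cfsg.Agent.Lib.P3L.PC2b

/-! Package C2: the centraliser of the involution `t` lies in the model. -/

set_option autoImplicit false

namespace H20.L43

variable {G : Type*} [Group G] [Finite G] {d : Prop} {f : M4 → G}

theorem centT (h : Md d d f) (g : G) (hg : g * f tt = f tt * g) : g ∈ h.H :=
  H92.L43.Hy.cent ⟨h, fun _ _ _ _ _ e => fJ h e, fun a b c e k h1 g hg => centQ h a b c e k h1 g hg⟩ hg

theorem notConj (h : Md True True f) : ¬IsConj (f tt) (f uI) :=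
  H92.L43.Hy.not_conj ⟨h, fun _ _ _ _ _ e => fJ h e, fun a b c e k h1 g hg => centQ h a b c e k h1 g hg⟩

end H20.L43
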