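import Mathlib
import Cfsg.Agent.Lib.P3L.A4
import Cfsg.Agent.Lib.P3L.A6
import Cfsg.Agent.Lib.P3L.A8
import Cfsg.Agent.Lib.P3L.PC2
import Cfsg.Agent.Lib.P3L.PF
import Cfsg.Agent.Lib.P3L.PN

/-! Assembly of the recognition of `PSL₄(3)` and its point stabiliser. -/

set_option autoImplicit false

namespace H20.L43

open Subgroup M4

variable {G : Type*} [Group G] [Finite G] {z : G} {Q : Subgroup G} {β : G → G → ZMod 3}
  {π : G → M2}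

theorem Md.all {d : Prop} {f : M4 → G} (h : Md d d f) (g : G) : g ∈ h.H :=
  count h.toHm (centT h) (fun hd => notConj (eq_true hd ▸ h)) (centQ h) g

theorem Hy.model (h : Hy z Q β π) {x : G} (hx : x ∈ Q) (h1 : x ∉ zpowers z) (hc : IsConj z x) :
    ∃ f : M4 → G, Md False True f ∧ f zz = z ∧ (∀ g, g ∈ Q ↔ ∃ a b c e k, f (uu a b c 0 e k) = g) ∧
      ∃ k, f (uu 0 1 k 0 0 0) = x := by
  obtain ⟨w, y, s, p, q, k, e, C⟩ := h.exists_cf hx h1 hc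
  obtain ⟨f, m, f1, f2⟩ := C.model
  refine ⟨f, m, by rw [zz, f1, ww_z, pw_one], f2, -k, ?_⟩
  rw [f1, ww, e, pw_neg h.z3]; simp

theorem Hy.dich (h : Hy z Q β π) {x : G} (hx : x ∈ Q) (h1 : x ∉ zpowers z) (hc : IsConj z x) :
    (∃ f : M4 → G, Md True True f) ∨ ∃ f : M4 → G, Md False False f := by
  obtain ⟨f, m, fz, fQ, -⟩ := h.model hx h1 hc
  by_cases e : ∃ g x e k, g * f zz * g⁻¹ = f (uu 0 0 x 0 e k) ∧ ¬(e = 0 ∧ k = 0)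
  swap
  · refine Or.inr ⟨f, m.toHm, m.nz, fun g a b x i k e1 => Or.inl (by_contra fun e2 => ?_)⟩
    obtain ⟨-, rfl, rfl⟩ := (m.c0 g a b x i k e1).resolve_left e2
    exact e ⟨g, x, i, k, e1, e2⟩
  obtain ⟨g, x, i, k, e1, e2⟩ := e
  obtain ⟨f', m', fz', fQ', l, fx⟩ := h.model ((fQ _).2 ⟨_, _, _, _, _, rfl⟩) (x := f (uu 0 0 x 0 i k))
    (fun e => by
      obtain ⟨c, e⟩ := m.mem_zz.1 (fz ▸ e)
      exact e2 ⟨(m.uu_inj e).2.2.2.2.1.symm, (m.uu_inj e).2.2.2.2.2.symm⟩)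
    (isConj_iff.2 ⟨g, fz ▸ e1⟩)
  refine Or.inl (partB m m' (fz'.trans fz.symm) fun a b c => ?_)
  have cj : ∀ a b c a' b' c' i' k', f' (uu a b c 0 0 0) = f (uu a' b' c' 0 i' k') →
      (i' = 0 ∧ k' = 0) ∨ (a' = 0 ∧ b' = 0) := fun a b c a' b' c' i' k' e => by
    have key : ∀ a b c : ZMod 3, (a = 0 ∧ b = 0 ∧ c = 0) ∨
        ∃ n ∈ [(⟨1, 0, 0, 0, 0, 1, 0, 0, 0, 0, c, 0, 0, a, b, c⟩ : M4),
          ⟨1, 0, 0, 0, 0, 1, 0, 0, 0, 0, 0, -b, 0, a, b, c⟩,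
          ⟨1, 0, 0, 0, 0, 0, 1, 0, 0, 0, 0, a, 0, a, b, c⟩],
          Pb n ∧ n * uu a b c 0 0 0 = zz * n := by decide +kernel
    rcases key a b c with ⟨rfl, rfl, rfl⟩ | ⟨n, -, n1, n2⟩
    · rw [uu_zero, m'.one, ← m.one, ← uu_zero] at e
      exact Or.inr ⟨(m.uu_inj e).1.symm, (m.uu_inj e).2.1.symm⟩
    · have := m'.cj n1.dm (pb_uu ..).dm (pb_uu ..).dm n2
      refine (m.c0 (f' n)⁻¹ a' b' c' i' k' ?_).imp_right And.right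
      rw [← e, fz, ← fz', zz, ← this]; group
  obtain ⟨a', b', c', i', k', e⟩ := (fQ _).1 ((fQ' _).2 ⟨a, b, c, 0, 0, rfl⟩)
  rcases cj _ _ _ _ _ _ _ _ e.symm with ⟨rfl, rfl⟩ | ⟨rfl, rfl⟩
  · have := m'.uu_mul a b c 0 0 0 0 1 l 0 0 0
    rw [fx, ← e, m.uu_mul] at this
    simp only [add_zero, zero_add, mul_zero, zero_mul] at this
    obtain ⟨rfl, rfl⟩ := (cj _ _ _ _ _ _ _ _ this.symm).resolve_left e2
    exact ⟨_, _, _, e.symm⟩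
  · exact ⟨_, _, _, e.symm⟩

theorem Hy.main (h : Hy z Q β π) {x : G} (hx : x ∈ Q) (h1 : x ∉ zpowers z) (hc : IsConj z x) :
    Nonempty (G ≃* Matrix.ProjectiveSpecialLinearGroup (Fin 4) (ZMod 3)) ∨
    ∃ (P : Subgroup (Matrix.ProjectiveSpecialLinearGroup (Fin 4) (ZMod 3))),
      IsCoatom P ∧ Nat.card (Cfsg.pCore 3 P) = 27 ∧
      Nonempty (P ⧸ Cfsg.pCore 3 P ≃* Matrix.SpecialLinearGroup (Fin 3) (ZMod 3)) ∧
      Nonempty (G ≃* P) :=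
  (h.dich hx h1 hc).imp (fun ⟨_, m⟩ => finalII m.toHm m.all) fun ⟨_, m⟩ => finalI m.toHm m.all

end H20.L43
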