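import Mathlib
import Cfsg.Agent.Lib.P3L.Defs
import Cfsg.Agent.Lib.P3L.Tools
import Cfsg.Agent.Lib.Core.CoprimeAbelian

/-! Package C1, part a: conjugates of `z`, signalizers, the centralisers of `x24` and `d0`. -/

set_option autoImplicit false
set_option linter.style.haveILetI false
set_option linter.unusedSectionVars false

namespace H20.L43

open Cfsg Subgroup M4

namespace C1

/-- decoding -/
def dec (n : ℕ) : M4 :=
  ⟨n, (n / 3 : ℕ), (n / 9 : ℕ), (n / 27 : ℕ), (n / 81 : ℕ), (n / 243 : ℕ), (n / 729 : ℕ), (n / 2187 : ℕ),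
    (n / 6561 : ℕ), (n / 19683 : ℕ), (n / 59049 : ℕ), (n / 177147 : ℕ), (n / 531441 : ℕ), (n / 1594323 : ℕ),
    (n / 4782969 : ℕ), (n / 14348907 : ℕ)⟩

/-- the table of conjugating matrices -/
def tabL : List ℕ := [
  0, 14369321, 28718227, 14408200, 14487419, 28777276, 28757108, 14428370, 28836325, 14389003, 14369330,
  28718236, 14467253, 14487428, 28777285, 28816159, 14428379, 28836334, 14369321, 14389012, 28737920, 14408203,
  14448061, 28856018, 28757111, 14507110, 28796969, 4804840, 14389003, 28718227, 14408200, 14448052, 28777276,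
  14408200, 14507101, 28836325, 19153747, 14391190, 28720414, 14585347, 14450239, 28779463, 14585347, 14509288,
  28838512, 33502654, 14393377, 28722601, 14762494, 14452426, 28781650, 14762494, 14511475, 28840699, 4824524,
  14369321, 28737911, 28757108, 14487419, 28856009, 28757108, 14428370, 28796960, 33522338, 14373695, 28742285,
  29111402, 14491793, 28860383, 29111402, 14432744, 28801334, 19173431, 14371508, 28740098, 28934255, 14489606,
  28858196, 28934255, 14430557, 28799147, 1714609, 28718227, 28718227, 14408200, 14447566, 14427883, 28816156,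
  28855522, 28835839, 16063516, 28895374, 28895374, 14410387, 14449753, 14430070, 28818343, 28857709, 28838026,
  30412423, 29072521, 29072521, 14412574, 14451940, 14432257, 28820530, 28859896, 28840213, 6497578, 14389246,
  28718470, 14408929, 28797202, 28777276, 28816885, 28777276, 14487661, 20846485, 14391433, 28720657, 14411116,
  28799389, 28954423, 28819072, 28954423, 14489848, 35195392, 14393620, 28722844, 14413303, 28801576, 29131570,
  28821259, 29131570, 14492035, 11280547, 28738882, 14370292, 14409658, 28836325, 28778248, 28817614, 14508073,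
  28836325, 25629454, 28741069, 14372479, 14411845, 29013472, 28780435, 28819801, 14510260, 29013472, 39978361,
  28743256, 14374666, 14414032, 29190619, 28782622, 28821988, 14512447, 29190619, 1655561, 14369321, 14369321,
  14467250, 14486933, 14506616, 28757108, 28776791, 28796474, 30353375, 14723615, 14723615, 14471624, 14491307,
  14510990, 28761482, 28781165, 28800848, 16004468, 14546468, 14546468, 14469437, 14489120, 14508803, 28759295,
  28778978, 28798661, 11221499, 28719200, 14389976, 14468708, 14487419, 28856981, 28758566, 14429342, 14487419,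
  39919313, 28723574, 14394350, 14473082, 14841713, 28861355, 28762940, 14433716, 14841713, 25570406, 28721387,
  14392163, 14470895, 14664566, 28859168, 28760753, 14431529, 14664566, 6438530, 14369564, 28738154, 14467979,
  28836569, 14428370, 28757837, 14428370, 14448296, 35136344, 14373938, 28742528, 14472353, 28840943, 14782664,
  28762211, 14782664, 14452670, 20787437, 14371751, 28740341, 14470166, 28838756, 14605517, 28760024, 14605517,
  14450483]

/-- the conjugating matrix -/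
def tb (a b c e k : ZMod 3) : M4 :=
  dec (tabL.getD (a.val * 81 + b.val * 27 + c.val * 9 + e.val * 3 + k.val) 0)

/-- a transvection -/
def x24 : M4 := uu 0 0 0 0 1 0

/-- an element with a Jordan block of size three -/
def d0 : M4 := uu 1 0 0 0 1 0

/-- the elements of rank two -/
def aa (ε : ZMod 3) : M4 := uu 0 1 0 0 ε 0

/-- the sign -/
def ep (a b e k : ZMod 3) : ZMod 3 := if b = 0 then -k * a else e * b

/-- the representative -/
def rp (a b e k : ZMod 3) : M4 :=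
  if e = 0 ∧ k = 0 then zz else if a = 0 ∧ b = 0 then x24 else
    if a * e + b * k = 0 then aa (ep a b e k) else d0

/-- a complement -/
def yy (l b : ZMod 3) : M4 := ⟨1, 0, b, 0, 0, l, 0, 0, 0, 0, 1, 0, 0, 0, 0, l⟩

theorem force_eq_C1a : True := by
  have := @dec.eq_1
  have := @tb.eq_1
  have := @x24.eq_1
  have := @d0.eq_1
  have := @aa.eq_1
  have := @ep.eq_1
  have := @rp.eq_1
  have := @yy.eq_1
  trivial

theorem tb_spec : ∀ a b c e k : ZMod 3, uu a b c 0 e k ≠ 1 →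
    Pb (tb a b c e k) ∧ tb a b c e k * uu a b c 0 e k = rp a b e k * tb a b c e k := by
  decide +kernel

theorem ep_sq : ∀ a b e k : ZMod 3, ¬(e = 0 ∧ k = 0) → ¬(a = 0 ∧ b = 0) → a * e + b * k = 0 →
    ep a b e k * ep a b e k = 1 := by decide +kernel

theorem sq3 : ∀ x : ZMod 3, x ≠ 0 → x * x = 1 := by decide

theorem z3 : ∀ x : ZMod 3, x = 0 ∨ x = 1 ∨ x = -1 := by decide

theorem cu3 : ∀ x : ZMod 3, x * x * x = x := by decide

theorem pb_rp (a b e k : ZMod 3) : Pb (rp a b e k) := by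
  unfold rp; split_ifs <;> exact pb_uu ..

variable {G : Type*} [Group G] [Finite G] {d c : Prop} {f : M4 → G}

theorem mem_zp {F : ZMod 3 → G} (hF : ∀ x y, F x * F y = F (x + y)) {g : G} :
    g ∈ zpowers (F 1) ↔ ∃ x, F x = g := by
  have h0 : F 0 = 1 := by have := hF 0 0; rwa [add_zero, mul_eq_left] at this
  have e : ∀ n : ℕ, F 1 ^ n = F n := fun n => by
    induction n with
    | zero => rw [pow_zero, Nat.cast_zero, h0]
    | succ n ih => rw [pow_succ, ih, hF]; simp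
  constructor
  · intro hg
    obtain ⟨n, rfl⟩ := (mem_powers_iff_mem_zpowers.2 hg)
    exact ⟨n, (e n).symm⟩
  · rintro ⟨x, rfl⟩
    exact ⟨x.val, by simp only [zpow_natCast, e, ZMod.natCast_zmod_val]⟩

theorem of_mul (h : Hm d f) {m : M4} (hm : Dm d m) {g : G} (e : f m * g ∈ h.H) : g ∈ h.H :=
  (mul_mem_cancel_left (h.mH hm)).1 e

theorem cj_mul (h : Hm d f) {m w w' : M4} (hm : Dm d m) (hw : Dm d w) (hw' : Dm d w') (e : m * w = w' * m)
    {g x : G} (e0 : g * x * g⁻¹ = f w) : f m * g * x * (f m * g)⁻¹ = f w' := by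
  rw [← h.cj hm hw hw' e, ← e0]; group

theorem cm_mul (h : Hm d f) {m w w' : M4} (hm : Dm d m) (hw : Dm d w) (hw' : Dm d w') (e : m * w = w' * m)
    {g : G} (e0 : g * f w = f w * g) : f m * g * (f m)⁻¹ * f w' = f w' * (f m * g * (f m)⁻¹) := by
  rw [← h.cj hm hw hw' e]
  calc f m * g * (f m)⁻¹ * (f m * f w * (f m)⁻¹) = f m * (g * f w) * (f m)⁻¹ := by group
    _ = _ := by rw [e0]; group

theorem cent_cj (h : Hm d f) {m w w' : M4} (hm : Dm d m) (hw : Dm d w) (hw' : Dm d w') (e : m * w = w' * m)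
    (hq : ∀ g, g * f w' = f w' * g → g ∈ h.H) {g : G} (e0 : g * f w = f w * g) : g ∈ h.H :=
  of_mul h hm ((mul_mem_cancel_right (inv_mem (h.mH hm))).1 (hq _ (cm_mul h hm hw hw' e e0)))

theorem nz' (h : Md d c f) {g : G} (e0 : g * f zz * g⁻¹ = f zz) : ∃ m, Pb m ∧ f m = g :=
  h.nz g (by rw [e0]; exact mem_zpowers _)

theorem zH (h : Md d c f) {g : G} {m w : M4} (hm : Dm d m) (hw : Dm d w) (e : m * w = zz * m)
    (e0 : g * f zz * g⁻¹ = f w) : g ∈ h.H := by
  obtain ⟨m', hm', e1⟩ := nz' h (cj_mul h.toHm hm hw (pb_uu ..).dm e e0)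
  exact of_mul h.toHm hm (e1 ▸ h.mH hm'.dm)

theorem comm_of (h : Hm d f) {m a : M4} (hm : Dm d m) (ha : Dm d a) (a9 : a ^ 9 = 1)
    (e : f m * f a = f a * f m) : m * a = a * m :=
  h.cj_of hm ha ha a9 a9 (by rw [e]; group)

theorem uu_ne (h : Hm d f) {a b c x e k : ZMod 3} (h1 : uu a b c x e k ≠ 1) : f (uu a b c x e k) ≠ 1 := fun q => by
  obtain ⟨rfl, rfl, rfl, rfl, rfl, rfl⟩ := h.uu_inj (q.trans h.one.symm : _ = f (uu 0 0 0 0 0 0))
  exact h1 rfl

theorem zz_ne (h : Hm d f) : f zz ≠ 1 := uu_ne h (by decide)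

theorem ne_of_cj (h : Hm d f) {g : G} {w : M4} (e0 : g * f zz * g⁻¹ = f w) : w ≠ 1 := by
  rintro rfl
  rw [h.one, mul_inv_eq_one, mul_eq_left] at e0
  exact zz_ne h e0

theorem uu_cube (h : Hm d f) {a b c x e k : ZMod 3} (h0 : a * x * k = 0) : f (uu a b c x e k) ^ 3 = 1 := by
  rw [(h.pow (pb_uu ..).dm 3).2, uu3, h0, uu_zero, h.one]

end C1

open C1

variable {G : Type*} [Group G] [Finite G] {d : Prop} {f : M4 → G}

theorem fQ (h : Md d d f) {g : G} {a b c e k : ZMod 3} (e0 : g * f zz * g⁻¹ = f (uu a b c 0 e k)) :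
    g ∈ h.H := by
  obtain ⟨h1, h2⟩ := tb_spec a b c e k (ne_of_cj h.toHm e0)
  by_cases k0 : e = 0 ∧ k = 0
  · rw [rp, if_pos k0] at h2
    exact zH h h1.dm (pb_uu ..).dm h2 e0
  obtain ⟨hd, h3⟩ := (h.c0 _ _ _ _ _ _ e0).resolve_left k0
  rw [rp, if_neg k0, if_pos h3] at h2
  exact of_mul h.toHm h1.dm (zH h (m := n1) ⟨by decide, Or.inl hd⟩ (pb_uu ..).dm (by decide)
    (cj_mul h.toHm h1.dm (pb_uu ..).dm (pb_uu ..).dm h2 e0))

theorem fJ (h : Md d d f) {g : G} {b c x e : ZMod 3} (e0 : g * f zz * g⁻¹ = f (uu 0 b c x e 0)) :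
    g ∈ h.H := by
  by_cases hx : x = 0
  · subst hx; exact fQ h e0
  have hm : Pb ⟨1, 0, 0, 0, 0, 1, 0, 0, 0, 0, 0, 1, 0, 0, -1, -e * x⟩ := by simp [Pb, det]
  have x2 : x * x = 1 := sq3 x hx
  exact of_mul h.toHm hm.dm (fQ h (cj_mul h.toHm hm.dm (pb_uu ..).dm
    (pb_uu 0 (c - b * e * x) (-b) 0 (-x) 0).dm (by ext <;> simp [uu] <;> grind) e0))

namespace C1

theorem centW (h : Md d d f) {a b c : ZMod 3} (h1 : uu a b c 0 0 0 ≠ 1) {g : G}
    (e : g * f (uu a b c 0 0 0) = f (uu a b c 0 0 0) * g) : ∃ m, Pb m ∧ f m = g := by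
  obtain ⟨h2, h3⟩ := tb_spec a b c 0 0 h1
  rw [rp, if_pos ⟨rfl, rfl⟩] at h3
  obtain ⟨m, hm, e1⟩ := nz' h (g := f (tb a b c 0 0) * g * (f (tb a b c 0 0))⁻¹)
    (by rw [cm_mul h.toHm h2.dm (pb_uu ..).dm (w' := zz) (pb_uu ..).dm h3 e]; group)
  refine ⟨_, (h2.adj.mul hm).mul h2, ?_⟩
  rw [h.mul _ _ (h2.adj.mul hm).dm h2.dm, h.mul _ _ h2.adj.dm hm.dm, h.adj h2.dm, e1]; group

theorem cj_W {m n : M4} (hm : Pb m) (hn : Pb n) (e : m * n = 1) (a b c : ZMod 3) :
    ∃ a' b' c', m * uu a b c 0 0 0 * n = uu a' b' c' 0 0 0 := by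
  obtain ⟨-, h1, h2, h3⟩ := hm
  obtain ⟨-, k1, k2, k3⟩ := hn
  refine ⟨m.a11 * (a * n.a22 + b * n.a32 + c * n.a42), m.a11 * (a * n.a23 + b * n.a33 + c * n.a43),
    m.a11 * (a * n.a24 + b * n.a34 + c * n.a44), ?_⟩
  simp only [M4.ext_iff] at e
  simp [h1, h2, h3, k1, k2, k3] at e
  ext <;> simp [uu, h1, h2, h3, k1, k2, k3] <;> grind

theorem pb_pos (h : Hm d f) {m : M4} (hm : Pb m) : ∃ n, Pb n ∧ n.a11 = 1 ∧ f n = f m := by
  rcases z3 m.a11 with e | e | e
  · obtain ⟨h0, h1, h2, h3⟩ := hm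
    simp [det, e, h1, h2, h3] at h0
  · exact ⟨m, hm, e, rfl⟩
  · exact ⟨-m, dm_false.1 hm.dm.neg, by simp [e], h.neg hm.dm⟩

theorem solY {m : M4} (hm : Pb m) (h4 : m.a11 = 1) (e2 : m * uu 0 0 1 0 0 0 = uu 0 0 1 0 0 0 * m)
    (e3 : m * uu 0 1 0 0 0 0 = uu 0 1 0 0 0 0 * m) : m = uu m.a12 m.a13 m.a14 m.a23 m.a24 0 := by
  obtain ⟨h0, h1, h2, h3⟩ := hm
  simp only [M4.ext_iff] at e2 e3 ⊢
  simp [uu, det, h1, h2, h3, h4] at e2 e3 h0 ⊢
  grind

end C1

theorem sigY (h : Md d d f) (U : Subgroup G) (hU : (Nat.card U).Coprime 3)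
    (hn : ∀ b c, ∀ u ∈ U, f (uu 0 b c 0 0 0) * u * (f (uu 0 b c 0 0 0))⁻¹ ∈ U) : U = ⊥ := by
  have h3 : ∀ u ∈ U, u ^ 3 = 1 → u = 1 := fun u hu e => by
    have h1 := orderOf_dvd_of_pow_eq_one e
    have h2 := U.orderOf_dvd_natCard hu
    exact orderOf_eq_one_iff.1 (Nat.eq_one_of_dvd_coprimes hU h2 h1)
  obtain ⟨Y, hY⟩ := h.exists_sub (fun p => ∃ b c, p = uu 0 b c 0 0 0) ⟨0, 0, rfl⟩
    (by rintro _ _ ⟨b, c, rfl⟩ ⟨b', c', rfl⟩; exact ⟨b + b', c + c', by simp [uu_mul]⟩)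
    (by rintro _ ⟨b, c, rfl⟩; exact (pb_uu ..).dm)
  have mY : ∀ b c, f (uu 0 b c 0 0 0) ∈ Y := fun b c => (hY _).2 ⟨_, ⟨b, c, rfl⟩, rfl⟩
  have Y3 : ∀ y ∈ Y, y ^ 3 = 1 := fun y hy => by
    obtain ⟨_, ⟨b, c, rfl⟩, rfl⟩ := (hY y).1 hy
    exact uu_cube h.toHm (by simp)
  have hc : IsMulCommutative Y := ⟨⟨fun x y => Subtype.ext (by
    obtain ⟨_, ⟨b, c, rfl⟩, e1⟩ := (hY x).1 x.2
    obtain ⟨_, ⟨b', c', rfl⟩, e2⟩ := (hY y).1 y.2
    simp only [coe_mul, ← e1, ← e2, h.uu_mul]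
    simp [add_comm])⟩⟩
  have hnc : ¬ IsCyclic Y := fun k => by
    obtain ⟨⟨y, hy⟩, hg⟩ := k.exists_generator
    obtain ⟨_, ⟨b, c, rfl⟩, rfl⟩ := (hY y).1 hy
    have key : ∀ b' c', ∃ x : ZMod 3, x * b = b' ∧ x * c = c' := fun b' c' => by
      obtain ⟨n, hn⟩ := hg ⟨_, mY b' c'⟩
      have : f (uu 0 b' c' 0 0 0) ∈ zpowers (f (uu 0 (1 * b) (1 * c) 0 0 0)) :=
        ⟨n, by simpa using congrArg Subtype.val hn⟩
      obtain ⟨x, hx⟩ := (mem_zp (F := fun x => f (uu 0 (x * b) (x * c) 0 0 0))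
        (fun x y => by rw [h.uu_mul]; simp [add_mul])).1 this
      exact ⟨x, (h.uu_inj hx).2.1, (h.uu_inj hx).2.2.1⟩
    obtain ⟨x, h1, h2⟩ := key 1 0
    obtain ⟨y, h3, h4⟩ := key 0 1
    grind
  have hcop : (Nat.card Y).Coprime (Nat.card U) := by
    obtain ⟨n, hn⟩ := IsPGroup.iff_card.1 (pg3 (n := 1) (by simpa using Y3))
    rw [hn]; exact Nat.Coprime.pow_left n hU.symm
  have key : U ≤ centralizer (Y : Set G) := by
    refine H2.le_of_forall_centralizer_le hc hnc (fun y hy => ?_) hcop fun y hy y1 u hu y' hy' => ?_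
    · obtain ⟨_, ⟨b, c, rfl⟩, rfl⟩ := (hY y).1 hy
      exact mem_norm (hn b c)
    obtain ⟨_, ⟨b, c, rfl⟩, rfl⟩ := (hY y).1 hy
    obtain ⟨_, ⟨b', c', rfl⟩, rfl⟩ := (hY y').1 hy'
    obtain ⟨m, hm, rfl⟩ := centW h (fun e => y1 (by rw [e, h.one])) (mem_centralizer_singleton_iff.1 hu.2)
    obtain ⟨a, b, c, e⟩ := cj_W hm hm.adj (mul_adj hm.1) 0 b' c'
    have e1 := h.cj_adj hm.dm (pb_uu 0 b' c' 0 0 0).dm
    rw [e] at e1
    have := h3 (f m * f (uu 0 b' c' 0 0 0) * (f m)⁻¹ * (f (uu 0 b' c' 0 0 0))⁻¹)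
      (by simpa [mul_assoc] using mul_mem hu.1 (hn b' c' _ (inv_mem hu.1)))
      (by rw [e1, h.uu_inv, h.uu_mul]; exact uu_cube h.toHm (by simp))
    rw [mul_inv_eq_one, mul_inv_eq_iff_eq_mul] at this
    exact this.symm
  refine eq_bot_iff.2 fun u hu => h3 u hu ?_
  have e1 := (key hu _ (mY 0 1)).symm
  obtain ⟨m, hm, rfl⟩ := centW h (by decide) e1
  obtain ⟨n, hn', h4, e⟩ := pb_pos h.toHm hm
  rw [← e] at e1 hu ⊢
  rw [solY hn' h4 (comm_of h.toHm hn'.dm (pb_uu ..).dm (uu9 ..) e1)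
    (comm_of h.toHm hn'.dm (pb_uu ..).dm (uu9 ..) (key hu _ (mY 1 0)).symm)]
  exact uu_cube h.toHm (by simp)

end H20.L43
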