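import Mathlib
import Cfsg.Agent.Lib.P3L.PC1a

/-! Package C1, part b: the centralisers of `d0` and `x24`. -/

set_option autoImplicit false
set_option linter.style.haveILetI false
set_option linter.unusedSectionVars false

namespace H20.L43.C1

open Cfsg Subgroup M4

variable {G : Type*} [Group G] [Finite G] {d : Prop} {f : M4 → G}

theorem zp_coe {C : Subgroup G} {x z : C} : x ∈ zpowers z ↔ (x : G) ∈ zpowers (z : G) :=
  ⟨fun ⟨n, e⟩ => ⟨n, by simpa using congrArg Subtype.val e⟩, fun ⟨n, e⟩ => ⟨n, Subtype.ext (by simpa using e)⟩⟩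

theorem solD {m : M4} (hm : Pb m) (h4 : m.a11 = 1) (e : m * d0 = d0 * m) :
    m = uu m.a12 m.a13 m.a14 0 m.a12 m.a34 := by
  obtain ⟨h0, h1, h2, h3⟩ := hm
  simp only [M4.ext_iff] at e ⊢
  simp [uu, d0, det, h1, h2, h3, h4] at e h0 ⊢
  grind

theorem centD (h : Md d d f) {g : G} (hg : g * f d0 = f d0 * g) : ∃ a b c k, f (uu a b c 0 a k) = g := by
  obtain ⟨K, hK⟩ := h.exists_sub (fun p => ∃ a b c k, p = uu a b c 0 a k) ⟨0, 0, 0, 0, rfl⟩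
    (by rintro _ _ ⟨a, b, c, k, rfl⟩ ⟨a', b', c', k', rfl⟩
        exact ⟨a + a', b + b', c + c' + a * a' + b * k', k + k', by simp [uu_mul]⟩)
    (by rintro _ ⟨a, b, c, k, rfl⟩; exact (pb_uu ..).dm)
  have hK' : ∀ g, g ∈ K ↔ ∃ a b c k, f (uu a b c 0 a k) = g := fun g => (hK g).trans
    ⟨fun ⟨_, ⟨a, b, c, k, e⟩, e'⟩ => ⟨a, b, c, k, e ▸ e'⟩, fun ⟨a, b, c, k, e⟩ => ⟨_, ⟨a, b, c, k, rfl⟩, e⟩⟩
  have hC : ∀ a b c k, f (uu a b c 0 a k) ∈ Ce (f d0) := fun a b c k =>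
    mem_Ce.2 (h.comm (pb_uu ..).dm (pb_uu ..).dm (by simp [d0, uu_mul, add_comm]))
  have mK : ∀ a b c k, (⟨_, hC a b c k⟩ : Ce (f d0)) ∈ K.subgroupOf (Ce (f d0)) := fun a b c k =>
    (hK' _).2 ⟨a, b, c, k, rfl⟩
  refine (hK' g).1 (a27 (P := K.subgroupOf (Ce (f d0))) (fun x hx => ?_) (mK 0 0 1 0) (fun x hx y hy => ?_)
    ⟨_, mK 0 1 0 0, _, mK 0 0 0 1, Subtype.ext ?_⟩ (fun g e => ?_) (fun U hU hn => ?_) ⟨g, mem_Ce.2 hg⟩)
  · obtain ⟨a, b, c, k, e⟩ := (hK' (x : G)).1 hx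
    exact Subtype.ext (by rw [coe_pow, ← e]; exact uu_cube h.toHm (by simp))
  · obtain ⟨a, b, c, k, e⟩ := (hK' (x : G)).1 hx
    obtain ⟨a', b', c', k', e'⟩ := (hK' (y : G)).1 hy
    refine zp_coe.2 (h.mem_zz.2 ⟨b * k' - b' * k, ?_⟩)
    simp only [coe_mul, coe_inv, ← e, ← e', h.uu_inv, h.uu_mul]
    congr 2 <;> ring
  · simp only [coe_mul, coe_inv, h.uu_inv, h.uu_mul]
    congr 2
  · obtain ⟨m, hm, e1⟩ := h.nz g (zp_coe.1 e)
    obtain ⟨n, hn, h4, e2⟩ := pb_pos h.toHm hm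
    refine (hK' (g : G)).2 ⟨n.a12, n.a13, n.a14, n.a34, ?_⟩
    rw [← solD hn h4 (comm_of h.toHm hn.dm (pb_uu ..).dm (uu9 ..) (by rw [e2, e1]; exact mem_Ce.1 g.2)), e2, e1]
  · have := sigY h (U.map (Ce (f d0)).subtype) (by rwa [card_map_of_injective (subtype_injective _)]) (by
      rintro b c _ ⟨u, hu, rfl⟩
      exact ⟨_, hn _ (mK 0 b c 0) u hu, rfl⟩)
    exact (map_eq_bot_iff_of_injective _ (subtype_injective _)).1 this

/-- a conjugate of `z` centralising a conjugate of `d0` -/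
theorem zD (h : Md d d f) {a b c e k : ZMod 3} (h0 : a * e + b * k ≠ 0) {g : G}
    (hg : g * f zz * g⁻¹ * f (uu a b c 0 e k) = f (uu a b c 0 e k) * (g * f zz * g⁻¹)) : g ∈ h.H := by
  have k1 : ¬(e = 0 ∧ k = 0) := fun q => h0 (by simp [q])
  have k2 : ¬(a = 0 ∧ b = 0) := fun q => h0 (by simp [q])
  obtain ⟨h1, h2⟩ := tb_spec a b c e k fun q => k1 ⟨(uu_inj (q.trans uu_zero.symm)).2.2.2.2.1,
    (uu_inj (q.trans uu_zero.symm)).2.2.2.2.2⟩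
  rw [rp, if_neg k1, if_neg k2, if_neg h0] at h2
  obtain ⟨a', b', c', k', e1⟩ := centD h (cm_mul h.toHm h1.dm (pb_uu ..).dm (w' := d0) (pb_uu ..).dm h2 hg)
  exact of_mul h.toHm h1.dm (fQ h (Eq.trans (by group) e1.symm))

theorem pb_yy {l : ZMod 3} (hl : l * l = 1) (b : ZMod 3) : Pb (yy l b) := by simp [Pb, yy, det, hl]

theorem yy_mul (l b l' b' : ZMod 3) : yy l b * yy l' b' = yy (l * l') (b + b') := by
  ext <;> simp [yy, add_comm]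

theorem yy_one (b : ZMod 3) : yy 1 b = uu 0 b 0 0 0 0 := rfl

theorem yy_uu {l : ZMod 3} (hl : l * l = 1) (β b c x e k : ZMod 3) : yy l β * uu 0 b c x e k =
    uu 0 b (l * (c + β * k)) (l * x) e (l * k) * yy l β := by
  ext <;> simp [yy, uu] <;> grind

theorem solX {m : M4} (hm : Pb m) (h4 : m.a11 = 1) (e : m * x24 = x24 * m) : m.a22 * m.a22 = 1 ∧
    m = uu 0 0 (m.a22 * m.a14) m.a23 (m.a22 * m.a24) (m.a22 * m.a34) * yy m.a22 m.a13 := by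
  obtain ⟨h0, h1, h2, h3⟩ := hm
  simp only [M4.ext_iff] at e ⊢
  simp [uu, x24, yy, det, h1, h2, h3, h4] at e h0 ⊢
  have := cu3 m.a22
  have := cu3 m.a33
  grind

/-- normalisers of subgroups of `U1` -/
theorem normK (h : Md d d f) {K : Subgroup G} (hz : f zz ∈ K) (hx : f (uu 0 0 0 1 0 0) ∈ K)
    (hK : ∀ y ∈ K, ∃ b c x e k, f (uu 0 b c x e k) = y) {g : G} (hg : ∀ y ∈ K, g * y * g⁻¹ ∈ K) : g ∈ h.H := by
  obtain ⟨b, c, x, e, k, e1⟩ := hK _ (hg _ hz)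
  obtain ⟨b', c', x', e', k', e2⟩ := hK _ (conj_mem (inv_mem (mem_norm hg)) hx)
  have e3 : f zz * f (uu 0 b' c' x' e' k') = f (uu 0 b' c' x' e' k') * f zz := by
    rw [zz, h.uu_mul, h.uu_mul]; simp [add_comm]
  have e4 : f (uu 0 b c x e k) * f (uu 0 0 0 1 0 0) = f (uu 0 0 0 1 0 0) * f (uu 0 b c x e k) := by
    rw [e1]
    calc g * f zz * g⁻¹ * f (uu 0 0 0 1 0 0) = g * (f zz * (g⁻¹ * f (uu 0 0 0 1 0 0) * g⁻¹⁻¹)) * g⁻¹ := by group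
      _ = _ := by rw [← e2, e3, e2]; group
  rw [h.uu_mul, h.uu_mul] at e4
  obtain rfl : k = 0 := by simpa using (h.uu_inj e4).2.2.2.2.1
  exact fJ h e1.symm

theorem normQ {a : G} {K : Subgroup G} (ha : a ∈ K) (hC : K ≤ Ce a) {g : G} (hg : g ∈ Ce a)
    (hn : ∀ y ∈ im a K, pr a g * y * (pr a g)⁻¹ ∈ im a K) (y : G) (hy : y ∈ K) : g * y * g⁻¹ ∈ K := by
  have := hn _ ((pr_mem_im ha (hC hy)).2 hy)
  rwa [pr_conj hg (hC hy), pr_mem_im ha (mul_mem (mul_mem hg (hC hy)) (inv_mem hg))] at this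

theorem cent24 (h : Md d d f) {g : G} (hg : g * f x24 = f x24 * g) : g ∈ h.H := by
  by_cases hd : d
  · exact cent_cj h.toHm (m := n1) ⟨by decide, Or.inl hd⟩ (pb_uu ..).dm (w' := zz) (pb_uu ..).dm (by decide)
      (fun g e => by obtain ⟨m, hm, rfl⟩ := nz' h (g := g) (by rw [e]; group); exact h.mH hm.dm) hg
  obtain ⟨K, hK⟩ := h.exists_sub (fun p => ∃ b c x e k, p = uu 0 b c x e k) ⟨0, 0, 0, 0, 0, rfl⟩
    (by rintro _ _ ⟨b, c, x, e, k, rfl⟩ ⟨b', c', x', e', k', rfl⟩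
        exact ⟨b + b', _, _, _, _, by rw [uu_mul, add_zero, zero_mul, add_zero]⟩)
    (by rintro _ ⟨b, c, x, e, k, rfl⟩; exact (pb_uu ..).dm)
  have hK' : ∀ g, g ∈ K ↔ ∃ b c x e k, f (uu 0 b c x e k) = g := fun g => (hK g).trans
    ⟨fun ⟨_, ⟨b, c, x, e, k, q⟩, q'⟩ => ⟨b, c, x, e, k, q ▸ q'⟩,
      fun ⟨b, c, x, e, k, q⟩ => ⟨_, ⟨b, c, x, e, k, rfl⟩, q⟩⟩
  obtain ⟨R, hR⟩ := h.exists_sub (fun p => ∃ c x e k, p = uu 0 0 c x e k) ⟨0, 0, 0, 0, rfl⟩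
    (by rintro _ _ ⟨c, x, e, k, rfl⟩ ⟨c', x', e', k', rfl⟩
        exact ⟨_, _, _, _, by rw [uu_mul, add_zero, zero_mul, add_zero]⟩)
    (by rintro _ ⟨c, x, e, k, rfl⟩; exact (pb_uu ..).dm)
  have hR' : ∀ g, g ∈ R ↔ ∃ c x e k, f (uu 0 0 c x e k) = g := fun g => (hR g).trans
    ⟨fun ⟨_, ⟨c, x, e, k, q⟩, q'⟩ => ⟨c, x, e, k, q ▸ q'⟩, fun ⟨c, x, e, k, q⟩ => ⟨_, ⟨c, x, e, k, rfl⟩, q⟩⟩
  have mK : ∀ b c x e k, f (uu 0 b c x e k) ∈ K := fun b c x e k => (hK' _).2 ⟨b, c, x, e, k, rfl⟩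
  have mR : ∀ c x e k, f (uu 0 0 c x e k) ∈ R := fun c x e k => (hR' _).2 ⟨c, x, e, k, rfl⟩
  have RK : R ≤ K := fun y hy => by obtain ⟨c, x, e, k, rfl⟩ := (hR' y).1 hy; exact mK ..
  set s := f x24 with hs
  have sR : s ∈ R := mR ..
  have KC : K ≤ Ce s := fun y hy => by
    obtain ⟨b, c, x, e, k, rfl⟩ := (hK' y).1 hy
    exact mem_Ce.2 (h.comm (pb_uu ..).dm (pb_uu ..).dm (by simp [x24, uu_mul, add_comm]))
  have ms : ∀ n, f (uu 0 0 0 0 n 0) ∈ zpowers s := fun n =>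
    (mem_zp (F := fun n => f (uu 0 0 0 0 n 0)) fun x y => by rw [h.uu_mul]; simp).2 ⟨n, rfl⟩
  have yC : ∀ l b, l * l = 1 → f (yy l b) ∈ Ce s := fun l b hl =>
    mem_Ce.2 (h.comm (pb_yy hl b).dm (pb_uu ..).dm (by ext <;> simp [x24, uu, yy]))
  have yK : ∀ l β, l * l = 1 → ∀ y ∈ K, f (yy l β) * y * (f (yy l β))⁻¹ ∈ K := fun l β hl y hy => by
    obtain ⟨b, c, x, e, k, rfl⟩ := (hK' y).1 hy
    rw [h.cj (pb_yy hl β).dm (pb_uu ..).dm (pb_uu ..).dm (yy_uu hl ..)]; exact mK ..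
  have yR : ∀ l β, l * l = 1 → ∀ y ∈ R, f (yy l β) * y * (f (yy l β))⁻¹ ∈ R := fun l β hl y hy => by
    obtain ⟨c, x, e, k, rfl⟩ := (hR' y).1 hy
    rw [h.cj (pb_yy hl β).dm (pb_uu ..).dm (pb_uu ..).dm (yy_uu hl ..)]; exact mR ..
  have ym : ∀ l b l' b', l * l = 1 → l' * l' = 1 → f (yy l b) * f (yy l' b') = f (yy (l * l') (b + b')) :=
    fun l b l' b' hl hl' => h.mul' (pb_yy hl b).dm (pb_yy hl' b').dm (yy_mul ..)
  have dec : ∀ g ∈ h.H, g ∈ Ce s → ∃ ρ ∈ R, ∃ l b, l * l = 1 ∧ g = ρ * f (yy l b) := by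
    rintro _ ⟨m, hm, rfl⟩ hc
    obtain ⟨n, hn, h4, e⟩ := pb_pos h.toHm (hm.pb hd)
    obtain ⟨h5, h6⟩ := solX hn h4 (comm_of h.toHm hn.dm (pb_uu ..).dm (uu9 ..) (e ▸ mem_Ce.1 hc))
    exact ⟨_, mR .., _, _, h5, by rw [← e, h.mul' (pb_uu ..).dm (pb_yy h5 _).dm h6.symm]⟩
  have nK : ∀ γ : Ga s, (∀ y ∈ im s K, γ * y * γ⁻¹ ∈ im s K) →
      ∃ ρ ∈ R, ∃ l b, l * l = 1 ∧ γ = pr s (ρ * f (yy l b)) := fun γ hγ => by
    obtain ⟨g, hg, rfl⟩ := pr_surj γ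
    obtain ⟨ρ, h1, l, b, h2, rfl⟩ := dec g (normK h (mK ..) (mK ..) (fun y hy => (hK' y).1 hy)
      (normQ (RK sR) KC hg hγ)) hg
    exact ⟨ρ, h1, l, b, h2, rfl⟩
  have nR : ∀ g ∈ Ce s, (∀ y ∈ im s R, pr s g * y * (pr s g)⁻¹ ∈ im s R) → g ∈ h.H := fun g hg hγ =>
    normK h (mR ..) (mR ..) (fun y hy => (hK' y).1 (RK hy)) (normQ sR (RK.trans KC) hg hγ)
  have pK : ∀ y ∈ K, pr s y ∈ im s K := fun y hy => (pr_mem_im (RK sR) (KC hy)).2 hy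
  have pR : ∀ y ∈ R, pr s y ∈ im s R := fun y hy => (pr_mem_im sR (KC (RK hy))).2 hy
  have K3 : ∀ γ ∈ im s K, γ ^ 3 = 1 := fun γ hγ => by
    obtain ⟨y, hy, hc, rfl⟩ := mem_im.1 hγ
    obtain ⟨b, c, x, e, k, rfl⟩ := (hK' y).1 hy
    rw [← pr_pow hc, uu_cube h.toHm (by simp), pr_one]
  have RK' : im s R ≤ im s K := fun γ hγ => by
    obtain ⟨y, hy, -, rfl⟩ := mem_im.1 hγ; exact pK y (RK hy)
  have m1 : (-1 : ZMod 3) * -1 = 1 := by decide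
  set τ := pr s (f (yy (-1) 0)) with hτ
  have τ2 : τ * τ = 1 := by
    rw [← pr_mul (yC _ _ m1) (yC _ _ m1), ym _ _ _ _ m1 m1, m1, add_zero, yy_one, uu_zero, h.one, pr_one]
  have inv : ∀ γ ∈ im s R, τ * γ * τ⁻¹ = γ⁻¹ := fun γ hγ => by
    obtain ⟨y, hy, hc, rfl⟩ := mem_im.1 hγ
    obtain ⟨c, x, e, k, rfl⟩ := (hR' y).1 hy
    rw [pr_conj (yC _ _ m1) hc, ← pr_inv hc, h.cj (pb_yy m1 0).dm (pb_uu ..).dm (pb_uu ..).dm (yy_uu m1 ..),
      pr_eq_iff (KC (mK ..)) (inv_mem hc), h.uu_inv, h.uu_inv, h.uu_mul]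
    convert ms (x * k + e) using 3 <;> grind
  have yo : ∀ γ ∈ im s K, γ ∈ commutator (Ga s) → γ ∈ im s R := fun γ => by
    refine yosh K3 (fun γ hγ h3 => ?_) fun γ κ hγ hκ => ?_
    · obtain ⟨ρ, h1, l, b, h2, rfl⟩ := nK γ hγ
      have hc := mul_mem (KC (RK h1)) (yC l b h2)
      have : pr s (ρ * f (yy l b)) ^ 2 ∈ im s K := by
        rw [← pr_pow hc]
        refine pK _ ?_
        rw [show (ρ * f (yy l b)) ^ 2 = ρ * (f (yy l b) * ρ * (f (yy l b))⁻¹) * (f (yy l b) * f (yy l b)) by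
          rw [pow_two]; group, ym _ _ _ _ h2 h2, h2, yy_one]
        exact mul_mem (mul_mem (RK h1) (yK _ _ h2 _ (RK h1))) (mK ..)
      rw [pow_succ] at h3
      exact (mul_mem_cancel_left this).1 h3
    · obtain ⟨ρ, h1, l, b, h2, rfl⟩ := nK γ hγ
      obtain ⟨ρ', h1', l', b', h2', rfl⟩ := nK κ hκ
      have hc := mul_mem (KC (RK h1)) (yC l b h2)
      have hc' := mul_mem (KC (RK h1')) (yC l' b' h2')
      rw [pr_conj hc hc', ← pr_inv hc', ← pr_mul (mul_mem (mul_mem hc hc') (inv_mem hc)) (inv_mem hc')]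
      refine pR _ ?_
      have e : f (yy l b) * f (yy l' b') = f (yy l' b') * f (yy l b) := by
        rw [ym _ _ _ _ h2 h2', ym _ _ _ _ h2' h2, mul_comm l, add_comm b]
      have e' : f (yy l b) * f (yy l' b') * (f (yy l b))⁻¹ = f (yy l' b') := by rw [e]; group
      rw [show ρ * f (yy l b) * (ρ' * f (yy l' b')) * (ρ * f (yy l b))⁻¹ * (ρ' * f (yy l' b'))⁻¹ =
        ρ * (f (yy l b) * ρ' * (f (yy l b))⁻¹) * ((f (yy l b) * f (yy l' b') * (f (yy l b))⁻¹) * ρ⁻¹ *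
          (f (yy l' b'))⁻¹) * ρ'⁻¹ by group, e']
      exact mul_mem (mul_mem (mul_mem h1 (yR _ _ h2 _ h1')) (yR _ _ h2' _ (inv_mem h1))) (inv_mem h1')
  set N : Subgroup (Ga s) := commutator (Ga s) ⊔ zpowers τ with hN
  have hNn : N.Normal := Normal.of_commutator_le _ le_sup_left
  have KN : ∀ γ ∈ im s K, γ ∈ N → γ ∈ im s R := fun γ hγ hn => by
    obtain ⟨c, hc, t, ht, rfl⟩ := mem_sup_of_normal_left.1 hn
    have t2 : t * t = 1 := by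
      obtain ⟨n, rfl⟩ := ht
      rw [← (Commute.refl τ).mul_zpow, τ2, one_zpow]
    have h2 : c * t * (c * t) ∈ im s R := yo _ (mul_mem hγ hγ) (by
      rw [show c * t * (c * t) = c * (t * c * t⁻¹) * (t * t) by group, t2, mul_one]
      exact mul_mem hc (Normal.conj_mem inferInstance c hc t))
    rw [← cube_inv (K3 _ hγ), ← mul_inv_rev]
    exact inv_mem h2
  have RN : im s R ≤ N := fun γ hγ => mem_sup_left (by
    rw [← cube_inv (K3 _ (RK' hγ))]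
    nth_rewrite 1 [← inv γ hγ]
    exact commutator_mem_commutator (mem_top τ) (mem_top γ))
  have τN : τ ∈ N := mem_sup_right (mem_zpowers τ)
  have hO : O3' N = ⊥ := sig_quot (Y := {y | ∃ b c, f (uu 0 b c 0 0 0) = y})
    (by rintro _ ⟨b, c, rfl⟩; exact KC (mK ..))
    (fun U hU hn => sigY h U hU fun b c => hn _ ⟨b, c, rfl⟩) (uu_cube h.toHm (by simp)) (O3'_cop N)
    fun y _ u hu => O3'_norm (fun x hx => hNn.conj_mem x hx _) hu
  have key : ∀ γ ∈ N, γ ∈ im s R ∨ τ * γ ∈ im s R := fun γ hγ => by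
    refine (st (N := N) (R := im s R) (fun x hx => K3 x (RK' hx)) RN (fun x hx y hy => ?_)
      (pR _ (mR 1 0 0 0)) (pR _ (mR 0 1 0 0)) ?_ ?_ τN τ2 inv (fun γ hγ hn => ?_) hγ).elim fun u ⟨hu, e⟩ => ?_
    rotate_right
    · rw [hO, mem_bot] at hu
      simpa [hu] using e
    · obtain ⟨x, hx1, hc, rfl⟩ := mem_im.1 hx
      obtain ⟨y, hy1, hc', rfl⟩ := mem_im.1 hy
      obtain ⟨c, x, e, k, rfl⟩ := (hR' x).1 hx1
      obtain ⟨c', x', e', k', rfl⟩ := (hR' y).1 hy1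
      rw [← pr_mul hc hc', ← pr_mul hc' hc, pr_eq_iff (mul_mem hc hc') (mul_mem hc' hc), h.uu_mul, h.uu_mul,
        h.uu_inv, h.uu_mul]
      convert ms (x' * k - x * k') using 3 <;> ring
    · rw [Ne, pr_eq_one (KC (mK ..))]
      intro q
      obtain ⟨n, hn⟩ := (mem_zp (F := fun n => f (uu 0 0 0 0 n 0)) fun x y => by rw [h.uu_mul]; simp).1 q
      exact absurd (h.uu_inj hn).2.2.1 (by decide)
    · intro q
      obtain ⟨n, hn⟩ := (mem_zp (F := fun n => pr s (f (uu 0 0 n 0 0 0))) fun x y => by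
        rw [← pr_mul (KC (mK ..)) (KC (mK ..)), h.uu_mul]; simp).1 q
      rw [pr_eq_iff (KC (mK ..)) (KC (mK ..)), h.uu_inv, h.uu_mul] at hn
      obtain ⟨n, hn⟩ := (mem_zp (F := fun n => f (uu 0 0 0 0 n 0)) fun x y => by rw [h.uu_mul]; simp).1 hn
      exact absurd (h.uu_inj hn).2.2.2.1 (by decide)
    · obtain ⟨g, hg, rfl⟩ := pr_surj γ
      obtain ⟨ρ, h1, l, b, h2, rfl⟩ := dec g (nR g hg hn) hg
      rcases z3 l with rfl | rfl | rfl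
      · exact absurd h2 (by decide)
      · exact Or.inl (KN _ (pK _ (mul_mem (RK h1) (mK ..))) hγ)
      · refine Or.inr (KN _ ?_ (mul_mem τN hγ))
        rw [← pr_mul (yC _ _ m1) hg]
        refine pK _ ?_
        rw [show f (yy (-1) 0) * (ρ * f (yy (-1) b)) = f (yy (-1) 0) * ρ * (f (yy (-1) 0))⁻¹ *
          (f (yy (-1) 0) * f (yy (-1) b)) by group, ym _ _ _ _ m1 m1, m1, yy_one]
        exact mul_mem (yK _ _ m1 _ (RK h1)) (mK ..)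
  refine nR g (mem_Ce.2 hg) fun y hy => (key _ (hNn.conj_mem y (RN hy) _)).elim id fun e => ?_
  have h3 : (pr s g * y * (pr s g)⁻¹) ^ 3 = 1 := by rw [conj_pow, K3 y (RK' hy)]; group
  generalize pr s g * y * (pr s g)⁻¹ = w at e h3
  have h2 : w * w = 1 := by
    have := inv _ e
    rw [← mul_assoc τ τ, τ2, one_mul, mul_inv_rev, mul_left_inj] at this
    nth_rewrite 1 [this]; group
  rw [pow_succ, pow_two, h2, one_mul] at h3
  rw [h3]; exact one_mem _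

end H20.L43.C1
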