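import Mathlib
import Cfsg.Agent.Lib.P3L.PC1b
import Cfsg.Agent.Lib.P3L.Abs

/-! Package C1: the centralisers of the elements of `Q`. -/

set_option autoImplicit false
set_option linter.style.haveILetI false
set_option linter.unusedSectionVars false

namespace H20.L43

open Cfsg Subgroup M4 H53.Odd
open H53.Odd.H108 (W4 sg)

namespace C1

/-- two by two matrices -/
abbrev T2 := ZMod 3 × ZMod 3 × ZMod 3 × ZMod 3

/-- the product -/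
def m2 (P Q : T2) : T2 :=
  (P.1 * Q.1 + P.2.1 * Q.2.2.1, P.1 * Q.2.1 + P.2.1 * Q.2.2.2, P.2.2.1 * Q.1 + P.2.2.2 * Q.2.2.1,
    P.2.2.1 * Q.2.1 + P.2.2.2 * Q.2.2.2)

/-- the determinant -/
def d2 (P : T2) : ZMod 3 := P.1 * P.2.2.2 - P.2.1 * P.2.2.1

/-- block diagonal matrices -/
def bd (ε : ZMod 3) (P : T2) : M4 :=
  ⟨P.1, P.2.1, 0, 0, P.2.2.1, P.2.2.2, 0, 0, 0, 0, P.1, ε * P.2.1, 0, 0, ε * P.2.2.1, P.2.2.2⟩

/-- the elements of `J` -/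
def jj (ε : ZMod 3) (X : T2) : M4 := uu 0 X.1 (ε * X.2.1) X.2.2.1 (ε * X.2.2.2) 0

/-- traceless matrices -/
def xu (u : V27) : T2 := (u.2.1 - u.1, u.2.2 - u.1 - u.2.1, -u.1 - u.2.1 - u.2.2, u.1 - u.2.1)

/-- scalar matrices -/
def sc (n : ZMod 3) : T2 := (n, 0, 0, n)

/-- the Borel subgroup -/
def p6 (w : W6) : T2 := (1, sg w.2 w.1, 0, sg w.2 1)

/-- the quaternion group -/
def p4 (v : W4) : T2 :=
  if v.1 = 0 then (if v.2 = 0 then (1, 0, 0, 1) else (1, 2, 2, 2)) else if v.2 = 0 then (0, 1, 2, 0) else (2, 2, 2, 1)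

/-- the projective group -/
def p24 (w : W24) : T2 := m2 (p4 w.1) (p6 w.2)

/-- conjugating the elements of rank one to `zz` -/
def rk (b c x e : ZMod 3) : M4 :=
  if x = 0 then (if e = 0 then tb 0 b c 0 0 else n1 * tb 0 b c e 0) else
    n1 * tb 0 0 (-b) (-x) 0 * ⟨1, 0, 0, 0, 0, 1, 0, 0, 0, 0, 0, 1, 0, 0, -1, -e * x⟩

theorem force_eq_C1 : True := by
  have := @m2.eq_1
  have := @d2.eq_1
  have := @bd.eq_1
  have := @jj.eq_1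
  have := @xu.eq_1
  have := @sc.eq_1
  have := @p6.eq_1
  have := @p4.eq_1
  have := @p24.eq_1
  have := @rk.eq_1
  trivial

theorem rk_spec : ∀ b c x e : ZMod 3, b * e = c * x → uu 0 b c x e 0 ≠ 1 → (rk b c x e).det = 1 ∧
    (x = 0 → e = 0 → Pb (rk b c x e)) ∧ rk b c x e * uu 0 b c x e 0 = zz * rk b c x e := by
  decide +kernel

theorem dec_sc : ∀ X : T2, ∃ n u, X = sc n + xu u := by decide +kernel

variable {d : Prop} {ε : ZMod 3} {P Q X Y : T2}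

theorem bd_mul (hε : ε * ε = 1) (P Q : T2) : bd ε P * bd ε Q = bd ε (m2 P Q) := by
  ext <;> simp [bd, m2] <;> grind

theorem bd_neg (P : T2) : bd ε (-P) = -bd ε P := by ext <;> simp [bd]

theorem bd_dm (hε : ε * ε = 1) (hP : d2 P * d2 P = 1) (h : d ∨ P.2.2.1 = 0) : Dm d (bd ε P) := by
  refine ⟨?_, h.imp_right fun h => ⟨h, rfl, rfl⟩⟩
  simp [bd, det, d2] at hP ⊢
  grind

theorem jj_dm (X : T2) : Dm d (jj ε X) := (pb_uu ..).dm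

theorem jj_mul (X Y : T2) : jj ε X * jj ε Y = jj ε (X + Y) := by simp [jj, uu_mul, mul_add]

theorem bd_jj (hε : ε * ε = 1) (e : m2 P X = m2 Y P) : bd ε P * jj ε X = jj ε Y * bd ε P := by
  simp only [m2, Prod.ext_iff] at e
  ext <;> simp [bd, jj, uu] <;> grind

theorem aa_eq (ε : ZMod 3) : aa ε = jj ε (sc 1) := by simp [aa, jj, sc]

theorem uu_eq (hε : ε * ε = 1) (b c x e : ZMod 3) : uu 0 b c x e 0 = jj ε (b, ε * c, x, ε * e) := by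
  simp [jj, ← mul_assoc, hε]

theorem solA (hε : ε * ε = 1) {m : M4} (hm : Dm d m) (e : m * aa ε = aa ε * m) :
    ∃ X P, d2 P * d2 P = 1 ∧ (d ∨ P.2.2.1 = 0) ∧ m = jj ε X * bd ε P := by
  obtain ⟨h0, h1⟩ := hm
  simp only [M4.ext_iff] at e
  simp [aa, uu] at e
  have k : m.a31 = 0 ∧ m.a32 = 0 ∧ m.a41 = 0 ∧ m.a42 = 0 ∧ m.a33 = m.a11 ∧ m.a34 = ε * m.a12 ∧
      m.a43 = ε * m.a21 ∧ m.a44 = m.a22 := by grind
  obtain ⟨k1, k2, k3, k4, k5, k6, k7, k8⟩ := k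
  have hδ : (m.a11 * m.a22 - m.a12 * m.a21) * (m.a11 * m.a22 - m.a12 * m.a21) = 1 := by
    simp [det, k1, k2, k3, k4, k5, k6, k7, k8] at h0
    grind
  generalize hd : m.a11 * m.a22 - m.a12 * m.a21 = δ at hδ
  refine ⟨(δ * (m.a13 * m.a22 - ε * m.a14 * m.a21), δ * (ε * m.a14 * m.a11 - m.a13 * m.a12),
    δ * (m.a23 * m.a22 - ε * m.a24 * m.a21), δ * (ε * m.a24 * m.a11 - m.a23 * m.a12)),
    (m.a11, m.a12, m.a21, m.a22), by simp only [d2, hd, hδ], h1.imp_right fun h => h.1, ?_⟩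
  ext <;> simp [jj, bd, uu, k1, k2, k3, k4, k5, k6, k7, k8] <;> grind

theorem solE (hε : ε * ε = 1) {m : M4} (hm : Pb m) (h4 : m.a11 = 1) (e : m * aa ε = aa ε * m)
    (hX : X.2.2.1 ≠ 0) (e' : m * jj ε X = jj ε X * m) : m = uu 0 m.a13 m.a14 m.a23 m.a24 0 := by
  obtain ⟨h0, h1, h2, h3⟩ := hm
  simp only [M4.ext_iff] at e e' ⊢
  simp [aa, jj, uu, h1, h2, h3, h4] at e e' ⊢
  grind

variable {G : Type*} [Group G] [Finite G] {f : M4 → G}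

theorem fjj (h : Hm d f) (X Y : T2) : f (jj ε X) * f (jj ε Y) = f (jj ε (X + Y)) :=
  h.mul' (jj_dm X) (jj_dm Y) (jj_mul X Y)

theorem jC (h : Hm d f) (X : T2) : f (jj ε X) ∈ Ce (f (aa ε)) := by
  rw [mem_Ce, aa_eq, fjj h, fjj h, add_comm]

theorem mem_aa (h : Hm d f) {g : G} : g ∈ zpowers (f (aa ε)) ↔ ∃ n, f (jj ε (sc n)) = g := by
  rw [aa_eq]
  exact mem_zp (F := fun n => f (jj ε (sc n))) fun x y => by rw [fjj h]; simp [sc]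

theorem pr_jj (h : Hm d f) (n : ZMod 3) (X : T2) :
    pr (f (aa ε)) (f (jj ε (sc n + X))) = pr (f (aa ε)) (f (jj ε X)) := by
  rw [← fjj h, pr_mul (jC h _) (jC h _), (pr_eq_one (jC h _)).2 ((mem_aa h).2 ⟨n, rfl⟩), one_mul]

theorem bC (h : Hm d f) (hε : ε * ε = 1) (hP : Dm d (bd ε P)) : f (bd ε P) ∈ Ce (f (aa ε)) :=
  mem_Ce.2 (h.comm hP (pb_uu ..).dm (by rw [aa_eq]; exact bd_jj hε (by simp [m2, sc])))

theorem mdl (h : Hm d f) (hε : ε * ε = 1) {W : Type} {act : W → V27 → V27} {mw : W → W → W} (pw : W → T2)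
    (h0 : ∀ w, d2 (pw w) * d2 (pw w) = 1 ∧ (d ∨ (pw w).2.2.1 = 0))
    (h1 : ∀ w w', pw (mw w w') = m2 (pw w) (pw w') ∨ pw (mw w w') = -m2 (pw w) (pw w'))
    (h2 : ∀ w u, m2 (pw w) (xu u) = m2 (xu (act w u)) (pw w))
    (h3 : ∀ w w', (∀ u, act w u = act w' u) → w = w')
    (h4 : ∀ P, d2 P * d2 P = 1 → (d ∨ P.2.2.1 = 0) → ∃ w, P = pw w ∨ P = -pw w) :
    Mdl (im (f (aa ε)) h.H) (sdMul act mw) fun p =>
      pr (f (aa ε)) (f (jj ε (xu p.1))) * pr (f (aa ε)) (f (bd ε (pw p.2))) := by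
  have hb : ∀ w, Dm d (bd ε (pw w)) := fun w => bd_dm hε (h0 w).1 (h0 w).2
  have hA : AH fun u => pr (f (aa ε)) (f (jj ε (xu u))) := fun u v => by
    simp only
    rw [← pr_mul (jC h _) (jC h _), fjj h]
    congr 3
    simp only [xu, Prod.ext_iff, Prod.fst_add, Prod.snd_add]
    refine ⟨?_, ?_, ?_, ?_⟩ <;> ring
  refine mdl_sd (s := fun w => pr (f (aa ε)) (f (bd ε (pw w)))) hA (hA.inj fun u e => ?_) (fun w w' => ?_)
    (fun w u => ?_) h3 fun g => ⟨fun hg => ?_, ?_⟩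
  · obtain ⟨n, hn⟩ := (mem_aa h).1 ((pr_eq_one (jC h _)).1 e)
    obtain ⟨-, e1, e2, e3, e4, -⟩ := h.uu_inj hn
    obtain ⟨u1, u2, u3⟩ := u
    simp only [xu, sc, Prod.ext_iff, Prod.fst_zero, Prod.snd_zero] at e1 e2 e3 e4 ⊢
    grind
  · rw [← pr_mul (bC h hε (hb w)) (bC h hε (hb w')), h.mul' (hb w) (hb w') (bd_mul hε _ _)]
    rcases h1 w w' with e | e <;> rw [e]
    rw [bd_neg, h.neg (bd_mul hε (pw w) (pw w') ▸ (hb w).mul (hb w'))]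
  · rw [pr_conj (bC h hε (hb w)) (jC h _), h.cj (hb w) (jj_dm _) (jj_dm _) (bd_jj hε (h2 w u))]
  · obtain ⟨_, ⟨m, hm, rfl⟩, hc, rfl⟩ := mem_im.1 hg
    obtain ⟨X, P, k1, k2, rfl⟩ := solA hε hm (comm_of h hm (pb_uu ..).dm (uu9 ..) (mem_Ce.1 hc))
    obtain ⟨n, u, rfl⟩ := dec_sc X
    obtain ⟨w, e⟩ := h4 P k1 k2
    have k3 := bd_dm hε k1 k2
    refine ⟨u, w, ?_⟩
    rw [h.mul _ _ (jj_dm _) k3, pr_mul (jC h _) (bC h hε k3), pr_jj h]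
    rcases e with rfl | rfl
    · rfl
    · rw [bd_neg, h.neg (hb w)]
  · rintro ⟨u, w, rfl⟩
    exact mul_mem (mem_im.2 ⟨_, h.mH (jj_dm _), jC h _, rfl⟩) (mem_im.2 ⟨_, h.mH (hb w), bC h hε (hb w), rfl⟩)

theorem exists_J (h : Hm d f) (ε : ZMod 3) : ∃ K : Subgroup G, ∀ g, g ∈ K ↔ ∃ X, f (jj ε X) = g := by
  obtain ⟨K, hK⟩ := h.exists_sub (fun p => ∃ X, p = jj ε X) ⟨0, by simp [jj, uu_zero]⟩
    (by rintro _ _ ⟨X, rfl⟩ ⟨Y, rfl⟩; exact ⟨_, jj_mul X Y⟩) (by rintro _ ⟨X, rfl⟩; exact jj_dm X)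
  exact ⟨K, fun g => (hK g).trans ⟨fun ⟨_, ⟨X, e⟩, e'⟩ => ⟨X, e ▸ e'⟩, fun ⟨X, e⟩ => ⟨_, ⟨X, rfl⟩, e⟩⟩⟩

theorem lift_J (h : Hm d f) {g : G} (hg : g ∈ Ce (f (aa ε))) {X Y : T2}
    (e : pr (f (aa ε)) g * pr (f (aa ε)) (f (jj ε X)) * (pr (f (aa ε)) g)⁻¹ = pr (f (aa ε)) (f (jj ε Y))) :
    ∃ Z, g * f (jj ε X) * g⁻¹ = f (jj ε Z) := by
  rw [pr_conj hg (jC h _), eq_comm,
    pr_eq_iff (jC h _) (mul_mem (mul_mem hg (jC h _)) (inv_mem hg)), mem_aa h] at e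
  obtain ⟨n, e⟩ := e
  exact ⟨Y + sc n, by rw [← fjj h, e]; group⟩

theorem zz_eq (hε : ε * ε = 1) : zz = jj ε (0, ε, 0, 0) := by simp [jj, zz, hε]

theorem aH (h : Hm d f) {g : G} (hg : g ∈ Ce (f (aa ε))) : pr (f (aa ε)) g ∈ im (f (aa ε)) h.H ↔ g ∈ h.H :=
  pr_mem_im (h.mH (pb_uu ..).dm) hg

theorem hN (h : Md d d f) (hε : ε * ε = 1) (γ : Ga (f (aa ε)))
    (e : ∀ u, ∃ v, γ * pr (f (aa ε)) (f (jj ε (xu u))) * γ⁻¹ = pr (f (aa ε)) (f (jj ε (xu v)))) :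
    γ ∈ im (f (aa ε)) h.H := by
  obtain ⟨g, hg, rfl⟩ := pr_surj γ
  obtain ⟨n, u, e1⟩ := dec_sc (0, ε, 0, 0)
  obtain ⟨v, e2⟩ := e u
  rw [← pr_jj h.toHm n, ← e1] at e2
  obtain ⟨Z, e3⟩ := lift_J h.toHm hg e2
  exact (aH h.toHm hg).2 (fJ h (zz_eq hε ▸ e3))

theorem hs (h : Md d d f) (hε : ε * ε = 1) (U : Subgroup (Ga (f (aa ε)))) (hU : (Nat.card U).Coprime 3)
    (hn : ∀ v, ∀ u ∈ U, pr (f (aa ε)) (f (jj ε (xu v))) * u * (pr (f (aa ε)) (f (jj ε (xu v))))⁻¹ ∈ U) :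
    U = ⊥ := by
  refine sig_quot (Y := {y | ∃ b c, f (uu 0 b c 0 0 0) = y}) ?_
    (fun U hU hn => sigY h U hU fun b c => hn _ ⟨b, c, rfl⟩) (uu_cube h.toHm (by simp)) hU ?_
  · rintro _ ⟨b, c, rfl⟩
    rw [uu_eq hε b c 0 0]; exact jC h.toHm _
  · rintro _ ⟨b, c, rfl⟩
    obtain ⟨n, v, e⟩ := dec_sc (b, ε * c, 0, ε * 0)
    have k := hn v
    rw [← pr_jj h.toHm n, ← e, ← uu_eq hε b c 0 0] at k
    exact k

theorem hx (h : Md d d f) (hε : ε * ε = 1) (γ : Ga (f (aa ε)))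
    (e : γ * pr (f (aa ε)) (f (bd ε (1, 1, 0, 1))) = pr (f (aa ε)) (f (bd ε (1, 1, 0, 1))) * γ) :
    γ ∈ im (f (aa ε)) h.H := by
  obtain ⟨g, hg, rfl⟩ := pr_surj γ
  have hb : Dm d (bd ε (1, 1, 0, 1)) := bd_dm hε (by decide) (Or.inr rfl)
  have hc := bC h.toHm hε hb
  have e0 : bd ε (1, 1, 0, 1) = uu 1 0 0 0 0 ε := by simp [bd, uu]
  rw [e0] at e hc
  have e1 : (pr (f (aa ε)) g⁻¹) * pr (f (aa ε)) (f (uu 1 0 0 0 0 ε)) * (pr (f (aa ε)) g⁻¹)⁻¹ =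
      pr (f (aa ε)) (f (uu 1 0 0 0 0 ε)) := by
    rw [pr_inv hg, mul_assoc, inv_inv, ← e]; group
  rw [pr_conj (inv_mem hg) hc, eq_comm,
    pr_eq_iff hc (mul_mem (mul_mem (inv_mem hg) hc) (inv_mem (inv_mem hg))), mem_aa h.toHm] at e1
  obtain ⟨n, e1⟩ := e1
  have z1 : ∀ a b c x e k, f zz * f (uu a b c x e k) = f (uu a b c x e k) * f zz := fun a b c x e k => by
    rw [zz, h.uu_mul, h.uu_mul]; simp [add_comm]
  have e2 : g⁻¹ * f (uu 1 0 0 0 0 ε) * g = f (uu 1 0 0 0 0 ε) * f (jj ε (sc n)) := by rw [e1]; group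
  have e3 : g * f zz * g⁻¹ * f (uu 1 0 0 0 0 ε) = f (uu 1 0 0 0 0 ε) * (g * f zz * g⁻¹) := by
    calc _ = g * (f zz * (g⁻¹ * f (uu 1 0 0 0 0 ε) * g)) * g⁻¹ := by group
      _ = _ := by rw [e2, jj, h.uu_mul, z1, ← h.uu_mul, ← jj, ← e2]; group
  have e4 : g * f zz * g⁻¹ * f (aa ε) = f (aa ε) * (g * f zz * g⁻¹) :=
    mem_Ce.1 (mul_mem (mul_mem hg (mem_Ce.2 (z1 ..))) (inv_mem hg))
  refine (aH h.toHm hg).2 (zD h (a := 1) (b := 1) (c := ε) (e := ε) (k := ε) (by grind) ?_)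
  have e5 : f (uu 1 1 ε 0 ε ε) = f (uu 1 0 0 0 0 ε) * f (aa ε) := by rw [aa, h.uu_mul]; simp
  rw [e5, ← mul_assoc, e3, mul_assoc, e4, mul_assoc (f (uu 1 0 0 0 0 ε))]

theorem hC1 (h : Md d d f) {u : V27} {n : ZMod 3} (h0 : d2 (sc n + xu u) = 0) (h1 : sc n + xu u ≠ 0)
    (hε : ε * ε = 1) (hd : d ∨ ((sc n + xu u).2.2.1 = 0 ∧ (sc n + xu u).2.2.2 = 0)) (γ : Ga (f (aa ε)))
    (e : γ * pr (f (aa ε)) (f (jj ε (xu u))) = pr (f (aa ε)) (f (jj ε (xu u))) * γ) :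
    γ ∈ im (f (aa ε)) h.H := by
  obtain ⟨g, hg, rfl⟩ := pr_surj γ
  rw [← pr_jj h.toHm n, ← mul_inv_eq_iff_eq_mul] at e
  obtain ⟨Z, e1⟩ := lift_J h.toHm hg e
  generalize sc n + xu u = X at h0 h1 hd e1
  obtain ⟨k1, k2, k3⟩ := rk_spec X.1 (ε * X.2.1) X.2.2.1 (ε * X.2.2.2) (by simp only [d2] at h0; grind) fun q => by
    obtain ⟨-, q1, q2, q3, q4, -⟩ := uu_inj (q.trans uu_zero.symm)
    obtain ⟨x1, x2, x3, x4⟩ := X
    simp only [ne_eq, Prod.ext_iff, Prod.fst_zero, Prod.snd_zero] at h1 q1 q2 q3 q4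
    grind
  have hm : Dm d (rk X.1 (ε * X.2.1) X.2.2.1 (ε * X.2.2.2)) :=
    ⟨k1, hd.imp_right fun q => (k2 q.1 (by rw [q.2, mul_zero])).2⟩
  have e2 := h.cj hm (jj_dm X) (pb_uu ..).dm k3
  refine (aH h.toHm hg).2 ((mul_mem_cancel_right (inv_mem (h.mH hm))).1 (fJ h (Eq.trans ?_ e1)))
  rw [zz, ← e2]; group

theorem hC2 (h : Md d d f) (hd : ¬d) (hε : ε * ε = 1) (hX : X.2.2.1 ≠ 0) (γ : Ga (f (aa ε)))
    (e : γ * pr (f (aa ε)) (f (jj ε X)) = pr (f (aa ε)) (f (jj ε X)) * γ) : γ ∈ im (f (aa ε)) h.H := by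
  obtain ⟨g, hg, rfl⟩ := pr_surj γ
  obtain ⟨K, hK⟩ := exists_J h.toHm ε
  have cK : ∀ x ∈ K, ∀ y ∈ K, x * y = y * x := fun x hx y hy => by
    obtain ⟨A, rfl⟩ := (hK x).1 hx
    obtain ⟨B, rfl⟩ := (hK y).1 hy
    rw [fjj h.toHm, fjj h.toHm, add_comm]
  have zK : f zz ∈ K := (hK _).2 ⟨_, by rw [zz_eq hε]⟩
  have KN : K ≤ Ce (f (aa ε)) ⊓ Ce (f (jj ε X)) := fun y hy =>
    ⟨by obtain ⟨A, rfl⟩ := (hK y).1 hy; exact jC h.toHm A, mem_Ce.2 (cK _ hy _ ((hK _).2 ⟨X, rfl⟩))⟩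
  have hO : O3' (Ce (f (aa ε)) ⊓ Ce (f (jj ε X))) = ⊥ := sigY h _ (O3'_cop _) fun b c u hu => by
    have : f (uu 0 b c 0 0 0) ∈ K := (hK _).2 ⟨_, by rw [uu_eq hε]⟩
    exact O3'_norm (fun x hx => mul_mem (mul_mem (KN this) hx) (inv_mem (KN this))) hu
  have key : ∀ y ∈ Ce (f (aa ε)) ⊓ Ce (f (jj ε X)), y ∈ K := fun y hy => by
    obtain ⟨u, hu, e⟩ := bur (R := K) (pg3 (n := 1) fun x hx => by
      obtain ⟨A, rfl⟩ := (hK x).1 hx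
      exact uu_cube h.toHm (by simp)) KN (fun y hy hn => by
        obtain ⟨A, e⟩ := (hK _).1 (hn _ zK)
        obtain ⟨m, hm, rfl⟩ := fJ h e.symm
        obtain ⟨m', hm', h4, e⟩ := pb_pos h.toHm (hm.pb hd)
        rw [← e] at hy ⊢
        rw [solE hε hm' h4 (comm_of h.toHm hm'.dm (pb_uu ..).dm (uu9 ..) (mem_Ce.1 hy.1)) hX
          (comm_of h.toHm hm'.dm (pb_uu ..).dm (uu9 ..) (mem_Ce.1 hy.2)), uu_eq hε]
        exact (hK _).2 ⟨_, rfl⟩) cK hy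
    rw [hO, mem_bot] at hu
    simpa [hu] using e
  obtain ⟨Z, e1⟩ := lift_J h.toHm (inv_mem hg) (X := X) (Y := X) (by
    rw [pr_inv hg, mul_assoc, inv_inv, ← e]; group)
  obtain ⟨A, e2⟩ := (hK _).1 (key (g * f zz * g⁻¹) ⟨(Ce _).mul_mem ((Ce _).mul_mem hg (KN zK).1) ((Ce _).inv_mem hg), mem_Ce.2 (by
    calc _ = g * (f zz * (g⁻¹ * f (jj ε X) * g⁻¹⁻¹)) * g⁻¹ := by group
      _ = _ := by rw [e1, cK _ zK _ ((hK _).2 ⟨Z, rfl⟩), ← e1]; group)⟩)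
  exact (aH h.toHm hg).2 (fJ h e2.symm)

theorem centA (h : Md d d f) (hε : ε * ε = 1) {g : G} (hg : g * f (aa ε) = f (aa ε) * g) : g ∈ h.H := by
  refine (aH h.toHm (mem_Ce.2 hg)).1 ?_
  have b1 : pr (f (aa ε)) (f (bd ε (1, 0, 0, 1))) = 1 := by
    rw [show bd ε (1, 0, 0, 1) = 1 by ext <;> simp [bd], h.one, pr_one]
  have j0 : pr (f (aa ε)) (f (jj ε (xu 0))) = 1 := by
    rw [show jj ε (xu 0) = 1 by ext <;> simp [jj, xu, uu], h.one, pr_one]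
  by_cases hd : d
  · have p0 : p24 0 = (1, 0, 0, 1) := by decide
    have p1 : p24 (0, (1, 0)) = (1, 1, 0, 1) := by decide
    refine A648 (mdl h.toHm hε p24 (fun w => ⟨(by decide +kernel : ∀ w, d2 (p24 w) * d2 (p24 w) = 1) w, Or.inl hd⟩)
      (by decide +kernel) (by decide +kernel) (by decide +kernel) fun P hP _ =>
        (by decide +kernel : ∀ P, d2 P * d2 P = 1 → ∃ w, P = p24 w ∨ P = -p24 w) P hP)
      (fun u hu γ => ?_) (fun γ => ?_) (fun γ => ?_) (fun U hU => ?_) _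
    all_goals simp only [p0, p1, b1, j0, mul_one, one_mul]
    · obtain ⟨n, h0, h1⟩ := (by decide +kernel : ∀ u, 2 ≤ wt u → ∃ n, d2 (sc n + xu u) = 0 ∧ sc n + xu u ≠ 0) u hu
      exact hC1 h h0 h1 hε (Or.inl hd) γ
    · exact hx h hε γ
    · exact hN h hε γ
    · exact hs h hε U hU
  · have p0 : p6 0 = (1, 0, 0, 1) := by decide
    have p1 : p6 (1, 0) = (1, 1, 0, 1) := by decide
    refine A162 (mdl h.toHm hε p6 (fun w => ⟨(by decide +kernel : ∀ w, d2 (p6 w) * d2 (p6 w) = 1) w, Or.inr rfl⟩)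
      (by decide +kernel) (by decide +kernel) (by decide +kernel) fun P hP k =>
        (by decide +kernel : ∀ P, d2 P * d2 P = 1 → P.2.2.1 = 0 → ∃ w, P = p6 w ∨ P = -p6 w) P hP
          (k.resolve_left hd))
      (fun u hu γ => ?_) (fun γ => ?_) (fun γ => ?_) (fun U hU => ?_) _
    all_goals simp only [p0, p1, b1, j0, mul_one, one_mul]
    · by_cases k : (xu u).2.2.1 = 0
      · obtain ⟨n, h0, h1, h2⟩ := (by decide +kernel : ∀ u, u ≠ 0 → (xu u).2.2.1 = 0 → ∃ n, d2 (sc n + xu u) = 0 ∧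
          sc n + xu u ≠ 0 ∧ (sc n + xu u).2.2.1 = 0 ∧ (sc n + xu u).2.2.2 = 0) u hu k
        exact hC1 h h0 h1 hε (Or.inr h2) γ
      · exact hC2 h hd hε k γ
    · exact hx h hε γ
    · exact hN h hε γ
    · exact hs h hε U hU

end C1

open C1

variable {G : Type*} [Group G] [Finite G] {d : Prop} {f : M4 → G}

theorem centQ (h : Md d d f) (a b c e k : ZMod 3) (h1 : uu a b c 0 e k ≠ 1) (g : G)
    (hg : g * f (uu a b c 0 e k) = f (uu a b c 0 e k) * g) : g ∈ h.H := by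
  obtain ⟨h2, h3⟩ := tb_spec a b c e k h1
  refine cent_cj h.toHm h2.dm (pb_uu ..).dm (pb_rp ..).dm h3 (fun g e0 => ?_) hg
  unfold rp at e0
  split_ifs at e0 with k1 k2 k3
  · obtain ⟨m, hm, rfl⟩ := nz' h (g := g) (by rw [e0]; group)
    exact h.mH hm.dm
  · exact cent24 h e0
  · exact centA h (ep_sq a b e k k1 k2 k3) e0
  · obtain ⟨a, b, c, k, rfl⟩ := centD h e0
    exact h.mH (pb_uu ..).dm

end H20.L43
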