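import Mathlib
import Cfsg.Agent.Lib.P3L.Defs
import Cfsg.Agent.Lib.P3L.Tools
import Cfsg.Agent.Lib.Odd.B36

/-! The centraliser of the involution `t`: matrices and the local structure. -/

set_option autoImplicit false
set_option linter.style.haveILetI false
set_option linter.unusedSectionVars false

namespace H92.L43

open Cfsg Subgroup H20.L43 H20.L43.M4 H53.Odd H53.Odd.H36

/-- the elementary subgroup of order nine -/
def e9 (u : V9) : M4 := uu 0 0 (u.1 + u.2) (u.1 - u.2) 0 0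

/-- the swap -/
def ww : M4 := ⟨0, 1, 0, 0, 1, 0, 0, 0, 0, 0, 0, 1, 0, 0, 1, 0⟩

/-- the four-group -/
def sw (i : W4) : M4 := (if i.1 = i.2 then 1 else ww) * (if i.1 = 0 then 1 else rr)

/-- block matrices centralising `zz` and `tt` -/
def bz (c p q r s : ZMod 3) : M4 := ⟨1, 0, 0, c, 0, p, q, 0, 0, r, s, 0, 0, 0, 0, 1⟩

/-- the quaternion group -/
def Q8 (p q r s : ZMod 3) : Prop := p * s - q * r = 1 ∧ (p + s = 0 ∨ (q = 0 ∧ r = 0))

instance (p q r s : ZMod 3) : Decidable (Q8 p q r s) := by unfold Q8; infer_instance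

theorem eqns_PC2a : True := by
  have := @e9.eq_1
  have := @ww.eq_1
  have := @sw.eq_1
  have := @bz.eq_1
  have := @Q8.eq_1
  trivial

variable {d : Prop}

theorem pb_e9 (u : V9) : Pb (e9 u) := pb_uu ..

theorem e9_add (u v : V9) : e9 u * e9 v = e9 (u + v) := by
  ext <;> simp [e9, uu] <;> ring

theorem e9_pow9 (u : V9) : e9 u ^ 9 = 1 := uu9 ..

theorem e9_cube (u : V9) : e9 u ^ 3 = 1 := by rw [e9, uu3, mul_zero, uu_zero]

theorem e9_tt (u : V9) : e9 u * tt = tt * e9 u := by ext <;> simp [e9, uu, tt, dg]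

theorem e9_zz : e9 (-1, -1) = zz := by decide

theorem pb_tt : Pb tt := by decide
theorem pb_rr : Pb rr := by decide

theorem dm_sw {i : W4} (h : d ∨ i.1 = i.2) : Dm d (sw i) := by
  have c : ∀ i : W4, (sw i).det = 1 ∧ (i.1 = i.2 → Pb (sw i)) := by decide +kernel
  exact h.elim (fun h => ⟨(c i).1, Or.inl h⟩) fun h => ((c i).2 h).dm

theorem bz_mul (c p q r s c' p' q' r' s' : ZMod 3) : bz c p q r s * bz c' p' q' r' s' =
    bz (c + c') (p * p' + q * r') (p * q' + q * s') (r * p' + s * r') (r * q' + s * s') := by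
  ext <;> simp [bz, add_comm]

theorem pb_bz {p q r s : ZMod 3} (c : ZMod 3) (h : p * s - q * r = 1) : Pb (bz c p q r s) := by
  refine ⟨?_, rfl, rfl, rfl⟩
  simp only [det, bz]
  linear_combination h

theorem q8_mul : ∀ p q r s, Q8 p q r s → ∀ p' q' r' s', Q8 p' q' r' s' →
    Q8 (p * p' + q * r') (p * q' + q * s') (r * p' + s * r') (r * q' + s * s') := by decide +kernel

theorem q8_four : ∀ p q r s, Q8 p q r s → bz 0 p q r s ^ 4 = 1 := by decide +kernel

theorem q8_conj (c : ZMod 3) {p q r s p' q' r' s' : ZMod 3} (b : p' * s' - q' * r' = 1) (a : Q8 p q r s) :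
    ∃ x y z w, Q8 x y z w ∧ bz c p' q' r' s' * bz 0 p q r s = bz 0 x y z w * bz c p' q' r' s' := by
  have k : ∀ p' q' r' s' : ZMod 3, p' * s' - q' * r' = 1 → ∀ p q r s, Q8 p q r s →
      Q8 ((p' * p + q' * r) * s' - (p' * q + q' * s) * r') ((p' * q + q' * s) * p' - (p' * p + q' * r) * q')
        ((r' * p + s' * r) * s' - (r' * q + s' * s) * r') ((r' * q + s' * s) * p' - (r' * p + s' * r) * q') := by
    decide +kernel
  refine ⟨_, _, _, _, k _ _ _ _ b _ _ _ _ a, ?_⟩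
  clear k a
  ext <;> simp [bz] <;> grind

theorem q8_dec (c : ZMod 3) {p q r s : ZMod 3} (b : p * s - q * r = 1) :
    ∃ u x y z w, Q8 x y z w ∧ bz c p q r s * e9 u = bz 0 x y z w := by
  obtain ⟨x, k⟩ := (by decide +kernel : ∀ p q r s : ZMod 3, p * s - q * r = 1 →
    ∃ x, Q8 p (p * x + q) r (r * x + s)) p q r s b
  refine ⟨(c - x, c + x), _, _, _, _, k, ?_⟩
  clear k b
  ext <;> simp [bz, e9, uu] <;> grind

theorem e9_inj {u v : V9} (h1 : u.1 + u.2 = v.1 + v.2) (h2 : u.1 - u.2 = v.1 - v.2) : u = v :=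
  Prod.ext (by grind) (by grind)

theorem blk {m : M4} (h1 : m.det = 1) (h2 : m * tt = tt * m) (h3 : m.a41 = 0) (h4 : m.a32 = 0) :
    ∃ u, ∃ i : W4, i.1 = i.2 ∧ ∃ n ∈ [1, -1, tt, -tt], m = e9 u * sw i * n := by
  obtain ⟨a11, a12, a13, a14, a21, a22, a23, a24, a31, a32, a33, a34, a41, a42, a43, a44⟩ := m
  simp only [M4.ext_iff] at h2
  simp [tt, dg] at h2 h3 h4
  have e : a12 = 0 ∧ a13 = 0 ∧ a21 = 0 ∧ a24 = 0 ∧ a31 = 0 ∧ a34 = 0 ∧ a42 = 0 ∧ a43 = 0 := by grind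
  obtain ⟨rfl, rfl, rfl, rfl, rfl, rfl, rfl, rfl⟩ := e
  subst h3 h4
  have c : ∀ a b c e : ZMod 3, a * b * c * e = 1 → ∃ i : W4, i.1 = i.2 ∧ ∃ n ∈ [1, -1, tt, -tt],
      dg a b c e = sw i * n ∧ e * e = 1 ∧ c * c = 1 := by decide +kernel
  obtain ⟨i, hi, n, hn, e1, e2, e3⟩ := c a11 a22 a33 a44 (by simpa [det] using h1)
  refine ⟨(-(a14 * a44 + a23 * a33), a23 * a33 - a14 * a44), i, hi, n, hn, ?_⟩
  rw [mul_assoc, ← e1]
  ext <;> simp [e9, uu, dg] <;> grind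

theorem low {m : M4} {u v : V9} (h : m * e9 u = e9 v * m) :
    (u.1 + u.2 ≠ 0 → m.a41 = 0) ∧ (u.1 - u.2 ≠ 0 → m.a32 = 0) := by
  have h1 := congrArg a44 h
  have h2 := congrArg a33 h
  simp [e9, uu] at h1 h2
  exact ⟨fun a => h1.resolve_right a, fun a => h2.resolve_right a⟩

theorem low' {m : M4} {u v : V9} (h : m * e9 u = e9 v * m) :
    (u.1 + u.2 ≠ 0 → m.a31 = 0) ∧ (u.1 - u.2 ≠ 0 → m.a42 = 0) := by
  have h1 := congrArg a34 h
  have h2 := congrArg a43 h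
  simp [e9, uu] at h1 h2
  exact ⟨fun a => h1.resolve_right a, fun a => h2.resolve_right a⟩

theorem plus {m : M4} (h : Pb m) : m * tt ≠ -(tt * m) := fun e => by
  have h1 := congrArg a11 e
  have h2 := h.1
  simp [tt, dg] at h1
  have : m.a11 = 0 := by grind
  simp [det, this, h.2] at h2

theorem blkz {m : M4} (h : Pb m) (h2 : m * tt = tt * m) (h3 : m * zz = zz * m) :
    ∃ c p q r s, p * s - q * r = 1 ∧ (m = bz c p q r s ∨ m = -bz c p q r s) := by
  obtain ⟨a11, a12, a13, a14, a21, a22, a23, a24, a31, a32, a33, a34, a41, a42, a43, a44⟩ := m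
  obtain ⟨h1, k1, k2, k3⟩ := h
  simp only at k1 k2 k3
  subst k1 k2 k3
  simp only [M4.ext_iff] at h2 h3
  simp [tt, dg, zz, uu] at h2 h3
  have e : a12 = 0 ∧ a13 = 0 ∧ a24 = 0 ∧ a34 = 0 ∧ a42 = 0 ∧ a43 = 0 ∧ a44 = a11 := by grind
  obtain ⟨rfl, rfl, rfl, rfl, rfl, rfl, rfl⟩ := e
  simp [det] at h1
  rcases (by decide : ∀ a : ZMod 3, a = 0 ∨ a = 1 ∨ a = -1) a44 with rfl | rfl | rfl
  · simp at h1
  · exact ⟨a14, a22, a23, a32, a33, by linear_combination h1, Or.inl rfl⟩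
  · exact ⟨-a14, -a22, -a23, -a32, -a33, by linear_combination h1, Or.inr (by ext <;> simp [bz])⟩

theorem rank2 {m : M4} (h : m.det = 1) {a b : ZMod 3} (e : m * zz = uu 0 a b (-b) a 0 * m) :
    a = 0 ∧ b = 0 := by
  by_contra hn
  simp only [M4.ext_iff] at e
  simp [zz, uu] at e
  have c : ∀ a b x y : ZMod 3, ¬(a = 0 ∧ b = 0) → a * x + b * y = 0 → -(b * x) + a * y = 0 →
    x = 0 ∧ y = 0 := by decide
  have e1 := c a b m.a31 m.a41 hn (by grind) (by grind)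
  have e2 := c a b m.a32 m.a42 hn (by grind) (by grind)
  have e3 := c a b m.a33 m.a43 hn (by grind) (by grind)
  simp [det, e1, e2, e3] at h

end H92.L43
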